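import Cfsg.Agent.RuD.Letters

/-!
# `2.Ru`: the subgroup `P1 = C_X(z)^∞` of `X = RuOrder.H`, `z = S * S`

`P1 = ⟨s₁, T, D, Y⟩`, `s₁ = F S F⁻¹`; it contains `s₀ = S`, `s₂, ..., s₆` and the conjugates of `T` under `D`.
Order 122880 = 2^11 · 60; `P1 = R ⋊ ⟨T, D, Y⟩`, `⟨T, D, Y⟩ ≃ A₅`.
-/

set_option autoImplicit false

namespace Cfsg.Agent.OddHalf.D9.Ru.XDef

open Cfsg.Agent.SporadicB Cfsg.Agent.RuD.Letters

/-- `s₁` -/
noncomputable def S1 : RuOrder.H := F * S * F⁻¹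

/-- the group `P1` -/
noncomputable def P1 : Subgroup RuOrder.H := Subgroup.closure {S1, T, D, Y}

theorem S1_mem : S1 ∈ P1 := Subgroup.subset_closure (by simp)
theorem T_mem : T ∈ P1 := Subgroup.subset_closure (by simp)
theorem D_mem : D ∈ P1 := Subgroup.subset_closure (by simp)
theorem Y_mem : Y ∈ P1 := Subgroup.subset_closure (by simp)

end Cfsg.Agent.OddHalf.D9.Ru.XDef
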