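import Cfsg.Agent.RuD.Model
import Cfsg.Agent.OddHalf.Table.RuInv

/-!
# The Rudvalis group: two classes of involutions in the letters of `RuD`, the centraliser of `Sz(8)`

* `isConj_or`: an involution of `RuOrder.H` is conjugate to `S * S` or to `T`;
* `not_isConj`: these are not conjugate (fixed points);
* `sq_of_comm`: an element commuting with `S`, `W`, `F` has square 1 (it is `1`, `T`, `D T D⁻¹` or the product);
* `e_mul`: `S² · F S² F⁻¹ = F³ S² F⁻³`;
* `perfect_Y`: the group generated by `S`, `W`, `F` is perfect.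
-/

set_option autoImplicit false
set_option maxRecDepth 100000
set_option exponentiation.threshold 5000

namespace Cfsg.Agent.OddHalf.D9.Ru.XLevel

open Cfsg.Agent.Lib.BitNet Cfsg.Agent.Lib.BitNetSimple Cfsg.Agent.SporadicB Cfsg.Agent.SporadicB.RuData
open Cfsg.Agent.RuD.Letters Cfsg.Agent.SporRec.TCUpperCert Cfsg.Agent.OddHalf.Table

/-! ### fixed points -/

/-- a product of networks (the last one acts first) -/
def appC : List (List (ℕ × ℕ)) → ℕ → ℕ
  | [], i => i
  | n :: ns, i => app n (appC ns i)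

/-- the image of a set of points -/
noncomputable def img (ns : List (List (ℕ × ℕ))) (M : ℕ) : ℕ :=
  List.rec (motive := fun _ => ℕ) M (fun n _ ih => force ih (appMF n)) ns

theorem testBit_img (M i : ℕ) : ∀ ns : List (List (ℕ × ℕ)), (∀ n ∈ ns, Valid n) →
    (img ns M).testBit (appC ns i) = M.testBit i
  | [], _ => rfl
  | n :: ns, h => by
    have e : img (n :: ns) M = force (img ns M) (appMF n) := rfl
    rw [e, force_eq, appMF_eq, appC, testBit_appM (h n List.mem_cons_self),
      testBit_img M i ns (fun n' h' => h n' (List.mem_cons_of_mem _ h'))]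

/-- the fixed points -/
noncomputable def fixN (ns : List (List (ℕ × ℕ))) (k : ℕ) : ℕ :=
  Nat.rec RuCent.U (fun j ih => force ih fun M => force (idxMask 12 j) fun P =>
    Nat.xor M (Nat.land M (Nat.xor P (img ns P)))) k

theorem testBit_fixN {ns : List (List (ℕ × ℕ))} (hv : ∀ n ∈ ns, Valid n) {p : Fin 4060} (h : appC ns p = p) :
    ∀ k, (fixN ns k).testBit p = true
  | 0 => RuCent.testBit_U p
  | k + 1 => by
    have e : fixN ns (k + 1) = force (fixN ns k) (fun M => force (idxMask 12 k) fun P =>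
      Nat.xor M (Nat.land M (Nat.xor P (img ns P)))) := rfl
    rw [e, force_eq, force_eq]
    change (fixN ns k ^^^ (fixN ns k &&& (idxMask 12 k ^^^ img ns (idxMask 12 k)))).testBit p = true
    have h1 : (img ns (idxMask 12 k)).testBit p = (idxMask 12 k).testBit p := by
      conv_lhs => rw [← h]
      exact testBit_img _ _ _ hv
    rw [Nat.testBit_xor, Nat.testBit_and, Nat.testBit_xor, h1, testBit_fixN hv h k, Bool.xor_self]
    rfl

theorem mem_of_fixN {ns : List (List (ℕ × ℕ))} (hv : ∀ n ∈ ns, Valid n) {l : List ℕ}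
    (hl : Nat.beq (fixN ns 12) (RuCent.mask l) = true) {p : Fin 4060} (h : appC ns p = p) : (p : ℕ) ∈ l := by
  have h1 := testBit_fixN hv h 12
  rw [Nat.eq_of_beq_eq_true hl] at h1
  exact RuCent.mem_of_testBit_mask l h1

/-- `x` has a fixed point -/
def HasFix (x : RuOrder.H) : Prop := ∃ p : Fin 4060, (x : Equiv.Perm (Fin 4060)) p = p

theorem HasFix.of_isConj {x y : RuOrder.H} (hx : HasFix x) (h : IsConj x y) : HasFix y := by
  obtain ⟨g, rfl⟩ := isConj_iff.1 h
  obtain ⟨p, hp⟩ := hx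
  refine ⟨(g : Equiv.Perm (Fin 4060)) p, ?_⟩
  change (g : Equiv.Perm (Fin 4060)) ((x : Equiv.Perm (Fin 4060))
    (((g : Equiv.Perm (Fin 4060)))⁻¹ ((g : Equiv.Perm (Fin 4060)) p))) = (g : Equiv.Perm (Fin 4060)) p
  rw [RuCent.inv_self, hp]

theorem fixT : Nat.beq (fixN [Cfsg.Agent.RuD.Data.nT] 12) (RuCent.mask []) = true := by decide +kernel
theorem fix0 : Nat.beq (fixN [Cfsg.Agent.Schreier.RuNet.n0] 12) (RuCent.mask []) = true := by decide +kernel
/-- `F W S³`, of order 13 -/
def nsU : List (List (ℕ × ℕ)) := [Cfsg.Agent.RuD.Data.nF, Cfsg.Agent.RuD.Data.nW, Cfsg.Agent.RuD.Data.nS,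
  Cfsg.Agent.RuD.Data.nS, Cfsg.Agent.RuD.Data.nS]
theorem fixU : Nat.beq (fixN nsU 12) (RuCent.mask [2692, 3915, 1761, 2606]) = true := by decide +kernel

theorem not_fix_T : ¬ HasFix T := by
  rintro ⟨p, hp⟩
  have h1 : ((T : RuOrder.H) : Equiv.Perm (Fin 4060)) p = (app Cfsg.Agent.RuD.Data.nT p : ℕ) := rfl
  rw [hp] at h1
  have := mem_of_fixN (ns := [Cfsg.Agent.RuD.Data.nT]) (by
    intro n hn
    rw [List.mem_singleton.1 hn]
    exact (okNet_sound okT).valid) fixT (p := p) h1.symm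
  exact absurd this List.not_mem_nil

theorem not_fix_g0 : ¬ HasFix (Cfsg.Agent.Schreier.RuSyl.g 0) := by
  rintro ⟨p, hp⟩
  rw [Cfsg.Agent.Schreier.RuSyl.g_eq_L 0 (by norm_num)] at hp
  have h1 := Cfsg.Agent.Schreier.RuSyl.L_apply 0 p
  rw [hp] at h1
  have := mem_of_fixN (ns := [Cfsg.Agent.Schreier.RuNet.n0]) (by
    intro n hn
    rw [List.mem_singleton.1 hn]
    exact (okNet_sound Cfsg.Agent.Schreier.RuMem.ok0).valid) fix0 (p := p) h1.symm
  exact absurd this List.not_mem_nil

theorem fix_g13 : HasFix (Cfsg.Agent.Schreier.RuSyl.g 13) := by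
  refine ⟨⟨10, by norm_num⟩, Fin.ext ?_⟩
  have h1 := Cfsg.Agent.Schreier.RuSyl.W_apply ⟨10, by norm_num⟩ (Cfsg.Agent.Schreier.RuSyl.gwd 13)
  refine h1.trans ?_
  have h2 : Nat.beq (Cfsg.Agent.Schreier.RuSyl.ev (Cfsg.Agent.Schreier.RuSyl.gwd 13) 10) 10 = true := by
    decide +kernel
  exact Nat.eq_of_beq_eq_true h2

theorem wSS : (wprod ml [1, 1] : RuOrder.H) = S * S := by
  rw [wprod_cons, wprod_cons, wprod_nil, mul_one]; rfl

theorem fix_SS : HasFix (S * S) := by
  refine ⟨⟨145, by norm_num⟩, Fin.ext ?_⟩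
  rw [← wSS, evalK_eq]
  have h2 : Nat.beq (evalK [1, 1] 145) 145 = true := by decide +kernel
  exact Nat.eq_of_beq_eq_true h2

theorem SS_sq : S * S * (S * S) = 1 := by
  have h1 := rel_of_chk (rels := [[1, 1, 1, 1]]) (by decide +kernel) _ (List.mem_singleton.2 rfl)
  rw [wprod_cons, wprod_cons, wprod_cons, wprod_cons, wprod_nil, mul_one] at h1
  have h2 : S * (S * (S * S)) = 1 := h1
  rw [← h2]; group

theorem TT : T * T = 1 := by
  have h1 := rel_of_chk (rels := [[0, 0]]) (by decide +kernel) _ (List.mem_singleton.2 rfl)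
  rw [wprod_cons, wprod_cons, wprod_nil, mul_one] at h1
  exact h1

theorem T_ne : T ≠ 1 := by
  intro h
  apply not_fix_T
  rw [h]
  exact ⟨⟨0, by norm_num⟩, rfl⟩

theorem SS_ne : S * S ≠ 1 := by
  intro h
  have h1 := evalK_eq [1, 1] ⟨0, by norm_num⟩
  rw [wSS, h] at h1
  have h2 : Nat.beq (evalK [1, 1] 0) 0 = false := by decide +kernel
  have h3 : evalK [1, 1] 0 = 0 := h1.symm
  rw [h3] at h2
  exact absurd h2 (by decide)

theorem isConj_SS : IsConj (Cfsg.Agent.Schreier.RuSyl.g 13) (S * S) := by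
  rcases RuInv.isConj_or SS_sq SS_ne with h | h
  · exact h
  · exact absurd (fix_SS.of_isConj h.symm) not_fix_g0

theorem isConj_T : IsConj (Cfsg.Agent.Schreier.RuSyl.g 0) T := by
  rcases RuInv.isConj_or TT T_ne with h | h
  · exact absurd (fix_g13.of_isConj h) not_fix_T
  · exact h

/-- two classes of involutions -/
theorem isConj_or {x : RuOrder.H} (h2 : x * x = 1) (h1 : x ≠ 1) : IsConj (S * S) x ∨ IsConj T x := by
  rcases RuInv.isConj_or h2 h1 with h | h
  · exact Or.inl (isConj_SS.symm.trans h)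
  · exact Or.inr (isConj_T.symm.trans h)

theorem not_isConj : ¬ IsConj (S * S) T := fun h => not_fix_T (fix_SS.of_isConj h)

/-! ### the centraliser of `Sz(8)` -/

/-- the points with the same adjacencies as `w` to the points on a path -/
noncomputable def cutP (w : ℕ) (path : List ℕ) : ℕ → ℕ → ℕ :=
  List.rec (motive := fun _ => ℕ → ℕ → ℕ) (fun _ M => M) (fun l _ ih a M =>
    force (bif tb (row a) w then Nat.land M (row a) else Nat.xor M (Nat.land M (row a))) fun M' =>
      force (appK (nthL NL l) a) fun a' => ih a' M') path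

theorem cutP_cons (w l : ℕ) (path : List ℕ) (a M : ℕ) : cutP w (l :: path) a M =
    cutP w path (appK (nthL NL l) a)
      (bif tb (row a) w then Nat.land M (row a) else Nat.xor M (Nat.land M (row a))) := by
  have e : cutP w (l :: path) a M =
    force (bif tb (row a) w then Nat.land M (row a) else Nat.xor M (Nat.land M (row a))) (fun M' =>
      force (appK (nthL NL l) a) fun a' => cutP w path a' M') := rfl
  rw [e, force_eq, force_eq]

theorem cutP_sound {σ : RuOrder.H} (w : Fin 4060) : ∀ (path : List ℕ) (a : Fin 4060) (M : ℕ),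
    (∀ l ∈ path, σ * lv ml l = lv ml l * σ) → (σ : Equiv.Perm (Fin 4060)) a = a →
    M.testBit ((σ : Equiv.Perm (Fin 4060)) w) = true →
    (cutP w path a M).testBit ((σ : Equiv.Perm (Fin 4060)) w) = true
  | [], _, _, _, _, hM => hM
  | l :: path, a, M, hc, ha, hM => by
    rw [cutP_cons, appK_eq, nthL_eq, ← lv_apply]
    refine cutP_sound w path _ _ (fun l' h' => hc l' (List.mem_cons_of_mem _ h')) ?_ ?_
    · have h1 := hc l List.mem_cons_self
      have h2 : (σ * lv ml l : RuOrder.H).1 a = (lv ml l * σ : RuOrder.H).1 a := by rw [h1]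
      change (σ : Equiv.Perm (Fin 4060)) (((lv ml l : RuOrder.H) : Equiv.Perm (Fin 4060)) a) =
        ((lv ml l : RuOrder.H) : Equiv.Perm (Fin 4060)) ((σ : Equiv.Perm (Fin 4060)) a) at h2
      rw [h2, ha]
    · have h2 : (row a).testBit ((σ : Equiv.Perm (Fin 4060)) w) = (row a).testBit w := by
        have := σ.2 a w
        rwa [ha] at this
      rw [tb_eq]
      cases h3 : (row a).testBit w
      · rw [cond_false]
        change (M ^^^ (M &&& row a)).testBit ((σ : Equiv.Perm (Fin 4060)) w) = true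
        rw [Nat.testBit_xor, Nat.testBit_and, hM, h2, h3]; rfl
      · rw [cond_true]
        change (M &&& row a).testBit ((σ : Equiv.Perm (Fin 4060)) w) = true
        rw [Nat.testBit_and, hM, h2, h3]; rfl

def path : List ℕ := [3, 1, 2, 3, 1, 2, 3, 3, 3, 1, 3, 2, 3, 3]

theorem cut0 : Nat.beq (cutP 0 path 2692 RuCent.U) (Nat.pow 2 0) = true := by decide +kernel
theorem cut1 : Nat.beq (cutP 29 path 2692 RuCent.U) (Nat.pow 2 29) = true := by decide +kernel
theorem cut2 : Nat.beq (cutP 580 path 2692 RuCent.U) (Nat.pow 2 580) = true := by decide +kernel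
theorem cut3 : Nat.beq (cutP 577 path 2692 RuCent.U) (Nat.pow 2 577) = true := by decide +kernel

/-- `σ` commutes with `S`, `W`, `F` -/
structure Cm (σ : RuOrder.H) : Prop where
  s : σ * S = S * σ
  w : σ * W = W * σ
  f : σ * F = F * σ

theorem Cm.mul {σ τ : RuOrder.H} (h : Cm σ) (k : Cm τ) : Cm (σ * τ) where
  s := by rw [mul_assoc, k.s, ← mul_assoc, h.s, mul_assoc]
  w := by rw [mul_assoc, k.w, ← mul_assoc, h.w, mul_assoc]
  f := by rw [mul_assoc, k.f, ← mul_assoc, h.f, mul_assoc]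

theorem Cm.inv {σ : RuOrder.H} (h : Cm σ) : Cm σ⁻¹ where
  s := by rw [inv_mul_eq_iff_eq_mul, ← mul_assoc, h.s, mul_assoc, mul_inv_cancel, mul_one]
  w := by rw [inv_mul_eq_iff_eq_mul, ← mul_assoc, h.w, mul_assoc, mul_inv_cancel, mul_one]
  f := by rw [inv_mul_eq_iff_eq_mul, ← mul_assoc, h.f, mul_assoc, mul_inv_cancel, mul_one]

theorem Cm.letr {σ : RuOrder.H} (h : Cm σ) {l : ℕ} (hl : l ∈ [1, 2, 3]) : σ * lv ml l = lv ml l * σ := by
  simp only [List.mem_cons, List.not_mem_nil, or_false] at hl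
  rcases hl with rfl | rfl | rfl
  · exact h.s
  · exact h.w
  · exact h.f

theorem Cm.eq_one {σ : RuOrder.H} (h : Cm σ)
    (h1 : (σ : Equiv.Perm (Fin 4060)) ⟨2692, by norm_num⟩ = ⟨2692, by norm_num⟩) : σ = 1 := by
  have key : ∀ w : Fin 4060, Nat.beq (cutP w path 2692 RuCent.U) (Nat.pow 2 w) = true →
      (σ : Equiv.Perm (Fin 4060)) w = w := by
    intro w hw
    have h2 := cutP_sound (σ := σ) w path ⟨2692, by norm_num⟩ RuCent.U (fun l hl => h.letr (by
      revert l
      decide)) h1 (RuCent.testBit_U _)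
    change (cutP w path 2692 RuCent.U).testBit _ = true at h2
    rw [Nat.eq_of_beq_eq_true hw] at h2
    change (2 ^ (w : ℕ)).testBit ((σ : Equiv.Perm (Fin 4060)) w) = true at h2
    rw [Nat.testBit_two_pow] at h2
    apply Fin.ext
    have : (w : ℕ) = ((σ : Equiv.Perm (Fin 4060)) w : ℕ) := by simpa using h2
    exact this.symm
  apply eq_one_of_base
  · exact key ⟨0, by norm_num⟩ cut0
  · exact key ⟨29, by norm_num⟩ cut1
  · exact key ⟨580, by norm_num⟩ cut2
  · exact key ⟨577, by norm_num⟩ cut3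

/-- the relations for an element `v` of the centraliser -/
def vrels (v : List ℕ) : List (List ℕ) := [v ++ v, v ++ [1] ++ v ++ [6], v ++ [2] ++ v ++ [2], v ++ [3] ++ v ++ [7]]

theorem Cm.of_rels {v : List ℕ} (h : chkRel (vrels v) = true) :
    Cm (wprod ml v) ∧ (wprod ml v : RuOrder.H) * wprod ml v = 1 := by
  have h0 := rel_of_chk h (v ++ v) (by simp [vrels])
  have h1 := rel_of_chk h (v ++ [1] ++ v ++ [6]) (by simp [vrels])
  have h2 := rel_of_chk h (v ++ [2] ++ v ++ [2]) (by simp [vrels])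
  have h3 := rel_of_chk h (v ++ [3] ++ v ++ [7]) (by simp [vrels])
  rw [wprod_append] at h0
  have e1 : (wprod ml [1] : RuOrder.H) = S := by rw [wprod_cons, wprod_nil, mul_one]; rfl
  have e2 : (wprod ml [2] : RuOrder.H) = W := by rw [wprod_cons, wprod_nil, mul_one]; rfl
  have e3 : (wprod ml [3] : RuOrder.H) = F := by rw [wprod_cons, wprod_nil, mul_one]; rfl
  have e6 : (wprod ml [6] : RuOrder.H) = S⁻¹ := by rw [wprod_cons, wprod_nil, mul_one]; rfl
  have e7 : (wprod ml [7] : RuOrder.H) = F⁻¹ := by rw [wprod_cons, wprod_nil, mul_one]; rfl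
  rw [wprod_append, wprod_append, wprod_append, e1, e6] at h1
  rw [wprod_append, wprod_append, wprod_append, e2] at h2
  rw [wprod_append, wprod_append, wprod_append, e3, e7] at h3
  have hi : (wprod ml v : RuOrder.H)⁻¹ = wprod ml v := inv_eq_of_mul_eq_one_left h0
  have hW : W * W = 1 := by
    have h1 := rel_of_chk (rels := [[2, 2]]) (by decide +kernel) _ (List.mem_singleton.2 rfl)
    rw [wprod_cons, wprod_cons, wprod_nil, mul_one] at h1
    exact h1
  refine ⟨⟨?_, ?_, ?_⟩, h0⟩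
  · have h4 := mul_inv_eq_one.1 h1
    rw [← eq_mul_inv_iff_mul_eq, hi] at h4
    exact h4
  · have h4 := eq_inv_of_mul_eq_one_left h2
    rw [inv_eq_of_mul_eq_one_left hW, ← eq_mul_inv_iff_mul_eq, hi] at h4
    exact h4
  · have h4 := mul_inv_eq_one.1 h3
    rw [← eq_mul_inv_iff_mul_eq, hi] at h4
    exact h4

theorem rT : chkRel (vrels [0]) = true := by decide +kernel
theorem rT1 : chkRel (vrels [4, 0, 8]) = true := by decide +kernel
theorem rTT1 : chkRel (vrels [0, 4, 0, 8]) = true := by decide +kernel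

theorem im : Nat.beq (evalK [3, 2, 1, 1, 1] 2692) 2692 = true ∧ Nat.beq (evalK [0] 2692) 3915 = true ∧
    Nat.beq (evalK [4, 0, 8] 2692) 1761 = true ∧ Nat.beq (evalK [0, 4, 0, 8] 2692) 2606 = true := by
  refine ⟨?_, ?_, ?_, ?_⟩ <;> decide +kernel

theorem Cm.eq_of_apply {σ : RuOrder.H} (h : Cm σ) {v : List ℕ} {b : ℕ} (hv : chkRel (vrels v) = true)
    (hb : Nat.beq (evalK v 2692) b = true)
    (h1 : ((σ : Equiv.Perm (Fin 4060)) ⟨2692, by norm_num⟩ : ℕ) = b) : σ = wprod ml v := by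
  obtain ⟨hc, h0⟩ := Cm.of_rels hv
  have h2 := evalK_eq v ⟨2692, by norm_num⟩
  change _ = evalK v 2692 at h2
  rw [Nat.eq_of_beq_eq_true hb, ← h1] at h2
  have h3 := Fin.ext h2
  have h4 := (hc.inv.mul h).eq_one (by
    change ((wprod ml v : RuOrder.H) : Equiv.Perm (Fin 4060))⁻¹ ((σ : Equiv.Perm (Fin 4060)) ⟨2692, by norm_num⟩) = _
    rw [← h3]
    exact RuCent.inv_self _ _)
  exact (inv_mul_eq_one.1 h4).symm

/-- the elements commuting with `Sz(8)` -/
theorem Cm.cases {σ : RuOrder.H} (h : Cm σ) : σ = 1 ∨ σ = T ∨ σ = D * T * D⁻¹ ∨ σ = T * (D * T * D⁻¹) := by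
  have hu : σ * wprod ml [3, 2, 1, 1, 1] = wprod ml [3, 2, 1, 1, 1] * σ := by
    have e : (wprod ml [3, 2, 1, 1, 1] : RuOrder.H) = F * (W * (S * (S * S))) := by
      rw [wprod_cons, wprod_cons, wprod_cons, wprod_cons, wprod_cons, wprod_nil, mul_one]; rfl
    have c1 : Commute σ F := h.f
    have c2 : Commute σ W := h.w
    have c3 : Commute σ S := h.s
    rw [e]
    exact (c1.mul_right (c2.mul_right (c3.mul_right (c3.mul_right c3)))).eq
  have h1 : ((wprod ml [3, 2, 1, 1, 1] : RuOrder.H) : Equiv.Perm (Fin 4060)) ⟨2692, by norm_num⟩ =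
      ⟨2692, by norm_num⟩ := by
    apply Fin.ext
    rw [evalK_eq]
    exact Nat.eq_of_beq_eq_true im.1
  have h2 : ((wprod ml [3, 2, 1, 1, 1] : RuOrder.H) : Equiv.Perm (Fin 4060))
      ((σ : Equiv.Perm (Fin 4060)) ⟨2692, by norm_num⟩) = (σ : Equiv.Perm (Fin 4060)) ⟨2692, by norm_num⟩ := by
    have h3 : (σ * wprod ml [3, 2, 1, 1, 1] : RuOrder.H).1 ⟨2692, by norm_num⟩ =
        (wprod ml [3, 2, 1, 1, 1] * σ : RuOrder.H).1 ⟨2692, by norm_num⟩ := by rw [hu]
    change (σ : Equiv.Perm (Fin 4060)) (((wprod ml [3, 2, 1, 1, 1] : RuOrder.H) : Equiv.Perm (Fin 4060)) _) = _ at h3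
    rw [h1] at h3
    exact h3.symm
  have h3 := evalK_eq [3, 2, 1, 1, 1] ((σ : Equiv.Perm (Fin 4060)) ⟨2692, by norm_num⟩)
  rw [h2] at h3
  have h4 : ((σ : Equiv.Perm (Fin 4060)) ⟨2692, by norm_num⟩ : ℕ) ∈ [2692, 3915, 1761, 2606] := by
    refine mem_of_fixN (ns := nsU) ?_ fixU ?_
    · intro n hn
      simp only [nsU, List.mem_cons, List.not_mem_nil, or_false] at hn
      rcases hn with rfl | rfl | rfl | rfl | rfl
      · exact (okNet_sound okF).valid
      · exact (okNet_sound okW).valid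
      · exact (okNet_sound okS).valid
      · exact (okNet_sound okS).valid
      · exact (okNet_sound okS).valid
    · refine Eq.trans ?_ h3.symm
      have e : ∀ i : ℕ, evalK [3, 2, 1, 1, 1] i = appC nsU i := by
        intro i
        change forceN (forceN (forceN (forceN (forceN i (appK (nthL NL 1))) (appK (nthL NL 1))) (appK (nthL NL 1)))
          (appK (nthL NL 2))) (appK (nthL NL 3)) = _
        rw [forceN_eq, forceN_eq, forceN_eq, forceN_eq, forceN_eq, appK_eq, appK_eq, appK_eq, appK_eq, appK_eq]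
        rfl
      exact (e _).symm
  simp only [List.mem_cons, List.not_mem_nil, or_false] at h4
  rcases h4 with h4 | h4 | h4 | h4
  · left
    exact h.eq_one (Fin.ext h4)
  · right; left
    rw [h.eq_of_apply rT im.2.1 h4, wprod_cons, wprod_nil, mul_one]; rfl
  · right; right; left
    rw [h.eq_of_apply rT1 im.2.2.1 h4, wprod_cons, wprod_cons, wprod_cons, wprod_nil, mul_one, ← mul_assoc]; rfl
  · right; right; right
    rw [h.eq_of_apply rTT1 im.2.2.2 h4, wprod_cons, wprod_cons, wprod_cons, wprod_cons, wprod_nil, mul_one,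
      ← mul_assoc (lv ml 4)]; rfl

theorem Cm.sq {σ : RuOrder.H} (h : Cm σ) : σ * σ = 1 := by
  rcases h.cases with rfl | rfl | rfl | rfl
  · exact one_mul 1
  · exact TT
  · have := (Cm.of_rels rT1).2
    rw [wprod_cons, wprod_cons, wprod_cons, wprod_nil, mul_one, ← mul_assoc (lv ml 4)] at this
    exact this
  · have := (Cm.of_rels rTT1).2
    rw [wprod_cons, wprod_cons, wprod_cons, wprod_cons, wprod_nil, mul_one, ← mul_assoc (lv ml 4)] at this
    exact this

end Cfsg.Agent.OddHalf.D9.Ru.XLevel
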