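import Cfsg.Agent.KFacts.Ru.Core
import Cfsg.Agent.OddHalf.D9.Ru.XDef
import Cfsg.Agent.OddHalf.D9.Ru.XLevel

/-!
# `2.Ru`: the centraliser of `z = S * S` in `X = RuOrder.H` and its subgroup `P1`

* `odd`: `C(z)` has odd index; * `P1_le`, `P1_perf`: `P1 ≤ C(z)` is perfect;
* `cover`: `C(z) = P1 ∪ h P1`, `h` and `h z` conjugate to `z`.
-/

set_option autoImplicit false
set_option maxRecDepth 100000
set_option exponentiation.threshold 5000

namespace Cfsg.Agent.OddHalf.D9.Ru.XCover

open Subgroup Cfsg.Agent.Lib.BitNet Cfsg.Agent.Lib.BitNetSimple Cfsg.Agent.SporadicB Cfsg.Agent.SporadicB.RuData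
open Cfsg.Agent.RuD.Letters Cfsg.Agent.RuD.Model Cfsg.Agent.SporRec.TCUpperCert
open Cfsg.Agent.OddHalf.D9.Ru.XLevel Cfsg.Agent.OddHalf.D9.Ru.XDef Cfsg.Agent.KFacts.Ru
open scoped commutatorElement

/-! ### words for the elements of `P1` -/

/-- words for `S1, T, D, Y, S1⁻¹, D⁻¹` -/
def pl : List (List ℕ) := [[3, 1, 7], [0], [4], [5], [3, 6, 7], [8]]

def exP : List ℕ → List ℕ
  | [] => []
  | a :: u => pl.getD a [] ++ exP u

theorem wprod_pl (a : ℕ) : (wprod ml (pl.getD a []) : RuOrder.H) ∈ P1 := by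
  rcases lt_or_ge a 6 with h | h
  · have e1 : (wprod ml [3, 1, 7] : RuOrder.H) = S1 := by
      rw [wprod_cons, wprod_cons, wprod_cons, wprod_nil, mul_one, ← mul_assoc]; rfl
    have e2 : (wprod ml [3, 6, 7] : RuOrder.H) = S1⁻¹ := by
      rw [wprod_cons, wprod_cons, wprod_cons, wprod_nil, mul_one]
      change F * (S⁻¹ * F⁻¹) = (F * S * F⁻¹)⁻¹
      group
    interval_cases a
    · change (wprod ml [3, 1, 7] : RuOrder.H) ∈ P1
      rw [e1]; exact S1_mem
    · change (wprod ml [0] : RuOrder.H) ∈ P1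
      rw [wprod_cons, wprod_nil, mul_one]; exact T_mem
    · change (wprod ml [4] : RuOrder.H) ∈ P1
      rw [wprod_cons, wprod_nil, mul_one]; exact D_mem
    · change (wprod ml [5] : RuOrder.H) ∈ P1
      rw [wprod_cons, wprod_nil, mul_one]; exact Y_mem
    · change (wprod ml [3, 6, 7] : RuOrder.H) ∈ P1
      rw [e2]; exact inv_mem S1_mem
    · change (wprod ml [8] : RuOrder.H) ∈ P1
      rw [wprod_cons, wprod_nil, mul_one]; exact inv_mem D_mem
  · rw [List.getD_eq_default _ _ (by exact h), wprod_nil]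
    exact one_mem _

theorem wprod_exP : ∀ u : List ℕ, (wprod ml (exP u) : RuOrder.H) ∈ P1
  | [] => by rw [exP, wprod_nil]; exact one_mem _
  | a :: u => by
    rw [exP, wprod_append]
    exact mul_mem (wprod_pl a) (wprod_exP u)

theorem mem_of_chk {w u : List ℕ} (h : chkEq w (exP u) = true) : (wprod ml w : RuOrder.H) ∈ P1 := by
  rw [eq_of_chkEq h]
  exact wprod_exP u

/-! ### `P1 ≤ C(z)` -/

theorem chkS1 : chkEq [3, 1, 7, 1, 1] [1, 1, 3, 1, 7] = true := by decide +kernel
theorem chkT : chkEq [0, 1, 1] [1, 1, 0] = true := by decide +kernel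
theorem chkD : chkEq [4, 1, 1] [1, 1, 4] = true := by decide +kernel
theorem chkY : chkEq [5, 1, 1] [1, 1, 5] = true := by decide +kernel

theorem P1_le : P1 ≤ centralizer {S * S} := by
  unfold P1
  rw [closure_le]
  rintro x (rfl | rfl | rfl | rfl)
  · have h := eq_of_chkEq chkS1
    simp only [wprod_cons, wprod_nil, mul_one] at h
    refine mem_centralizer_singleton_iff.2 ?_
    have h' : F * (S * (F⁻¹ * (S * S))) = S * (S * (F * (S * F⁻¹))) := h
    calc S1 * (S * S) = F * (S * (F⁻¹ * (S * S))) := by unfold S1; group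
      _ = S * (S * (F * (S * F⁻¹))) := h'
      _ = S * S * S1 := by unfold S1; group
  · have h := eq_of_chkEq chkT
    simp only [wprod_cons, wprod_nil, mul_one] at h
    refine mem_centralizer_singleton_iff.2 ?_
    have h' : T * (S * S) = S * (S * T) := h
    rw [h', mul_assoc]
  · have h := eq_of_chkEq chkD
    simp only [wprod_cons, wprod_nil, mul_one] at h
    refine mem_centralizer_singleton_iff.2 ?_
    have h' : D * (S * S) = S * (S * D) := h
    rw [h', mul_assoc]
  · have h := eq_of_chkEq chkY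
    simp only [wprod_cons, wprod_nil, mul_one] at h
    refine mem_centralizer_singleton_iff.2 ?_
    have h' : Y * (S * S) = S * (S * Y) := h
    rw [h', mul_assoc]

/-! ### `P1` is perfect -/

theorem chk1 : chkEq [4, 4, 0, 8, 0, 8] [0] = true := by decide +kernel
theorem chk2 : chkEq [5, 4, 5, 8] [4] = true := by decide +kernel
theorem chk3 : chkEq ([5, 0, 4, 0] ++ [5, 0, 8, 0] ++ [0, 8, 0, 5] ++ [0, 4, 0, 5]) [5] = true := by decide +kernel
theorem chk4 : chkEq ([5, 4, 3, 1, 7, 8] ++ [3, 1, 7] ++ [4, 3, 6, 7, 8, 5] ++ [3, 6, 7] ++ [5]) [3, 1, 7] = true := by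
  decide +kernel
theorem chk5 : chkEq [0, 0] [] = true := by decide +kernel
theorem chk6 : chkEq [5, 5] [] = true := by decide +kernel

theorem T_inv : T⁻¹ = T := inv_eq_of_mul_eq_one_left TT
theorem Y_inv : Y⁻¹ = Y := by
  have h := eq_of_chkEq chk6
  simp only [wprod_cons, wprod_nil, mul_one] at h
  exact inv_eq_of_mul_eq_one_left h

theorem P1_perf : ⁅P1, P1⁆ = P1 := by
  apply le_antisymm (commutator_le_self _)
  have hT : T ∈ ⁅P1, P1⁆ := by
    have h1 : ⁅D, D * T⁆ ∈ ⁅P1, P1⁆ := commutator_mem_commutator D_mem (mul_mem D_mem T_mem)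
    have h := eq_of_chkEq chk1
    simp only [wprod_cons, wprod_nil, mul_one] at h
    have h' : D * (D * (T * (D⁻¹ * (T * D⁻¹)))) = T := h
    have e : ⁅D, D * T⁆ = T := by
      rw [commutatorElement_def, mul_inv_rev, T_inv]
      exact Eq.trans (by group) h'
    rwa [e] at h1
  have hD : D ∈ ⁅P1, P1⁆ := by
    have h1 : ⁅Y, D⁆ ∈ ⁅P1, P1⁆ := commutator_mem_commutator Y_mem D_mem
    have h := eq_of_chkEq chk2
    simp only [wprod_cons, wprod_nil, mul_one] at h
    have h' : Y * (D * (Y * D⁻¹)) = D := h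
    have e : ⁅Y, D⁆ = D := by
      rw [commutatorElement_def, Y_inv]
      exact Eq.trans (by group) h'
    rwa [e] at h1
  have hY : Y ∈ ⁅P1, P1⁆ := by
    have h1 : ⁅Y * T * D * T, Y * T * D⁻¹ * T⁆ ∈ ⁅P1, P1⁆ :=
      commutator_mem_commutator (mul_mem (mul_mem (mul_mem Y_mem T_mem) D_mem) T_mem)
        (mul_mem (mul_mem (mul_mem Y_mem T_mem) (inv_mem D_mem)) T_mem)
    have h := eq_of_chkEq chk3
    simp only [wprod_cons, wprod_nil, mul_one, List.cons_append, List.nil_append] at h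
    have h' : Y * (T * (D * (T * (Y * (T * (D⁻¹ * (T * (T * (D⁻¹ * (T * (Y * (T * (D * (T * Y)))))))))))))) = Y := h
    have e : ⁅Y * T * D * T, Y * T * D⁻¹ * T⁆ = Y := by
      rw [commutatorElement_def]
      simp only [mul_inv_rev, T_inv, Y_inv, inv_inv]
      exact Eq.trans (by simp only [mul_assoc]) h'
    rwa [e] at h1
  have hS : S1 ∈ ⁅P1, P1⁆ := by
    have h1 : ⁅Y * D * S1 * D⁻¹, S1⁆ ∈ ⁅P1, P1⁆ :=
      commutator_mem_commutator (mul_mem (mul_mem (mul_mem Y_mem D_mem) S1_mem) (inv_mem D_mem)) S1_mem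
    have h := eq_of_chkEq chk4
    simp only [wprod_cons, wprod_nil, mul_one, List.cons_append, List.nil_append] at h
    have h' : Y * (D * (F * (S * (F⁻¹ * (D⁻¹ * (F * (S * (F⁻¹ * (D * (F * (S⁻¹ * (F⁻¹ * (D⁻¹ * (Y * (F * (S⁻¹ * (F⁻¹ *
      Y))))))))))))))))) = F * (S * F⁻¹) := h
    have e : ⁅Y * D * S1 * D⁻¹, S1⁆ * Y = S1 := by
      rw [commutatorElement_def]
      simp only [S1, mul_inv_rev, Y_inv, inv_inv]
      refine Eq.trans ?_ (h'.trans (by simp only [mul_assoc]))
      simp only [mul_assoc]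
    rw [← e]
    exact mul_mem h1 hY
  conv_lhs => unfold P1
  rw [closure_le]
  rintro x (rfl | rfl | rfl | rfl)
  · exact hS
  · exact hT
  · exact hD
  · exact hY

/-! ### the order of `C(z)` -/

theorem card_cent : Nat.card (centralizer ({S * S} : Set RuOrder.H)) = 245760 := by
  obtain ⟨C, -, -, -, h1, -⟩ := lets_model.exists_core
  have h2 : C.z 1 = S * S := by
    have := C.U_sq 1 1
    rw [h1, one_pow] at this
    exact this.symm
  rw [← h2]
  exact Cfsg.Agent.Ru127.Sg.card_cent C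

theorem odd : ¬ 2 ∣ (centralizer ({S * S} : Set RuOrder.H)).index := by
  have h1 := card_mul_index (centralizer ({S * S} : Set RuOrder.H))
  rw [card_cent, RuOrder.card_H] at h1
  have h2 : (centralizer ({S * S} : Set RuOrder.H)).index = 593775 := by omega
  rw [h2]
  decide

/-! ### the other coset -/

/-- the word of `h` -/
def hw : List ℕ := [3, 5, 3, 1, 7, 0, 5, 4, 3, 4, 3, 1, 7, 8]

noncomputable def h : RuOrder.H := wprod ml hw

theorem chkh : chkEq (hw ++ hw) [] = true := by decide +kernel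
theorem chkhz : chkEq (hw ++ [1, 1]) ([1, 1] ++ hw) = true := by decide +kernel
theorem chkc1 : chkEq (hw ++ [3, 1, 7] ++ hw) (exP [3, 1, 2, 0, 2, 3, 4, 2, 1, 0, 3, 0]) = true := by decide +kernel
theorem chkc2 : chkEq (hw ++ [0] ++ hw) (exP [2, 1, 3, 0, 0, 2, 3, 0]) = true := by decide +kernel
theorem chkc3 : chkEq (hw ++ [4] ++ hw) (exP [4, 2, 1, 3, 1, 0, 5, 4, 1, 3]) = true := by decide +kernel
theorem chkc4 : chkEq (hw ++ [5] ++ hw) (exP [0, 3, 2, 4, 2, 4, 1, 2, 3, 0]) = true := by decide +kernel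

theorem hh : h * h = 1 := by
  have := eq_of_chkEq chkh
  rwa [wprod_append] at this

theorem h_inv : h⁻¹ = h := inv_eq_of_mul_eq_one_left hh

theorem h_cent : h ∈ centralizer ({S * S} : Set RuOrder.H) := by
  rw [mem_centralizer_singleton_iff]
  have := eq_of_chkEq chkhz
  rw [wprod_append, wprod_append, wSS] at this
  exact this

theorem conj_h : ∀ p ∈ P1, h * p * h ∈ P1 := by
  have key : P1 ≤ P1.comap (MulAut.conj h).toMonoidHom := by
    conv_lhs => unfold P1
    rw [closure_le]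
    have e : ∀ x, (MulAut.conj h).toMonoidHom x = h * x * h := fun x => by
      change h * x * h⁻¹ = _
      rw [h_inv]
    rintro x (rfl | rfl | rfl | rfl)
    · rw [SetLike.mem_coe, mem_comap, e]
      have h1 := mem_of_chk chkc1
      rw [wprod_append, wprod_append, wprod_cons, wprod_cons, wprod_cons, wprod_nil, mul_one, ← mul_assoc (lv ml 3)] at h1
      exact h1
    · rw [SetLike.mem_coe, mem_comap, e]
      have h1 := mem_of_chk chkc2
      rw [wprod_append, wprod_append, wprod_cons, wprod_nil, mul_one] at h1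
      exact h1
    · rw [SetLike.mem_coe, mem_comap, e]
      have h1 := mem_of_chk chkc3
      rw [wprod_append, wprod_append, wprod_cons, wprod_nil, mul_one] at h1
      exact h1
    · rw [SetLike.mem_coe, mem_comap, e]
      have h1 := mem_of_chk chkc4
      rw [wprod_append, wprod_append, wprod_cons, wprod_nil, mul_one] at h1
      exact h1
  intro p hp
  have h1 := key hp
  rw [mem_comap] at h1
  change h * p * h⁻¹ ∈ P1 at h1
  rwa [h_inv] at h1

/-- `P1 ∪ h P1` -/
noncomputable def M : Subgroup RuOrder.H where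
  carrier := {x | x ∈ P1 ∨ h * x ∈ P1}
  one_mem' := Or.inl (one_mem _)
  mul_mem' := by
    rintro a b (ha | ha) (hb | hb)
    · exact Or.inl (mul_mem ha hb)
    · right
      have h1 := mul_mem (conj_h a ha) hb
      have e : h * a * h * (h * b) = h * (a * b) := by
        calc h * a * h * (h * b) = h * a * (h * h) * b := by group
          _ = h * (a * b) := by rw [hh]; group
      rwa [e] at h1
    · right
      have h1 := mul_mem ha hb
      rwa [mul_assoc] at h1
    · left
      have h1 := mul_mem (conj_h _ ha) hb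
      have e : h * (h * a) * h * (h * b) = a * b := by
        calc h * (h * a) * h * (h * b) = (h * h) * a * (h * h) * b := by group
          _ = a * b := by rw [hh]; group
      rwa [e] at h1
  inv_mem' := by
    rintro a (ha | ha)
    · exact Or.inl (inv_mem ha)
    · right
      have h1 := conj_h _ (inv_mem ha)
      have e : h * (h * a)⁻¹ * h = h * a⁻¹ := by
        rw [mul_inv_rev, h_inv, mul_assoc, mul_assoc, hh, mul_one]
      rwa [e] at h1

theorem mem_M {x : RuOrder.H} : x ∈ M ↔ x ∈ P1 ∨ h * x ∈ P1 := Iff.rfl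

theorem M_le : M ≤ centralizer {S * S} := by
  intro x hx
  rcases mem_M.1 hx with h1 | h1
  · exact P1_le h1
  · have h2 := mul_mem h_cent (P1_le h1)
    rwa [← mul_assoc, hh, one_mul] at h2

/-! membership of the generators of `RuD.Model` -/

theorem chkm1 : chkEq [1] (exP [5, 4, 5, 0, 5, 0]) = true := by decide +kernel
theorem chkm4 : chkEq [7, 1, 3] (exP [4, 2, 4, 5]) = true := by decide +kernel
theorem chkm5 : chkEq (hw ++ [3, 5, 3, 1, 7, 0, 5, 4, 3, 4]) (exP [2, 4]) = true := by decide +kernel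

theorem s0_mem : S ∈ P1 := by
  have := mem_of_chk chkm1
  rwa [wprod_cons, wprod_nil, mul_one] at this

theorem s6_mem : (wprod ml [7, 1, 3] : RuOrder.H) ∈ P1 := mem_of_chk chkm4

theorem g5_mem : (wprod ml [3, 5, 3, 1, 7, 0, 5, 4, 3, 4] : RuOrder.H) ∈ M := by
  rw [mem_M]
  right
  have := mem_of_chk chkm5
  rwa [wprod_append] at this

theorem P1_le_M : P1 ≤ M := fun _ hx => Or.inl hx

theorem mem0 : ∀ w ∈ gens0, (wprod ml w : RuOrder.H) ∈ M := by
  intro w hw
  simp only [gens0, List.mem_cons, List.not_mem_nil, or_false] at hw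
  rcases hw with rfl | rfl | rfl | rfl | rfl | rfl
  · rw [wprod_cons, wprod_nil, mul_one]; exact P1_le_M T_mem
  · rw [wprod_cons, wprod_nil, mul_one]; exact P1_le_M s0_mem
  · rw [wprod_cons, wprod_nil, mul_one]; exact P1_le_M D_mem
  · rw [wprod_cons, wprod_nil, mul_one]; exact P1_le_M Y_mem
  · exact P1_le_M s6_mem
  · exact g5_mem

theorem mem1 : ∀ w ∈ gens1, (wprod ml w : RuOrder.H) ∈ M := by
  intro w hw
  simp only [gens1, List.mem_cons, List.not_mem_nil, or_false] at hw
  rcases hw with rfl | rfl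
  · have e : ([8, 5, 7, 1, 3, 1] : List ℕ) = [8, 5] ++ ([7, 1, 3] ++ [1]) := rfl
    rw [e, wprod_append, wprod_append]
    refine mul_mem (P1_le_M ?_) (mul_mem (P1_le_M s6_mem) (P1_le_M ?_))
    · rw [wprod_cons, wprod_cons, wprod_nil, mul_one]
      exact mul_mem (inv_mem D_mem) Y_mem
    · rw [wprod_cons, wprod_nil, mul_one]; exact s0_mem
  · have e : ([1, 4, 7, 6, 3, 4, 3, 5, 3, 1, 7, 0, 5, 4, 3, 4] : List ℕ) =
      [1, 4] ++ ([7, 6, 3] ++ ([4] ++ [3, 5, 3, 1, 7, 0, 5, 4, 3, 4])) := rfl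
    rw [e, wprod_append, wprod_append, wprod_append]
    refine mul_mem (P1_le_M ?_) (mul_mem (P1_le_M ?_) (mul_mem (P1_le_M ?_) g5_mem))
    · rw [wprod_cons, wprod_cons, wprod_nil, mul_one]
      exact mul_mem s0_mem D_mem
    · have h1 := inv_mem s6_mem
      have e2 : (wprod ml [7, 6, 3] : RuOrder.H) = (wprod ml [7, 1, 3])⁻¹ := by
        rw [wprod_cons, wprod_cons, wprod_cons, wprod_nil, mul_one, wprod_cons, wprod_cons, wprod_cons, wprod_nil,
          mul_one]
        change F⁻¹ * (S⁻¹ * F) = (F⁻¹ * (S * F))⁻¹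
        group
      rw [e2]; exact h1
    · rw [wprod_cons, wprod_nil, mul_one]; exact D_mem

/-- the permutation group -/
noncomputable def MP : Subgroup (Equiv.Perm (Fin 4060)) := M.map RuOrder.H.subtype

theorem mem_MP {w : List ℕ} (hw : (wprod ml w : RuOrder.H) ∈ M) : Mem MP (catNet w) := by
  refine ⟨okNet_cat w, ?_⟩
  rw [perm_cat]
  exact ⟨wprod ml w, hw, rfl⟩

theorem card_MP : 245760 ≤ Nat.card MP := by
  have m0 : ∀ g ∈ gens0.map catNet, Mem MP g := by
    intro g hg
    obtain ⟨w, hw, rfl⟩ := List.mem_map.1 hg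
    exact mem_MP (mem0 w hw)
  have m1 : ∀ g ∈ gens1.map catNet, Mem (MP ⊓ MulAction.stabilizer (Equiv.Perm (Fin 4060)) RuOrder.b1) g := by
    intro g hg
    obtain ⟨w, hw, rfl⟩ := List.mem_map.1 hg
    have h := (Cfsg.Agent.SporRec.R3.Kernel.allL_iff _ _).1 Cfsg.Agent.RuD.Model.chk1 w hw
    rw [Cfsg.Agent.SporRec.R3.Kernel.and3, Bool.and_eq_true] at h
    refine mem_inf_stabilizer (mem_MP (mem1 w hw)) ?_
    have e := evalK_eq w RuOrder.b1
    rw [← perm_cat, perm_apply] at e
    rw [e]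
    exact Nat.eq_of_beq_eq_true h.1
  have l0 := lower_step' (L := 12) (k := 4) (K := MP) (b := RuOrder.b1) m0 orb0
  have l1 := lower_step' (L := 12) (k := 8) (b := (⟨2, by norm_num⟩ : Fin 4060)) m1 orb1
  have l2 : 1 ≤ Nat.card ↥(MP ⊓ MulAction.stabilizer (Equiv.Perm (Fin 4060)) RuOrder.b1 ⊓
    MulAction.stabilizer (Equiv.Perm (Fin 4060)) (⟨2, by norm_num⟩ : Fin 4060)) := Nat.card_pos
  have l3 : 120 * 1 ≤ Nat.card ↥(MP ⊓ MulAction.stabilizer (Equiv.Perm (Fin 4060)) RuOrder.b1) :=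
    le_trans (Nat.mul_le_mul_left _ l2) l1
  calc 245760 = 2048 * (120 * 1) := by norm_num
    _ ≤ _ := Nat.mul_le_mul_left _ l3
    _ ≤ _ := l0

theorem M_eq : M = centralizer {S * S} := by
  have h1 : Nat.card MP = Nat.card M :=
    Nat.card_congr (M.equivMapOfInjective RuOrder.H.subtype (subtype_injective _)).toEquiv.symm
  have h2 := card_MP
  rw [h1] at h2
  refine eq_of_le_of_card_ge M_le ?_
  rw [card_cent]
  exact h2

/-! ### the classes of `h` and `h z` -/

theorem isConj_of_fix {x : RuOrder.H} (h2 : x * x = 1) (h1 : x ≠ 1) (hf : HasFix x) : IsConj (S * S) x := by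
  rcases XLevel.isConj_or h2 h1 with h | h
  · exact h
  · exact absurd (hf.of_isConj h.symm) not_fix_T

theorem fixw {w : List ℕ} {p : Fin 4060} (h : Nat.beq (evalK w p) p = true) : HasFix (wprod ml w) := by
  refine ⟨p, Fin.ext ?_⟩
  rw [evalK_eq]
  exact Nat.eq_of_beq_eq_true h

theorem ne_of_eval {w : List ℕ} (h : Nat.beq (evalK w 0) 0 = false) : (wprod ml w : RuOrder.H) ≠ 1 := by
  intro h1
  have h2 := evalK_eq w ⟨0, by norm_num⟩
  rw [h1] at h2
  have h3 : evalK w 0 = 0 := h2.symm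
  rw [h3] at h
  exact absurd h (by decide)

theorem e1 : Nat.beq (evalK hw 29) 29 = true := by decide +kernel
theorem e2 : Nat.beq (evalK (hw ++ [1, 1]) 84) 84 = true := by decide +kernel
theorem e3 : Nat.beq (evalK hw 0) 0 = false := by decide +kernel
theorem e4 : Nat.beq (evalK (hw ++ [1, 1]) 0) 0 = false := by decide +kernel

theorem hz_eq : (wprod ml (hw ++ [1, 1]) : RuOrder.H) = h * (S * S) := by rw [wprod_append, wSS]; rfl

theorem hz_comm : h * (S * S) = S * S * h := mem_centralizer_singleton_iff.1 h_cent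

theorem isConj_h : IsConj (S * S) h := isConj_of_fix hh (ne_of_eval e3) (fixw (p := ⟨29, by norm_num⟩) e1)

theorem isConj_hz : IsConj (S * S) (h * (S * S)) := by
  apply isConj_of_fix
  · calc h * (S * S) * (h * (S * S)) = h * (S * S * h) * (S * S) := by group
      _ = h * h * (S * S * (S * S)) := by rw [← hz_comm]; group
      _ = 1 := by rw [hh, SS_sq, mul_one]
  · rw [← hz_eq]; exact ne_of_eval e4
  · rw [← hz_eq]; exact fixw (p := ⟨84, by norm_num⟩) e2

/-- `C(z) = P1 ∪ h P1` -/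
theorem cover : ∃ h ∈ centralizer ({S * S} : Set RuOrder.H), IsConj (S * S) h ∧ IsConj (S * S) (h * (S * S)) ∧
    ∀ x ∈ centralizer ({S * S} : Set RuOrder.H), x ∈ P1 ∨ h⁻¹ * x ∈ P1 := by
  refine ⟨h, h_cent, isConj_h, isConj_hz, fun x hx => ?_⟩
  rw [← M_eq, mem_M] at hx
  rw [h_inv]
  exact hx

end Cfsg.Agent.OddHalf.D9.Ru.XCover
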