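import Mathlib

/-!
# Subgroups given by generators: closure arguments
-/

set_option autoImplicit false

namespace Cfsg.Agent.OddHalf.D9.Ru.XAbs

open Subgroup
open scoped commutatorElement

variable {X : Type*} [Group X]

/-- conjugation by a generated group -/
theorem conj_mem [Finite X] {K H : Subgroup X} {s : Set X} (hK : K ≤ closure s) {t : Set X} (hH : H = closure t)
    (h : ∀ g ∈ s, ∀ x ∈ t, g * x * g⁻¹ ∈ H) : ∀ g ∈ K, ∀ x ∈ H, g * x * g⁻¹ ∈ H := by
  have key : closure s ≤ normalizer (H : Set X) := by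
    rw [closure_le]
    intro g hg
    apply mem_normalizer_fintype
    intro n hn
    have hn' : n ∈ closure t := by rw [← hH]; exact hn
    induction hn' using closure_induction with
    | mem x hx => exact h g hg x hx
    | one => rw [mul_one, mul_inv_cancel]; exact H.one_mem
    | mul a b ha hb iha ihb =>
      have e : g * (a * b) * g⁻¹ = (g * a * g⁻¹) * (g * b * g⁻¹) := by group
      rw [e]
      exact H.mul_mem (iha (by rw [hH]; exact ha)) (ihb (by rw [hH]; exact hb))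
    | inv a ha iha =>
      have e : g * a⁻¹ * g⁻¹ = (g * a * g⁻¹)⁻¹ := by group
      rw [e]
      exact H.inv_mem (iha (by rw [hH]; exact ha))
  intro g hg x hx
  exact (mem_normalizer_iff.1 (key (hK hg)) x).1 hx

/-- commutators of a generated group -/
theorem comm_mem {R E : Subgroup X} {t : Set X} (hR : R = closure t) (hn : ∀ g ∈ R, ∀ x ∈ E, g * x * g⁻¹ ∈ E)
    (h : ∀ a ∈ t, ∀ b ∈ t, ⁅a, b⁆ ∈ E) : ∀ a ∈ R, ∀ b ∈ R, ⁅a, b⁆ ∈ E := by
  have htR : ∀ a ∈ t, a ∈ R := fun a ha => by rw [hR]; exact subset_closure ha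
  have key : ∀ b ∈ t, ∀ a ∈ R, ⁅a, b⁆ ∈ E := by
    intro b hb a ha
    have ha' : a ∈ closure t := by rw [← hR]; exact ha
    clear ha
    induction ha' using closure_induction with
    | mem x hx => exact h x hx b hb
    | one => rw [commutatorElement_one_left]; exact E.one_mem
    | mul x y hx hy ihx ihy =>
      have e : ⁅x * y, b⁆ = x * ⁅y, b⁆ * x⁻¹ * ⁅x, b⁆ := by simp only [commutatorElement_def]; group
      rw [e]
      exact E.mul_mem (hn x (by rw [hR]; exact hx) _ ihy) ihx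
    | inv x hx ihx =>
      have e : ⁅x⁻¹, b⁆ = x⁻¹ * ⁅x, b⁆⁻¹ * (x⁻¹)⁻¹ := by simp only [commutatorElement_def]; group
      rw [e]
      exact hn x⁻¹ (R.inv_mem (by rw [hR]; exact hx)) _ (E.inv_mem ihx)
  intro a ha b hb
  have hb' : b ∈ closure t := by rw [← hR]; exact hb
  clear hb
  induction hb' using closure_induction with
  | mem x hx => exact key x hx a ha
  | one => rw [commutatorElement_one_right]; exact E.one_mem
  | mul x y hx hy ihx ihy =>
    have e : ⁅a, x * y⁆ = ⁅a, x⁆ * (x * ⁅a, y⁆ * x⁻¹) := by simp only [commutatorElement_def]; group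
    rw [e]
    exact E.mul_mem ihx (hn x (by rw [hR]; exact hx) _ ihy)
  | inv x hx ihx =>
    have e : ⁅a, x⁻¹⁆ = x⁻¹ * ⁅a, x⁆⁻¹ * (x⁻¹)⁻¹ := by simp only [commutatorElement_def]; group
    rw [e]
    exact hn x⁻¹ (R.inv_mem (by rw [hR]; exact hx)) _ (E.inv_mem ihx)

/-- squares of a generated group -/
theorem sq_mem {R E : Subgroup X} {t : Set X} (hR : R = closure t)
    (hc : ∀ a ∈ R, ∀ b ∈ R, ⁅a, b⁆ ∈ E) (h : ∀ a ∈ t, a * a ∈ E) : ∀ a ∈ R, a * a ∈ E := by
  intro a ha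
  have ha' : a ∈ closure t := by rw [← hR]; exact ha
  clear ha
  induction ha' using closure_induction with
  | mem x hx => exact h x hx
  | one => rw [mul_one]; exact E.one_mem
  | mul x y hx hy ihx ihy =>
    have e : x * y * (x * y) = x * x * ⁅x⁻¹, y⁆ * (y * y) := by simp only [commutatorElement_def]; group
    rw [e]
    exact E.mul_mem (E.mul_mem ihx (hc _ (R.inv_mem (by rw [hR]; exact hx)) _ (by rw [hR]; exact hy))) ihy
  | inv x hx ihx =>
    have e : x⁻¹ * x⁻¹ = (x * x)⁻¹ := by group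
    rw [e]
    exact E.inv_mem ihx

/-- `[R, E] ≤ {1, z}` -/
theorem comm_center {R E : Subgroup X} {t u : Set X} (hR : R = closure t) (hE : E = closure u) {z : X}
    (hz : ∀ r ∈ R, r * z = z * r) (hzE : ∀ x ∈ E, x * z = z * x) (h2 : z * z = 1)
    (h : ∀ a ∈ t, ∀ b ∈ u, ⁅a, b⁆ = 1 ∨ ⁅a, b⁆ = z) :
    ∀ r ∈ R, ∀ x ∈ E, ⁅r, x⁆ = 1 ∨ ⁅r, x⁆ = z := by
  have mulz : ∀ a b : X, (a = 1 ∨ a = z) → (b = 1 ∨ b = z) → a * b = 1 ∨ a * b = z := by
    rintro a b (rfl | rfl) (rfl | rfl)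
    · left; exact mul_one _
    · right; exact one_mul _
    · right; exact mul_one _
    · left; exact h2
  have cj : ∀ r ∈ R, ∀ a : X, (a = 1 ∨ a = z) → r * a * r⁻¹ = 1 ∨ r * a * r⁻¹ = z := by
    rintro r hr a (rfl | rfl)
    · left; group
    · right; rw [hz r hr, mul_assoc, mul_inv_cancel, mul_one]
  have cjE : ∀ r ∈ E, ∀ a : X, (a = 1 ∨ a = z) → r * a * r⁻¹ = 1 ∨ r * a * r⁻¹ = z := by
    rintro r hr a (rfl | rfl)
    · left; group
    · right; rw [hzE r hr, mul_assoc, mul_inv_cancel, mul_one]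
  have iv : ∀ a : X, (a = 1 ∨ a = z) → a⁻¹ = 1 ∨ a⁻¹ = z := by
    rintro a (rfl | rfl)
    · left; exact inv_one
    · right; exact inv_eq_of_mul_eq_one_right h2
  have key : ∀ b ∈ u, ∀ a ∈ R, ⁅a, b⁆ = 1 ∨ ⁅a, b⁆ = z := by
    intro b hb a ha
    have ha' : a ∈ closure t := by rw [← hR]; exact ha
    clear ha
    induction ha' using closure_induction with
    | mem x hx => exact h x hx b hb
    | one => left; exact commutatorElement_one_left _
    | mul x y hx hy ihx ihy =>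
      have e : ⁅x * y, b⁆ = x * ⁅y, b⁆ * x⁻¹ * ⁅x, b⁆ := by simp only [commutatorElement_def]; group
      rw [e]
      exact mulz _ _ (cj x (by rw [hR]; exact hx) _ ihy) ihx
    | inv x hx ihx =>
      have e : ⁅x⁻¹, b⁆ = x⁻¹ * ⁅x, b⁆⁻¹ * (x⁻¹)⁻¹ := by simp only [commutatorElement_def]; group
      rw [e]
      exact cj x⁻¹ (R.inv_mem (by rw [hR]; exact hx)) _ (iv _ ihx)
  intro a ha b hb
  have hb' : b ∈ closure u := by rw [← hE]; exact hb
  clear hb
  induction hb' using closure_induction with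
  | mem x hx => exact key x hx a ha
  | one => left; exact commutatorElement_one_right _
  | mul x y hx hy ihx ihy =>
    have e : ⁅a, x * y⁆ = ⁅a, x⁆ * (x * ⁅a, y⁆ * x⁻¹) := by simp only [commutatorElement_def]; group
    rw [e]
    exact mulz _ _ ihx (cjE x (by rw [hE]; exact hx) _ ihy)
  | inv x hx ihx =>
    have e : ⁅a, x⁻¹⁆ = x⁻¹ * ⁅a, x⁆⁻¹ * (x⁻¹)⁻¹ := by simp only [commutatorElement_def]; group
    rw [e]
    exact cjE x⁻¹ (E.inv_mem (by rw [hE]; exact hx)) _ (iv _ ihx)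

/-- `P = R A` -/
theorem exists_mul [Finite X] {P R A : Subgroup X} {s : Set X} (hP : P = closure s)
    (hn : ∀ g ∈ A, ∀ x ∈ R, g * x * g⁻¹ ∈ R) (h : ∀ g ∈ s, ∃ r ∈ R, ∃ a ∈ A, g = r * a) :
    ∀ x ∈ P, ∃ r ∈ R, ∃ a ∈ A, x = r * a := by
  intro x hx
  rw [hP] at hx
  induction hx using closure_induction with
  | mem x hx => exact h x hx
  | one => exact ⟨1, R.one_mem, 1, A.one_mem, (mul_one _).symm⟩
  | mul x y hx hy ihx ihy =>
    obtain ⟨r, hr, a, ha, rfl⟩ := ihx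
    obtain ⟨r', hr', a', ha', rfl⟩ := ihy
    refine ⟨r * (a * r' * a⁻¹), R.mul_mem hr (hn a ha r' hr'), a * a', A.mul_mem ha ha', ?_⟩
    group
  | inv x hx ihx =>
    obtain ⟨r, hr, a, ha, rfl⟩ := ihx
    refine ⟨a⁻¹ * r⁻¹ * (a⁻¹)⁻¹, hn _ (A.inv_mem ha) _ (R.inv_mem hr), a⁻¹, A.inv_mem ha, ?_⟩
    group

/-- an element of a `2`-group with a trivial odd power is trivial -/
theorem eq_one_of_pow {M : Subgroup X} (hM : IsPGroup 2 M) {a : X} (ha : a ∈ M) {n : ℕ} (hn : Odd n)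
    (h : a ^ n = 1) : a = 1 := by
  obtain ⟨k, hk⟩ := hM ⟨a, ha⟩
  have hk' : a ^ (2 ^ k) = 1 := congrArg Subtype.val hk
  have h1 : orderOf a ∣ n := orderOf_dvd_of_pow_eq_one h
  have h2 : orderOf a ∣ 2 ^ k := orderOf_dvd_of_pow_eq_one hk'
  have hc : Nat.Coprime n (2 ^ k) := Nat.Coprime.pow_right k hn.coprime_two_right
  have : orderOf a = 1 := Nat.eq_one_of_dvd_coprimes hc h1 h2
  exact orderOf_eq_one_iff.1 this

/-- `R` is the largest normal `2`-subgroup of `R A`, `A ≃ A₅`. -/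
theorem le_of_normal {P R A : Subgroup X} (hR2 : IsPGroup 2 R) (hAP : A ≤ P)
    (hn : ∀ g ∈ P, ∀ x ∈ R, g * x * g⁻¹ ∈ R) (hc : ∀ x ∈ P, ∃ r ∈ R, ∃ a ∈ A, x = r * a) {T Y : X} (hY : Y ∈ A)
    (hT2 : T * T = 1) (hY2 : Y * Y = 1) (h3 : (T * Y) * ((T * Y) * (T * Y)) = 1) (hne : T ≠ Y)
    (hel : ∀ a ∈ A, a ^ 3 = 1 ∨ a ^ 5 = 1 ∨ ∃ c ∈ A, c * T * c⁻¹ = a) (Q : Subgroup X) (hQP : Q ≤ P)
    (hQ2 : IsPGroup 2 Q) (hQn : ∀ g ∈ P, ∀ q ∈ Q, g * q * g⁻¹ ∈ Q) : Q ≤ R := by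
  have hQN : Q ≤ normalizer (R : Set X) := by
    intro q hq
    rw [mem_normalizer_iff]
    intro h
    constructor
    · intro hh; exact hn q (hQP hq) h hh
    · intro hh
      have := hn q⁻¹ (P.inv_mem (hQP hq)) _ hh
      have e : q⁻¹ * (q * h * q⁻¹) * q⁻¹⁻¹ = h := by group
      rw [e] at this
      exact this
  have hM : IsPGroup 2 (Q ⊔ R : Subgroup X) := hQ2.to_sup_of_normal_right' hR2 hQN
  have hMn : ∀ g ∈ P, ∀ x ∈ Q ⊔ R, g * x * g⁻¹ ∈ Q ⊔ R := by
    intro g hg x hx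
    have : Q ⊔ R ≤ (Q ⊔ R).comap (MulAut.conj g).toMonoidHom := by
      refine sup_le ?_ ?_
      · intro q hq; exact (le_sup_left : Q ≤ Q ⊔ R) (hQn g hg q hq)
      · intro q hq; exact (le_sup_right : R ≤ Q ⊔ R) (hn g hg q hq)
    exact this hx
  intro q hq
  obtain ⟨r, hr, a, ha, e⟩ := hc q (hQP hq)
  have haM : a ∈ Q ⊔ R := by
    have : a = r⁻¹ * q := by rw [e]; group
    rw [this]
    exact mul_mem (inv_mem ((le_sup_right : R ≤ Q ⊔ R) hr)) ((le_sup_left : Q ≤ Q ⊔ R) hq)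
  have ha1 : a = 1 := by
    rcases hel a ha with h | h | ⟨c, hcA, h⟩
    · exact eq_one_of_pow hM haM (by decide) h
    · exact eq_one_of_pow hM haM (by decide) h
    · exfalso
      have hTM : T ∈ Q ⊔ R := by
        have := hMn c⁻¹ (P.inv_mem (hAP hcA)) a haM
        rw [← h] at this
        have e : c⁻¹ * (c * T * c⁻¹) * c⁻¹⁻¹ = T := by group
        rw [e] at this
        exact this
      have hx : T * (Y * T * Y⁻¹) ∈ Q ⊔ R := mul_mem hTM (hMn Y (hAP hY) T hTM)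
      have hYi : Y⁻¹ = Y := inv_eq_of_mul_eq_one_right hY2
      have hTi : T⁻¹ = T := inv_eq_of_mul_eq_one_right hT2
      rw [hYi] at hx
      have e1 : T * (Y * T * Y) = (T * Y) ^ 2 := by rw [pow_two]; group
      rw [e1] at hx
      have h3' : (T * Y) ^ 3 = 1 := by rw [← h3, pow_succ, pow_two, mul_assoc]
      have h6 : ((T * Y) ^ 2) ^ 3 = 1 := by rw [← pow_mul, mul_comm, pow_mul, h3', one_pow]
      have h2 := eq_one_of_pow hM hx (by decide) h6
      have h1 : T * Y = 1 := by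
        have : (T * Y) ^ 3 = (T * Y) ^ 2 * (T * Y) := pow_succ _ _
        rw [h2, h3', one_mul] at this
        exact this.symm
      apply hne
      rw [mul_eq_one_iff_eq_inv, hYi] at h1
      exact h1
  rw [e, ha1, mul_one]
  exact hr

end Cfsg.Agent.OddHalf.D9.Ru.XAbs
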