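import Cfsg.Agent.OddHalf.D9.Ru.XChk
import Cfsg.Agent.OddHalf.D9.Ru.XAbs

/-!
# `2.Ru`: the structure of `P1`

`P1 = R ⋊ ⟨T, D, Y⟩`, `R = O_2(P1)`, `E = R'` elementary abelian of order 32, `[R, E] = ⟨z⟩`, `z = S * S`; the elements
of `E` outside `⟨z⟩` are conjugates of `a = F * z * F⁻¹`.
-/

set_option autoImplicit false
set_option maxRecDepth 100000

namespace Cfsg.Agent.OddHalf.D9.Ru.XR

open Subgroup Cfsg.Agent.SporadicB Cfsg.Agent.RuD.Letters Cfsg.Agent.SporRec.TCUpperCert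
open Cfsg.Agent.OddHalf.D9.Ru.XDef Cfsg.Agent.OddHalf.D9.Ru.XData Cfsg.Agent.OddHalf.D9.Ru.XChk
open scoped commutatorElement

/-- the generators of `R` -/
def gR : Set RuOrder.H := {x | ∃ i < 11, x = G [i]}

/-- the generators of `E` -/
def gE : Set RuOrder.H := {x | ∃ i < 5, x = G [i + 6]}

/-- the group `R = O_2(P1)` -/
noncomputable def R : Subgroup RuOrder.H := closure gR

/-- the group `E = R'` -/
noncomputable def E : Subgroup RuOrder.H := closure gE

/-- the group `⟨T, D, Y⟩` -/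
noncomputable def A : Subgroup RuOrder.H := closure {T, D, Y}

theorem G_mem_R {l : List ℕ} (h : inr 0 11 l = true) : G l ∈ R := by
  have h' := inr_iff h
  clear h
  induction l with
  | nil => exact one_mem _
  | cons a l ih =>
    rw [G_cons]
    exact mul_mem (subset_closure ⟨a, (h' a (by simp)).2, rfl⟩) (ih fun i hi => h' i (by simp [hi]))

theorem G_mem_E {l : List ℕ} (h : inr 6 11 l = true) : G l ∈ E := by
  have h' := inr_iff h
  clear h
  induction l with
  | nil => exact one_mem _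
  | cons a l ih =>
    rw [G_cons]
    have ha := h' a (by simp)
    refine mul_mem (subset_closure ⟨a - 6, by omega, ?_⟩) (ih fun i hi => h' i (by simp [hi]))
    rw [Nat.sub_add_cancel ha.1]

theorem E_le_R : E ≤ R := by
  rw [E, closure_le]
  rintro x ⟨i, hi, rfl⟩
  exact subset_closure ⟨i + 6, by omega, rfl⟩

theorem R_le : R ≤ P1 := by
  rw [R, closure_le]
  rintro x ⟨i, hi, rfl⟩
  exact V_mem _

theorem A_le : A ≤ P1 := by
  rw [A, closure_le]
  rintro x (rfl | rfl | rfl)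
  · exact T_mem
  · exact D_mem
  · exact Y_mem

theorem G_two (i j : ℕ) : G [i, j] = G [i] * G [j] := G_append [i] [j]

/-- the conjugate of a generator -/
theorem conj_eq {g i : ℕ} (hg : g < 4) (hi : i < 11) : V [g] * G [i] * (V [g])⁻¹ = G (ctE g i) := by
  have h := eqw_sound (chk_ct g hg i hi)
  rw [V_cons, V_append] at h
  rw [mul_inv_eq_iff_eq_mul]
  exact h

theorem gen_eq {x : RuOrder.H} (h : x ∈ ({S1, T, D, Y} : Set RuOrder.H)) : ∃ g < 4, x = V [g] := by
  rcases h with rfl | rfl | rfl | rfl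
  · exact ⟨1, by norm_num, V1.symm⟩
  · exact ⟨0, by norm_num, V0.symm⟩
  · exact ⟨2, by norm_num, V2.symm⟩
  · exact ⟨3, by norm_num, V3.symm⟩

theorem R_nor : ∀ g ∈ P1, ∀ r ∈ R, g * r * g⁻¹ ∈ R := by
  refine XAbs.conj_mem (s := {S1, T, D, Y}) le_rfl (t := gR) rfl ?_
  rintro g hg x ⟨i, hi, rfl⟩
  obtain ⟨k, hk, rfl⟩ := gen_eq hg
  rw [conj_eq hk hi]
  exact G_mem_R (rng_ct k hk i hi)

theorem E_nor : ∀ g ∈ P1, ∀ r ∈ E, g * r * g⁻¹ ∈ E := by
  refine XAbs.conj_mem (s := {S1, T, D, Y}) le_rfl (t := gE) rfl ?_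
  rintro g hg x ⟨i, hi, rfl⟩
  obtain ⟨k, hk, rfl⟩ := gen_eq hg
  rw [conj_eq hk (by omega)]
  exact G_mem_E (rng_ctE k hk i hi)

theorem z_eq : G [7, 9, 10] = S * S := by
  have h := eqv_sound chk_z
  change G [7, 9, 10] = wprod ml [1, 1] at h
  rw [h, wprod_cons, wprod_cons]
  change S * (S * 1) = S * S
  rw [mul_one]

theorem a_eq : G [6] = F * (S * S) * F⁻¹ := by
  have h := eqv_sound chk_a
  change G [6] = wprod ml [3, 1, 1, 7] at h
  rw [h, wprod_cons, wprod_cons, wprod_cons, wprod_cons]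
  change F * (S * (S * (F⁻¹ * 1))) = F * (S * S) * F⁻¹
  group

/-- the generators of `E` commute -/
theorem E_comm_gen {i j : ℕ} (hi : i < 5) (hj : j < 5) : G [i + 6] * G [j + 6] = G [j + 6] * G [i + 6] := by
  have h := eqw_sound (chk_ab i hi j hj)
  change G [i + 6, j + 6] = G [j + 6, i + 6] at h
  rwa [G_two, G_two] at h

theorem E_sq_gen {i : ℕ} (hi : i < 5) : G [i + 6] * G [i + 6] = 1 := by
  have h := eqw_sound (chk_el i hi)
  change G [i + 6, i + 6] = V [] at h
  rwa [G_two, V_nil] at h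

theorem E_comm : ∀ x ∈ E, ∀ y ∈ E, x * y = y * x := by
  have key : E ≤ centralizer (gE : Set RuOrder.H) := by
    rw [E, closure_le]
    rintro x ⟨i, hi, rfl⟩
    rw [SetLike.mem_coe, mem_centralizer_iff]
    rintro y ⟨j, hj, rfl⟩
    exact E_comm_gen hj hi
  intro x hx y hy
  have : E ≤ centralizer ({x} : Set RuOrder.H) := by
    rw [E, closure_le]
    rintro y hy
    rw [SetLike.mem_coe, mem_centralizer_iff]
    rintro w rfl
    exact ((mem_centralizer_iff.1 (key hx)) y hy).symm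
  exact (mem_centralizer_iff.1 (this hy)) x rfl

theorem E_sq : ∀ x ∈ E, x * x = 1 := by
  intro x hx
  have hx' : x ∈ closure gE := hx
  clear hx
  induction hx' using closure_induction with
  | mem x hx => obtain ⟨i, hi, rfl⟩ := hx; exact E_sq_gen hi
  | one => exact mul_one 1
  | mul x y hx hy ihx ihy =>
    have e : x * y * (x * y) = x * (y * x) * y := by group
    rw [e, E_comm y hy x hx]
    have e : x * (x * y) * y = (x * x) * (y * y) := by group
    rw [e, ihx, ihy, mul_one]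
  | inv x hx ihx =>
    have e : x⁻¹ * x⁻¹ = (x * x)⁻¹ := by group
    rw [e, ihx, inv_one]

/-- `[R, R] ≤ E`, elementwise -/
theorem comm_R : ∀ x ∈ R, ∀ y ∈ R, ⁅x, y⁆ ∈ E := by
  refine XAbs.comm_mem (t := gR) rfl (fun g hg x hx => E_nor g (R_le hg) x hx) ?_
  rintro x ⟨i, hi, rfl⟩ y ⟨j, hj, rfl⟩
  rcases lt_or_ge i 6 with h1 | h1
  · rcases lt_or_ge j 6 with h2 | h2
    · have h := eqw_sound (chk_cm i h1 j h2)
      change G [i, j] = G (cmE i j ++ [j, i]) at h
      rw [G_append, G_two, G_two] at h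
      have e : ⁅G [i], G [j]⁆ = G (cmE i j) := by
        rw [commutatorElement_def, h]
        group
      rw [e]
      exact G_mem_E (rng_cm i h1 j h2)
    · have hjE : G [j] ∈ E := subset_closure ⟨j - 6, by omega, by rw [Nat.sub_add_cancel h2]⟩
      rw [commutatorElement_def]
      exact mul_mem (E_nor _ (V_mem _) _ hjE) (inv_mem hjE)
  · have hiE : G [i] ∈ E := subset_closure ⟨i - 6, by omega, by rw [Nat.sub_add_cancel h1]⟩
    have e : ⁅G [i], G [j]⁆ = G [i] * (G [j] * (G [i])⁻¹ * (G [j])⁻¹) := by rw [commutatorElement_def]; group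
    rw [e]
    exact mul_mem hiE (E_nor _ (V_mem _) _ (inv_mem hiE))

theorem RR : ⁅R, R⁆ ≤ E := commutator_le.2 comm_R

theorem sq_R : ∀ x ∈ R, x * x ∈ E := by
  refine XAbs.sq_mem (t := gR) rfl comm_R ?_
  rintro x ⟨i, hi, rfl⟩
  rcases lt_or_ge i 6 with h1 | h1
  · have h := eqw_sound (chk_sq i h1)
    change G [i, i] = G (sq.getD i []) at h
    rw [← G_two, h]
    exact G_mem_E (rng_sq i h1)
  · have hiE : G [i] ∈ E := subset_closure ⟨i - 6, by omega, by rw [Nat.sub_add_cancel h1]⟩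
    exact mul_mem hiE hiE

theorem R_two : IsPGroup 2 R := by
  rintro ⟨x, hx⟩
  refine ⟨2, ?_⟩
  apply Subtype.ext
  change x ^ (2 ^ 2) = 1
  have h := E_sq _ (sq_R x hx)
  have e : x ^ (2 ^ 2) = x * x * (x * x) := by
    norm_num
    rw [pow_succ, pow_succ, pow_succ, pow_one]
    group
  rw [e, h]

/-- `z` is central in `P1` -/
theorem z_comm : ∀ x ∈ P1, x * (S * S) = (S * S) * x := by
  have key : P1 ≤ centralizer ({S * S} : Set RuOrder.H) := by
    rw [P1, closure_le]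
    intro x hx
    obtain ⟨g, hg, rfl⟩ := gen_eq hx
    rw [SetLike.mem_coe, mem_centralizer_iff]
    rintro w rfl
    have h := eqw_sound (chk_zc g hg)
    rw [V_cons, V_append] at h
    change V [g] * G [7, 9, 10] = G [7, 9, 10] * V [g] at h
    rw [z_eq] at h
    exact h.symm
  intro x hx
  exact ((mem_centralizer_iff.1 (key hx)) _ rfl).symm

theorem zz : (S * S) * (S * S) = 1 := by
  rw [← z_eq]
  exact E_sq _ (G_mem_E (by decide))

theorem E_le : E ≤ P1 := E_le_R.trans R_le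

theorem comm_RE : ∀ r ∈ R, ∀ x ∈ E, ⁅r, x⁆ = 1 ∨ ⁅r, x⁆ = S * S := by
  refine XAbs.comm_center (t := gR) (u := gE) rfl rfl (fun r hr => z_comm r (R_le hr))
    (fun x hx => z_comm x (E_le hx)) zz ?_
  rintro x ⟨i, hi, rfl⟩ y ⟨j, hj, rfl⟩
  rcases lt_or_ge i 6 with h1 | h1
  · have h := eqw_sound (chk_rx i h1 j hj)
    change G [i, j + 6] = G (zp ((rx.getD i []).getD j 0) ++ [j + 6, i]) at h
    rw [G_append, G_two, G_two] at h
    have e : ⁅G [i], G [j + 6]⁆ = G (zp ((rx.getD i []).getD j 0)) := by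
      rw [commutatorElement_def, h]
      group
    rw [e]
    cases (rx.getD i []).getD j 0 with
    | zero => left; rfl
    | succ n => right; exact z_eq
  · left
    have hiE : G [i] ∈ E := subset_closure ⟨i - 6, by omega, by rw [Nat.sub_add_cancel h1]⟩
    have hjE : G [j + 6] ∈ E := subset_closure ⟨j, hj, rfl⟩
    rw [commutatorElement_def, E_comm _ hiE _ hjE]
    group

theorem RE : ∀ r ∈ R, ∀ x ∈ E, r * x * r⁻¹ * x⁻¹ = 1 ∨ r * x * r⁻¹ * x⁻¹ = S * S := comm_RE

/-! ### the elements of `E` -/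

theorem bif_mul (b c : Bool) {i : ℕ} (hi : i < 5) :
    G (bif b then [i + 6] else []) * G (bif c then [i + 6] else []) = G (bif (xor b c) then [i + 6] else []) := by
  cases b <;> cases c
  · exact mul_one _
  · exact one_mul _
  · exact mul_one _
  · exact E_sq_gen hi

theorem bif_mem (b : Bool) {i : ℕ} (hi : i < 5) : G (bif b then [i + 6] else []) ∈ E := by
  cases b
  · exact one_mem _
  · exact subset_closure ⟨i, hi, rfl⟩

/-- the product with the exponents `b` -/
noncomputable def pr (b0 b1 b2 b3 b4 : Bool) : RuOrder.H :=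
  G (bif b0 then [0 + 6] else []) * (G (bif b1 then [1 + 6] else []) * (G (bif b2 then [2 + 6] else []) *
    (G (bif b3 then [3 + 6] else []) * G (bif b4 then [4 + 6] else []))))

theorem pr_mem (b0 b1 b2 b3 b4 : Bool) : pr b0 b1 b2 b3 b4 ∈ E :=
  mul_mem (bif_mem _ (by norm_num)) (mul_mem (bif_mem _ (by norm_num)) (mul_mem (bif_mem _ (by norm_num))
    (mul_mem (bif_mem _ (by norm_num)) (bif_mem _ (by norm_num)))))

theorem pr_mul (b0 b1 b2 b3 b4 c0 c1 c2 c3 c4 : Bool) : pr b0 b1 b2 b3 b4 * pr c0 c1 c2 c3 c4 =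
    pr (xor b0 c0) (xor b1 c1) (xor b2 c2) (xor b3 c3) (xor b4 c4) := by
  have sw : ∀ x ∈ E, ∀ y ∈ E, ∀ x' ∈ E, ∀ y' ∈ E, (x * y) * (x' * y') = (x * x') * (y * y') := by
    intro x _ y hy x' hx' y' _
    calc x * y * (x' * y') = x * (y * x') * y' := by group
      _ = x * (x' * y) * y' := by rw [E_comm y hy x' hx']
      _ = _ := by group
  have m := @bif_mem
  have h0 := fun b => m b (i := 0) (by norm_num)
  have h1 := fun b => m b (i := 1) (by norm_num)
  have h2 := fun b => m b (i := 2) (by norm_num)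
  have h3 := fun b => m b (i := 3) (by norm_num)
  have h4 := fun b => m b (i := 4) (by norm_num)
  unfold pr
  rw [sw _ (h0 _) _ (mul_mem (h1 _) (mul_mem (h2 _) (mul_mem (h3 _) (h4 _)))) _ (h0 _) _
      (mul_mem (h1 _) (mul_mem (h2 _) (mul_mem (h3 _) (h4 _)))),
    sw _ (h1 _) _ (mul_mem (h2 _) (mul_mem (h3 _) (h4 _))) _ (h1 _) _ (mul_mem (h2 _) (mul_mem (h3 _) (h4 _))),
    sw _ (h2 _) _ (mul_mem (h3 _) (h4 _)) _ (h2 _) _ (mul_mem (h3 _) (h4 _)),
    sw _ (h3 _) _ (h4 _) _ (h3 _) _ (h4 _),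
    bif_mul _ _ (by norm_num), bif_mul _ _ (by norm_num), bif_mul _ _ (by norm_num), bif_mul _ _ (by norm_num),
    bif_mul _ _ (by norm_num)]

theorem exists_pr : ∀ x ∈ E, ∃ b0 b1 b2 b3 b4 : Bool, x = pr b0 b1 b2 b3 b4 := by
  intro x hx
  have hx' : x ∈ closure gE := hx
  clear hx
  induction hx' using closure_induction with
  | mem x hx =>
    obtain ⟨i, hi, rfl⟩ := hx
    interval_cases i
    · exact ⟨true, false, false, false, false, by
        change G [6] = G [6] * (1 * (1 * (1 * 1))); simp only [mul_one]⟩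
    · exact ⟨false, true, false, false, false, by
        change G [7] = 1 * (G [7] * (1 * (1 * 1))); simp only [mul_one, one_mul]⟩
    · exact ⟨false, false, true, false, false, by
        change G [8] = 1 * (1 * (G [8] * (1 * 1))); simp only [mul_one, one_mul]⟩
    · exact ⟨false, false, false, true, false, by
        change G [9] = 1 * (1 * (1 * (G [9] * 1))); simp only [mul_one, one_mul]⟩
    · exact ⟨false, false, false, false, true, by
        change G [10] = 1 * (1 * (1 * (1 * G [10]))); simp only [one_mul]⟩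
  | one => exact ⟨false, false, false, false, false, by change (1 : RuOrder.H) = 1 * (1 * (1 * (1 * 1))); simp⟩
  | mul x y hx hy ihx ihy =>
    obtain ⟨b0, b1, b2, b3, b4, rfl⟩ := ihx
    obtain ⟨c0, c1, c2, c3, c4, rfl⟩ := ihy
    exact ⟨_, _, _, _, _, pr_mul _ _ _ _ _ _ _ _ _ _⟩
  | inv x hx ihx =>
    have : x⁻¹ = x := inv_eq_of_mul_eq_one_right (E_sq x hx)
    rw [this]; exact ihx

theorem pr_eq (m : ℕ) : pr (m.testBit 0) (m.testBit 1) (m.testBit 2) (m.testBit 3) (m.testBit 4) = G (msk m) := by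
  rw [msk, G_append, G_append, G_append, G_append]; rfl

theorem exists_msk : ∀ x ∈ E, ∃ m < 32, x = G (msk m) := by
  intro x hx
  obtain ⟨b0, b1, b2, b3, b4, rfl⟩ := exists_pr x hx
  have key : ∀ b0 b1 b2 b3 b4 : Bool, ∃ m < 32, Nat.testBit m 0 = b0 ∧ Nat.testBit m 1 = b1 ∧
      Nat.testBit m 2 = b2 ∧ Nat.testBit m 3 = b3 ∧ Nat.testBit m 4 = b4 := by decide
  obtain ⟨m, hm, h0, h1, h2, h3, h4⟩ := key b0 b1 b2 b3 b4
  exact ⟨m, hm, by rw [← pr_eq, h0, h1, h2, h3, h4]⟩

theorem cl : ∀ x ∈ E, x = 1 ∨ x = S * S ∨ ∃ g ∈ P1, g * (F * (S * S) * F⁻¹) * g⁻¹ = x := by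
  intro x hx
  obtain ⟨m, hm, rfl⟩ := exists_msk x hx
  rcases chk_cl m hm with rfl | rfl | h
  · left; rfl
  · right; left; exact z_eq
  · right; right
    refine ⟨V (XData.cl.getD m []), V_mem _, ?_⟩
    have h' := eqw_sound h
    rw [V_append, V_append] at h'
    rw [← a_eq, mul_inv_eq_iff_eq_mul]
    exact h'

theorem chk_gam3 : eqw (gg ([6, 7, 9, 10] ++ [4])) (gg ([7, 9, 10] ++ ([4] ++ [6, 7, 9, 10]))) = true := by
  decide +kernel

theorem gam : ∃ r1 ∈ R, ∃ r2 ∈ R, ∃ r3 ∈ R, ⁅⁅r1, r2⁆, r3⁆ = S * S := by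
  refine ⟨G [0], G_mem_R (by decide), G [1], G_mem_R (by decide), G [4], G_mem_R (by decide), ?_⟩
  have h := eqw_sound chk_gam
  change G [0, 1] = G ([6, 7, 9, 10] ++ [1, 0]) at h
  rw [G_append, G_two, G_two] at h
  have e : ⁅G [0], G [1]⁆ = G [6, 7, 9, 10] := by
    rw [commutatorElement_def, h]
    group
  rw [e]
  have h3 := eqw_sound chk_gam3
  change G ([6, 7, 9, 10] ++ [4]) = G ([7, 9, 10] ++ ([4] ++ [6, 7, 9, 10])) at h3
  rw [G_append, G_append, G_append, z_eq] at h3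
  rw [commutatorElement_def, h3]
  group

/-! ### the complement `⟨T, D, Y⟩` -/

theorem A_nor : ∀ g ∈ A, ∀ r ∈ R, g * r * g⁻¹ ∈ R := fun g hg => R_nor g (A_le hg)

theorem T_A : T ∈ A := subset_closure (by simp)
theorem D_A : D ∈ A := subset_closure (by simp)
theorem Y_A : Y ∈ A := subset_closure (by simp)

theorem cover : ∀ x ∈ P1, ∃ r ∈ R, ∃ a ∈ A, x = r * a := by
  refine XAbs.exists_mul (s := {S1, T, D, Y}) rfl A_nor ?_
  rintro g (rfl | rfl | rfl | rfl)
  · refine ⟨G [0], G_mem_R (by decide), T, T_A, ?_⟩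
    have h := eqw_sound chk_s1
    rw [V_append, V1, V0] at h
    exact h
  · exact ⟨1, one_mem _, T, T_A, (one_mul _).symm⟩
  · exact ⟨1, one_mem _, D, D_A, (one_mul _).symm⟩
  · exact ⟨1, one_mem _, Y, Y_A, (one_mul _).symm⟩

theorem V_A {w : List ℕ} (h : ∀ a ∈ w, a = 0 ∨ a = 2 ∨ a = 3 ∨ a = 5) : V w ∈ A := by
  induction w with
  | nil => exact one_mem _
  | cons a w ih =>
    rw [V_cons]
    refine mul_mem ?_ (ih fun b hb => h b (List.mem_cons_of_mem _ hb))
    rcases h a (by simp) with rfl | rfl | rfl | rfl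
    · rw [V0]; exact T_A
    · rw [V2]; exact D_A
    · rw [V3]; exact Y_A
    · rw [V5]; exact inv_mem D_A

theorem TT : T * T = 1 := by
  have h := eqw_sound (u := [0, 0]) (v := []) (by decide +kernel)
  rw [V_cons, V0, V_nil] at h
  exact h

theorem YY : Y * Y = 1 := by
  have h := eqw_sound (u := [3, 3]) (v := []) (by decide +kernel)
  rw [V_cons, V3, V_nil] at h
  exact h

theorem DDD : D * (D * D) = 1 := by
  have h := eqw_sound (u := [2, 2, 2]) (v := []) (by decide +kernel)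
  rw [V_cons, V_cons, V2, V_nil] at h
  exact h

theorem TY3 : (T * Y) * ((T * Y) * (T * Y)) = 1 := by
  have h := eqw_sound (u := [0, 3, 0, 3, 0, 3]) (v := []) (by decide +kernel)
  rw [V_cons 0, V_cons 3 [0, 3, 0, 3], V_cons 0 [3, 0, 3], V_cons 3 [0, 3], V_cons 0 [3], V0, V3, V_nil] at h
  rw [← h]
  group

theorem T_ne_Y : T ≠ Y := by
  intro h
  have h1 : V [0] = V [3] := by rw [V0, V3, h]
  have h2 := evalK_eq ([0].flatMap ex) ⟨0, by norm_num⟩
  have h3 := evalK_eq ([3].flatMap ex) ⟨0, by norm_num⟩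
  change V [0] = V [3] at h1
  have h4 : evalK ([0].flatMap ex) 0 = evalK ([3].flatMap ex) 0 := by
    rw [← h2, ← h3]
    change (((V [0] : RuOrder.H) : Equiv.Perm (Fin 4060)) _ : ℕ) = ((V [3] : RuOrder.H) : Equiv.Perm (Fin 4060)) _
    rw [h1]
  have h5 : ¬ (evalK ([0].flatMap ex) 0 = evalK ([3].flatMap ex) 0) := by decide +kernel
  exact h5 h4

theorem rng_aw : ∀ i < 60, ((aw.getD i []).all fun a => Nat.beq a 0 || Nat.beq a 2 || Nat.beq a 3 || Nat.beq a 5) = true := by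
  decide +kernel

theorem rng_cj : ∀ i < 60, ((cj.getD i []).all fun a => Nat.beq a 0 || Nat.beq a 2 || Nat.beq a 3 || Nat.beq a 5) = true := by
  decide +kernel

theorem V_A' {w : List ℕ} (h : (w.all fun a => Nat.beq a 0 || Nat.beq a 2 || Nat.beq a 3 || Nat.beq a 5) = true) :
    V w ∈ A := by
  apply V_A
  intro a ha
  have := List.all_eq_true.1 h a ha
  simp only [Bool.or_eq_true, Nat.beq_eq] at this
  omega

/-- the 60 elements -/
theorem mem_A : ∀ x ∈ A, ∃ i < 60, x = V (aw.getD i []) := by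
  have s0 : ∀ i < 60, ∃ j < 60, T * V (aw.getD i []) = V (aw.getD j []) := fun i hi =>
    ⟨_, (rng_nx i hi).1, by have h := eqw_sound (chk_nx0 i hi); rwa [V_cons, V0] at h⟩
  have s2 : ∀ i < 60, ∃ j < 60, D * V (aw.getD i []) = V (aw.getD j []) := fun i hi =>
    ⟨_, (rng_nx i hi).2.1, by have h := eqw_sound (chk_nx2 i hi); rwa [V_cons, V2] at h⟩
  have s3 : ∀ i < 60, ∃ j < 60, Y * V (aw.getD i []) = V (aw.getD j []) := fun i hi =>
    ⟨_, (rng_nx i hi).2.2, by have h := eqw_sound (chk_nx3 i hi); rwa [V_cons, V3] at h⟩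
  have hT : T⁻¹ = T := inv_eq_of_mul_eq_one_right TT
  have hY : Y⁻¹ = Y := inv_eq_of_mul_eq_one_right YY
  have hD : D⁻¹ = D * D := inv_eq_of_mul_eq_one_right DDD
  intro x hx
  have hx' : x ∈ closure ({T, D, Y} : Set RuOrder.H) := hx
  clear hx
  induction hx' using closure_induction_left with
  | one => exact ⟨0, by norm_num, rfl⟩
  | mul_left g hg y hy ih =>
    obtain ⟨i, hi, rfl⟩ := ih
    rcases hg with rfl | rfl | rfl
    · exact s0 i hi
    · exact s2 i hi
    · exact s3 i hi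
  | inv_mul_cancel g hg y hy ih =>
    obtain ⟨i, hi, rfl⟩ := ih
    rcases hg with rfl | rfl | rfl
    · rw [hT]; exact s0 i hi
    · obtain ⟨j, hj, e⟩ := s2 i hi
      obtain ⟨k, hk, e'⟩ := s2 j hj
      exact ⟨k, hk, by rw [hD, mul_assoc, e, e']⟩
    · rw [hY]; exact s3 i hi

theorem elt_A : ∀ a ∈ A, a ^ 3 = 1 ∨ a ^ 5 = 1 ∨ ∃ c ∈ A, c * T * c⁻¹ = a := by
  intro a ha
  obtain ⟨i, hi, rfl⟩ := mem_A a ha
  rcases chk_kd i hi with h | h | h
  · left
    have h' := eqw_sound h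
    rw [V_append, V_append, V_nil] at h'
    rw [← h', pow_succ, pow_succ, pow_one, mul_assoc]
  · right; left
    have h' := eqw_sound h
    rw [V_append, V_append, V_append, V_append, V_nil] at h'
    rw [← h', pow_succ, pow_succ, pow_succ, pow_succ, pow_one]
    simp only [mul_assoc]
  · right; right
    have h' := eqw_sound h
    rw [V_append, V_append, V0] at h'
    refine ⟨V (cj.getD i []), V_A' (rng_cj i hi), ?_⟩
    rw [mul_inv_eq_iff_eq_mul]
    exact h'

/-- `R` is the largest normal `2`-subgroup of `P1` -/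
theorem R_max : ∀ Q ≤ P1, IsPGroup 2 Q → (∀ g ∈ P1, ∀ q ∈ Q, g * q * g⁻¹ ∈ Q) → Q ≤ R := fun Q h1 h2 h3 =>
  XAbs.le_of_normal R_two A_le R_nor cover Y_A TT YY TY3 T_ne_Y elt_A Q h1 h2 h3

theorem S_mem_R : S ∈ R := by
  have h := eqv_sound chk_S
  change G [0, 1, 3, 6, 9, 10] = wprod ml [1] at h
  rw [wprod_cons] at h
  have e : S = G [0, 1, 3, 6, 9, 10] := by rw [h]; exact (mul_one S).symm
  rw [e]
  exact G_mem_R (by decide)

theorem S_mem : S ∈ P1 := R_le S_mem_R

theorem P1_le : P1 ≤ centralizer {S * S} := by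
  intro x hx
  rw [mem_centralizer_iff]
  rintro w rfl
  exact (z_comm x hx).symm

end Cfsg.Agent.OddHalf.D9.Ru.XR
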