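import Cfsg.Agent.OddHalf.D9.Ru.XF
import Cfsg.Agent.OddHalf.D9.Ru.XR
import Cfsg.Agent.OddHalf.D9.Ru.XCover
import Cfsg.Agent.KFacts.RuDbl.Main

/-!
# D9, row `2.Ru`: the facts `XF` on `RuOrder.H`
-/

set_option autoImplicit false

namespace Cfsg.Agent.OddHalf.D9.Ru.XfRes

open Subgroup Cfsg.Agent.KFacts.MulTwo Cfsg.Agent.KFacts.MulDef Cfsg.Agent.OddHalf.D9.Ru.XLevel
  Cfsg.Agent.SporadicB Cfsg.Agent.RuD.Letters

/-- the facts on the centraliser of `S²` -/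
theorem xf : Cfsg.Agent.OddHalf.D9.Ru.XF.XF (S * S) (F * (S * S) * F⁻¹) XDef.P1 XR.R XR.E where
  odd := XCover.odd
  P1_le := XCover.P1_le
  P1_perf := XCover.P1_perf
  cover := XCover.cover
  R_le := XR.R_le
  R_nor := XR.R_nor
  R_two := XR.R_two
  R_max := XR.R_max
  RR := XR.RR
  RE := XR.RE
  cl := XR.cl
  gam := XR.gam

theorem exists_xf : ∃ P1 R E : Subgroup RuOrder.H,
    Cfsg.Agent.OddHalf.D9.Ru.XF.XF (S * S) (F * (S * S) * F⁻¹) P1 R E := ⟨_, _, _, xf⟩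

/-- the lifts of `T` have square `c` -/
theorem tau {L : Type*} [Group L] [Finite L] {π : L →* RuOrder.H} {c : L} (hd : Dbl π c) {x : L}
    (h : IsConj T (π x)) : x * x = c :=
  Cfsg.Agent.KFacts.RuDbl.Main.badB hd (isConj_T.trans h)

end Cfsg.Agent.OddHalf.D9.Ru.XfRes
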