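import Cfsg.Agent.OddHalf.D9.Ru.KFin
import Cfsg.Agent.OddHalf.D9.Ru.XfRes
import Cfsg.Agent.RuD.IdxFin

/-!
# D9, row `2.Ru`

`row`: the row `2.Ru` of `Cut.Rows`.
-/

set_option autoImplicit false

namespace Cfsg.Agent.OddHalf.D9.Ru.RowFin

open Cfsg Cfsg.Agent.OddHalf.D9

universe u

theorem bound : Cfsg.Agent.KFacts.MulRu.Main.Bound.{u} := Cfsg.Agent.RuD.IdxFin.bound

theorem idx : Cfsg.Agent.KFacts.MulRu.Main.Idx.{u} := fun _ _ _ _ _ _ _ _ h =>
  Cfsg.Agent.RuD.IdxFin.index_le h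

/-- the facts on an arbitrary perfect double cover of the Rudvalis group -/
theorem facts : Row.Facts.{u} (fun X _ => Spor.IsoRu X) := KFin.facts bound idx XfRes.exists_xf

/-- **D9, row `2.Ru`** -/
theorem row : Cut.Row.{u} (fun K _ => Cut.Two (fun X _ => Spor.IsoRu X) K) := Row.row facts

end Cfsg.Agent.OddHalf.D9.Ru.RowFin
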