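import Cfsg.Agent.KFacts.MulDef
import Cfsg.Agent.OddHalf.D9.M12Glue
import Cfsg.Agent.OddHalf.Table.OutRu

/-!
# Perfect double covers: centre and automorphisms; the case of the Rudvalis group

* `cen_iff`: the centre of a perfect double cover `L` of a group with trivial centre is `{1, c}`;
* `inn_of`: if all automorphisms of `X` are inner, so are those of `L`;
* `exists_dbl`: a perfect group `L` with centre of order 2 and `L / Z(L)` the Rudvalis group is a perfect double cover
  of `RuOrder.H`;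
* `center_H`, `cenRu`, `innRu`: the case of the Rudvalis group.
-/

set_option autoImplicit false

namespace Cfsg.Agent.OddHalf.D9.Ru.Inn

open Subgroup Cfsg Cfsg.Agent.KFacts.MulTwo Cfsg.Agent.KFacts.MulDef
open scoped commutatorElement

section gen

variable {L X : Type*} [Group L] [Group X] {π : L →* X} {c : L}

theorem pc (hd : Dbl π c) : π c = 1 := (hd.ker c).2 (Or.inr rfl)

theorem eq_or (hd : Dbl π c) {x y : L} (h : π x = π y) : x = y ∨ x = c * y := by
  have h1 : π (x * y⁻¹) = 1 := by rw [map_mul, map_inv, h, mul_inv_cancel]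
  rcases (hd.ker _).1 h1 with h2 | h2
  · left; exact mul_inv_eq_one.1 h2
  · right; rw [← h2, inv_mul_cancel_right]

/-- elements commuting modulo `{1, c}` with everything commute with everything -/
theorem comm_of_bar (hd : Dbl π c) {x : L} (h : ∀ y, π x * π y = π y * π x) (y : L) : x * y = y * x := by
  let N : Subgroup L := centralizer {x}
  have hN : N = ⊤ := by
    rw [eq_top_iff, ← hd.perf, _root_.commutator_def, Subgroup.commutator_le]
    intro a _ b _
    have key : ∀ y, ∃ f : L, (∀ w, f * w = w * f) ∧ x * y * x⁻¹ = f * y := by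
      intro y
      have h1 : π (x * y * x⁻¹) = π y := by
        rw [map_mul, map_mul, map_inv, h, mul_inv_cancel_right]
      rcases eq_or hd h1 with h1 | h1
      · exact ⟨1, fun y => by rw [one_mul, mul_one], by rw [h1, one_mul]⟩
      · exact ⟨c, hd.cen, h1⟩
    obtain ⟨f, hf, hf'⟩ := key a
    obtain ⟨g, hg, hg'⟩ := key b
    rw [mem_centralizer_singleton_iff]
    have h2 : x * ⁅a, b⁆ * x⁻¹ = ⁅a, b⁆ := by
      have e : x * ⁅a, b⁆ * x⁻¹ = ⁅x * a * x⁻¹, x * b * x⁻¹⁆ := by
        rw [commutatorElement_def, commutatorElement_def]; group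
      rw [e, hf', hg', commutatorElement_def, commutatorElement_def]
      calc f * a * (g * b) * (f * a)⁻¹ * (g * b)⁻¹ = f * (a * g) * b * a⁻¹ * f⁻¹ * b⁻¹ * g⁻¹ := by group
        _ = f * (g * a) * b * a⁻¹ * f⁻¹ * b⁻¹ * g⁻¹ := by rw [hg a]
        _ = (f * (g * a * b * a⁻¹)) * f⁻¹ * b⁻¹ * g⁻¹ := by group
        _ = ((g * a * b * a⁻¹) * f) * f⁻¹ * b⁻¹ * g⁻¹ := by rw [hf]
        _ = (g * (a * b * a⁻¹ * b⁻¹)) * g⁻¹ := by group
        _ = ((a * b * a⁻¹ * b⁻¹) * g) * g⁻¹ := by rw [hg]
        _ = _ := by group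
    exact (mul_inv_eq_iff_eq_mul.1 h2).symm
  have h3 : y ∈ N := by rw [hN]; trivial
  exact (mem_centralizer_singleton_iff.1 h3).symm

theorem cen_iff (hd : Dbl π c) (hX : ∀ a : X, (∀ b, a * b = b * a) → a = 1) (x : L) :
    (∀ y, x * y = y * x) ↔ x = 1 ∨ x = c := by
  constructor
  · intro h
    refine (hd.ker x).1 (hX _ ?_)
    intro b
    obtain ⟨y, rfl⟩ := hd.surj b
    rw [← map_mul, h, map_mul]
  · rintro (rfl | rfl)
    · intro y; rw [one_mul, mul_one]
    · exact hd.cen

theorem exists_bar (hd : Dbl π c) (α : MulAut L) (hα : α c = c) : ∃ β : MulAut X, ∀ x, β (π x) = π (α x) := by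
  let f : L →* X := π.comp α.toMonoidHom
  have hf : Function.Surjective f := hd.surj.comp α.surjective
  have hk : π.ker = f.ker := by
    ext x
    rw [MonoidHom.mem_ker, MonoidHom.mem_ker]
    show π x = 1 ↔ π (α x) = 1
    rw [hd.ker, hd.ker]
    constructor
    · rintro (h | h)
      · left; rw [h, map_one]
      · right; rw [h, hα]
    · rintro (h | h)
      · left; exact (map_eq_one_iff α α.injective).1 h
      · right
        apply α.injective
        rw [h, hα]
  refine ⟨(QuotientGroup.quotientKerEquivOfSurjective π hd.surj).symm.trans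
    ((QuotientGroup.quotientMulEquivOfEq hk).trans (QuotientGroup.quotientKerEquivOfSurjective f hf)), ?_⟩
  intro x
  have h1 : (QuotientGroup.quotientKerEquivOfSurjective π hd.surj).symm (π x) = QuotientGroup.mk x := by
    rw [MulEquiv.symm_apply_eq]; rfl
  show (QuotientGroup.quotientKerEquivOfSurjective f hf) ((QuotientGroup.quotientMulEquivOfEq hk)
    ((QuotientGroup.quotientKerEquivOfSurjective π hd.surj).symm (π x))) = _
  rw [h1]
  rfl

theorem eq_one_of_bar (hd : Dbl π c) (γ : MulAut L) (h : ∀ x, π (γ x) = π x) : γ = 1 := by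
  let N : Subgroup L :=
    { carrier := {x | γ x = x}
      one_mem' := map_one γ
      mul_mem' := fun {a b} ha hb => by
        show γ (a * b) = a * b
        rw [map_mul, show γ a = a from ha, show γ b = b from hb]
      inv_mem' := fun {a} ha => by
        show γ a⁻¹ = a⁻¹
        rw [map_inv, show γ a = a from ha] }
  have hN : N = ⊤ := by
    rw [eq_top_iff, ← hd.perf, _root_.commutator_def, Subgroup.commutator_le]
    intro a _ b _
    have key : ∀ x, ∃ f : L, (∀ y, f * y = y * f) ∧ γ x = f * x := by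
      intro x
      rcases eq_or hd (h x) with h1 | h1
      · exact ⟨1, fun y => by rw [one_mul, mul_one], by rw [h1, one_mul]⟩
      · exact ⟨c, hd.cen, h1⟩
    obtain ⟨f, hf, hf'⟩ := key a
    obtain ⟨g, hg, hg'⟩ := key b
    show γ ⁅a, b⁆ = ⁅a, b⁆
    rw [map_commutatorElement, hf', hg', commutatorElement_def, commutatorElement_def]
    calc f * a * (g * b) * (f * a)⁻¹ * (g * b)⁻¹ = f * (a * g) * b * a⁻¹ * f⁻¹ * b⁻¹ * g⁻¹ := by group
      _ = f * (g * a) * b * a⁻¹ * f⁻¹ * b⁻¹ * g⁻¹ := by rw [hg a]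
      _ = (f * (g * a * b * a⁻¹)) * f⁻¹ * b⁻¹ * g⁻¹ := by group
      _ = ((g * a * b * a⁻¹) * f) * f⁻¹ * b⁻¹ * g⁻¹ := by rw [hf]
      _ = (g * (a * b * a⁻¹ * b⁻¹)) * g⁻¹ := by group
      _ = ((a * b * a⁻¹ * b⁻¹) * g) * g⁻¹ := by rw [hg]
      _ = _ := by group
  ext x
  have : x ∈ N := by rw [hN]; trivial
  exact this

/-- an automorphism inducing an inner automorphism is inner -/
theorem inner_of_bar (hd : Dbl π c) (α : MulAut L) (k : L) (h : ∀ x, π (α x) = π k * π x * (π k)⁻¹) :
    α = MulAut.conj k := by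
  have h1 : (MulAut.conj k)⁻¹ * α = 1 := by
    apply eq_one_of_bar hd
    intro x
    have e : ((MulAut.conj k)⁻¹ * α) x = k⁻¹ * α x * k := by
      rw [← map_inv, MulAut.mul_apply, MulAut.conj_apply, inv_inv]
    rw [e, map_mul, map_mul, map_inv, h]
    group
  exact (inv_mul_eq_one.1 h1).symm

/-- automorphisms fix the generator of the centre -/
theorem map_c (hd : Dbl π c) (hX : ∀ a : X, (∀ b, a * b = b * a) → a = 1) (α : MulAut L) : α c = c := by
  have h1 : ∀ y, α c * y = y * α c := by
    intro y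
    obtain ⟨x, rfl⟩ := α.surjective y
    rw [← map_mul, hd.cen, map_mul]
  rcases (cen_iff hd hX _).1 h1 with h | h
  · exact absurd ((map_eq_one_iff α α.injective).1 h) hd.ne
  · exact h

/-- **if all automorphisms of `X` are inner, so are those of its perfect double covers** -/
theorem inn_of (hd : Dbl π c) (hX : ∀ a : X, (∀ b, a * b = b * a) → a = 1)
    (hA : ∀ β : MulAut X, ∃ g, β = MulAut.conj g) (α : MulAut L) : ∃ k, α = MulAut.conj k := by
  obtain ⟨β, hβ⟩ := exists_bar hd α (map_c hd hX α)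
  obtain ⟨g, rfl⟩ := hA β
  obtain ⟨k, rfl⟩ := hd.surj g
  refine ⟨k, inner_of_bar hd α k fun x => ?_⟩
  rw [← hβ, MulAut.conj_apply]

theorem mem_center_iff_of_card (h2 : Nat.card ↥(center L) = 2)
    (hc : c ∈ center L) (hc1 : c ≠ 1) (x : L) : x ∈ center L ↔ x = 1 ∨ x = c := by
  constructor
  · intro hx
    by_cases hx1 : x = 1
    · exact Or.inl hx1
    · right
      obtain ⟨z, hz1, hz2⟩ := (Nat.card_eq_two_iff' (1 : center L)).1 h2
      have e1 := hz2 ⟨x, hx⟩ (fun h => hx1 (congrArg Subtype.val h))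
      have e2 := hz2 ⟨c, hc⟩ (fun h => hc1 (congrArg Subtype.val h))
      exact congrArg Subtype.val (e1.trans e2.symm)
  · rintro (rfl | rfl)
    · exact one_mem _
    · exact hc

/-- the double cover of a perfect group with centre of order 2 -/
theorem dbl_of_center (hp : commutator L = ⊤) (h2 : Nat.card ↥(center L) = 2) (e : L ⧸ center L ≃* X)
    (hc : c ∈ center L) (hc1 : c ≠ 1) : ∃ π : L →* X, Dbl π c := by
  have hm := mem_center_iff_of_card h2 hc hc1
  refine ⟨e.toMonoidHom.comp (QuotientGroup.mk' (center L)), ⟨⟨hc1, ?_, ?_, hp⟩,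
    e.surjective.comp (QuotientGroup.mk'_surjective _), ?_⟩⟩
  · rcases (hm (c * c)).1 (mul_mem hc hc) with h | h
    · exact h
    · exact absurd (mul_eq_left.1 h) hc1
  · intro x
    exact (mem_center_iff.1 hc x).symm
  · intro x
    show e (x : L ⧸ center L) = 1 ↔ _
    rw [e.map_eq_one_iff, QuotientGroup.eq_one_iff, hm]

end gen

/-! ### The Rudvalis group -/

open Cfsg.Agent.SporadicB Cfsg.Agent.OddHalf.Table

theorem center_H (a : RuOrder.H) (h : ∀ b, a * b = b * a) : a = 1 := by
  have := RuSimple.isSimpleGroup_H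
  have h1 : a ∈ center RuOrder.H := mem_center_iff.2 fun b => (h b).symm
  rcases (center RuOrder.H).normal_of_characteristic.eq_bot_or_eq_top with h2 | h2
  · rw [h2, mem_bot] at h1
    exact h1
  · exfalso
    have key : ∀ b : RuOrder.H, b ∈ center RuOrder.H := fun b => by rw [h2]; trivial
    have h3 : OutRu.f * OutRu.x * OutRu.f⁻¹ = OutRu.x := by
      rw [mul_inv_eq_iff_eq_mul]
      exact mem_center_iff.1 (key OutRu.x) OutRu.f
    have h4 : OutRu.x ^ 4 = OutRu.x ^ 1 := by rw [← OutRu.conj_fx, h3, pow_one]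
    have h5 := (pow_eq_pow_iff_modEq.1 h4)
    rw [OutRu.orderOf_x] at h5
    exact absurd h5 (by decide)

variable {L : Type*} [Group L] {π : L →* RuOrder.H} {c : L}

theorem cenRu (hd : Dbl π c) (x : L) : (∀ y, x * y = y * x) ↔ x = 1 ∨ x = c := cen_iff hd center_H x

theorem innRu (hd : Dbl π c) (φ : MulAut L) : φ ∈ M12Glue.Inn L := by
  obtain ⟨k, rfl⟩ := inn_of hd center_H Cfsg.Agent.OddHalf.Table.OutRu.inner φ
  exact ⟨k, rfl⟩

/-- a perfect group with centre of order 2 and central quotient the Rudvalis group -/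
theorem exists_dbl (hp : commutator L = ⊤) (h2 : Nat.card ↥(center L) = 2)
    (hR : Spor.IsoRu (L ⧸ center L)) (hc : c ∈ center L) (hc1 : c ≠ 1) : ∃ π : L →* RuOrder.H, Dbl π c := by
  obtain ⟨e⟩ := hR
  exact dbl_of_center hp h2 (e.trans RuLat.Main.equiv) hc hc1

end Cfsg.Agent.OddHalf.D9.Ru.Inn
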