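import Cfsg.Agent.RuD.Model

/-!
# `Ru`: upper bound for the centraliser of `z = s²`

`card_CZ_le : |C(z)| ≤ 245760`: `C(z)` preserves the set `mF` of points fixed by `z` and the set `mA` of points
adjacent to their image under `z`; the orbit of the point `0` is in the set of the `2048` other points; its stabiliser
has order at most `120` (certified refinement).
-/

set_option autoImplicit false
set_option maxRecDepth 100000
set_option exponentiation.threshold 5000
set_option Elab.async false

namespace Cfsg.Agent.OddHalf.D9.Ru.XFAU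

open Cfsg.Agent.Lib Cfsg.Agent.Lib.BitNet Cfsg.Agent.Lib.BitNetSimple Cfsg.Agent.SporadicB
  Cfsg.Agent.SporadicB.RuData Cfsg.Agent.SporadicB.RuOrder
open Cfsg.Agent.RuD.Letters Cfsg.Agent.RuD.Model Cfsg.Agent.SporRec.TCUpperCert Cfsg.Agent.SporRec.R3.Kernel

/-- the points fixed by `z` -/
def mF : ℕ := 0x4000000002000080004000000900000000000000000000000000000000000000000000000000000000000008000800040000000000000000000080000000000080020100020000000000000000000000000000800004000000000000080000080000000000000000000000008000080000001000000002800000000000000000000000001400040000000000000000000000002000000000000000080000000000004000000000000004020040000000000000000000000000000000000000040400000000400000000000000000000000000000000000200000001000000000000000000004000000000404000000000000000000006a0000000400000010010000000000000000000020000000000000020000000000020000000000000000009000000400000008000000000000000000000000101000000000020000000000000000000000000000000000000000020000000001000000000000080000000040000800000400002000000000800000000000000010000000000200000000000000000024000000200000001000000000800000000400000020000000000000000000000000000000002008000004008800000010000000000000000000018000000020000000000002000001000042000400200800000000020000000000000000002000000000000000000000000000000000000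

/-- the points adjacent to their image -/
def mA : ℕ := 0x15c67c0f1bbc723ff9d0100d6ecd3585c2d03b85606b92fdd5bb2a25515372c81c42f8c22203f43676e9a914f9eb6f6dd40a51155b1e8880cfe5ea722bec6121ea5ec4b8787fc8605601f147480fc1ff532869f7a88200f24463088e6af90ed62310f5aa372be3812068a449b58df8026853ca42c70057035870020917d574e510282a61a6421ce9bfa0cee058f7e2de5e246d8a6bad00720a0263eb840e9ea46422eab2a712ecbdb2405cac23548b2473a8e980ad23d8bd3b69120d28324717ea97795739319306e77d09c19dc69a870c9d42c827db8b459f12a315813b320b8c4c841ba2bf10422375332eb7c17c7bc23d42ec006b4a02e8bb4985ff2ce768f40b0922222e94ad759b0e8c37ca6d12c0026f6aede6a5d9bfd32fb40c2e729fc6abd4ef821a0dc03eda10db9ac47c0270086e9e71aea0180d5ee7c3f51a68b3d02b893faaedf0071a3e6a4327f95e8db20ea01c39e903105d61cc9441b287fafda363e3439e2642160f8b801df78495bc9cd85ff7fefd250bcccaa09352e176b462946920fa16a352f4437629c5dad3c49e85aef6163f635b089c530313968d6868c812da884912590696c971ad451dc034b295809b5523ec0123b2b6002724f7abed77a00205f924cd5bbd158e6c64f4e25e7b5e24d590ac9de5536b6b66d008a52b7a85212a24168733e28ee3bdae835a874744dccc65676400c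

/-- the other points -/
def mM : ℕ := Nat.xor (Nat.sub (Nat.pow 2 4060) 1) (Nat.lor mF mA)

/-- check `f` on `[b, b + 2 ^ k)` -/
noncomputable def allBin (f : ℕ → Bool) (k : ℕ) : ℕ → Bool :=
  Nat.rec (motive := fun _ => ℕ → Bool) f
    (fun k ih b => Bool.rec false (force (Nat.add b (Nat.pow 2 k)) ih) (ih b)) k

theorem allBin_iff (f : ℕ → Bool) : ∀ (k b : ℕ), allBin f k b = true → ∀ i, b ≤ i → i < b + 2 ^ k → f i = true
  | 0, b, h, i, h1, h2 => by
    have : i = b := by
      rw [pow_zero] at h2
      omega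
    rw [this]
    exact h
  | k + 1, b, h, i, h1, h2 => by
    have e : allBin f (k + 1) b = Bool.rec false (force (Nat.add b (Nat.pow 2 k)) (allBin f k)) (allBin f k b) := rfl
    rw [e, and3, Bool.and_eq_true, force_eq] at h
    have e2 : 2 ^ (k + 1) = 2 ^ k + 2 ^ k := by ring
    rcases lt_or_ge i (b + 2 ^ k) with h3 | h3
    · exact allBin_iff f k b h.1 i h1 h3
    · refine allBin_iff f k _ h.2 i h3 ?_
      change i < b + 2 ^ k + 2 ^ k
      omega

/-- equality of Booleans -/
def beqB (a b : Bool) : Bool := Bool.rec (Bool.rec true false b) b a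

theorem beqB_iff {a b : Bool} (h : beqB a b = true) : a = b := by
  cases a <;> cases b <;> first | rfl | exact absurd h (by decide)

/-- the check at the point `i` -/
noncomputable def chkPt (i : ℕ) : Bool :=
  Bool.rec (force (evalK [1, 1] i) (fun j => Bool.rec false (beqB (tb mA i) (tb (row i) j))
    (beqB (tb mF i) (Nat.beq j i)))) true (Nat.ble 4060 i)

theorem chk_all : allBin chkPt 12 0 = true := by decide +kernel

/-- `z` as a permutation -/
noncomputable def zp : Equiv.Perm (Fin 4060) := ((S * S : RuOrder.H) : Equiv.Perm (Fin 4060))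

theorem zp_apply (i : Fin 4060) : (zp i : ℕ) = evalK [1, 1] i := by
  have h := evalK_eq [1, 1] i
  rw [wprod_cons, wprod_cons, wprod_nil, mul_one] at h
  exact h

theorem chkPt_all (i : Fin 4060) : mF.testBit i = Nat.beq (zp i) i ∧ mA.testBit i = (row i).testBit (zp i) := by
  have h := allBin_iff _ _ _ chk_all i (Nat.zero_le _) (by have := i.2; norm_num; omega)
  unfold chkPt at h
  have e : Nat.ble 4060 i = false := by
    rw [← Bool.not_eq_true, Nat.ble_eq]
    have := i.2
    omega
  rw [e] at h
  change force (evalK [1, 1] i) _ = true at h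
  rw [force_eq, and3, Bool.and_eq_true, ← zp_apply] at h
  have h1 := beqB_iff h.1
  have h2 := beqB_iff h.2
  rw [tb_eq] at h1 h2
  rw [tb_eq] at h2
  exact ⟨h1, h2⟩

theorem CZ_le : CZ ≤ RuOrder.H := by
  rintro _ ⟨g, -, rfl⟩
  exact g.2

theorem CZ_comm {σ : Equiv.Perm (Fin 4060)} (h : σ ∈ CZ) (i : Fin 4060) : zp (σ i) = σ (zp i) := by
  obtain ⟨g, hg, rfl⟩ := h
  rw [SetLike.mem_coe, Subgroup.mem_centralizer_singleton_iff] at hg
  have h1 := congrArg (fun x : RuOrder.H => (x : Equiv.Perm (Fin 4060)) i) hg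
  first
  | exact h1
  | exact h1.symm

theorem inv_mF {σ : Equiv.Perm (Fin 4060)} (h : σ ∈ CZ) : Inv σ mF := by
  intro i
  rw [(chkPt_all _).1, (chkPt_all _).1, CZ_comm h]
  rw [Bool.eq_iff_iff, Nat.beq_eq, Nat.beq_eq]
  constructor
  · intro h1
    exact congrArg Fin.val (σ.injective (Fin.ext h1))
  · intro h1
    have : zp i = i := Fin.ext h1
    rw [this]

theorem inv_mA {σ : Equiv.Perm (Fin 4060)} (h : σ ∈ CZ) : Inv σ mA := by
  intro i
  rw [(chkPt_all _).2, (chkPt_all _).2, CZ_comm h]
  exact (CZ_le h) i (zp i)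

theorem inv_full (σ : Equiv.Perm (Fin 4060)) : Inv σ (Nat.sub (Nat.pow 2 4060) 1) := by
  intro i
  change (2 ^ 4060 - 1).testBit _ = (2 ^ 4060 - 1).testBit _
  rw [Nat.testBit_two_pow_sub_one, Nat.testBit_two_pow_sub_one]
  simp

theorem inv_mM {σ : Equiv.Perm (Fin 4060)} (h : σ ∈ CZ) : Inv σ mM := by
  intro i
  have e : mM = (Nat.sub (Nat.pow 2 4060) 1) ^^^ (mF ||| mA) := rfl
  rw [e, Nat.testBit_xor, Nat.testBit_xor, Nat.testBit_or, Nat.testBit_or, inv_full σ i, inv_mF h i, inv_mA h i]

theorem popc_mM : popc 12 mM = 2048 := by decide +kernel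
theorem mM_zero : tb mM 0 = true := by decide +kernel

/-- the orbit of the point `0` -/
theorem orbit_le : Nat.card (MulAction.orbit CZ b1) ≤ 2048 := by
  rw [← popc_mM]
  refine le_trans ?_ (card_pts_le (n := 4060) (by norm_num) _)
  rw [Nat.card_coe_set_eq, ← Set.ncard_coe_finset]
  apply Set.ncard_le_ncard
  · rintro x ⟨σ, rfl⟩
    rw [Finset.mem_coe, mem_pts]
    have h1 := inv_mM σ.2 b1
    have h2 : mM.testBit b1 = true := by
      rw [← tb_eq]
      exact mM_zero
    rw [h2] at h1
    exact h1
  · exact Set.toFinite _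

/-- the point `z 0` -/
def pz : Fin 4060 := ⟨1787, by norm_num⟩

theorem zp_b1 : zp b1 = pz := by
  apply Fin.ext
  rw [zp_apply]
  have : Nat.beq (evalK [1, 1] 0) 1787 = true := by decide +kernel
  exact Nat.eq_of_beq_eq_true this

/-- the stabiliser of the point `0` -/
def K1 : Subgroup (Equiv.Perm (Fin 4060)) := CZ ⊓ MulAction.stabilizer (Equiv.Perm (Fin 4060)) b1

def cert : List Ins := [
  .and 5 2, .cnt 0 16, .and 6 0, .diff 0 9, .diff 0 6, .cnt 0 68, .and 0 3, .base 0 2, .and 3 11, .and 0 1, 
  .cnt 0 5, .and 6 0, .diff 0 11, .and 0 5, .diff 0 4, .cnt 0 0, .and 3 0, .diff 0 8, .row 0 1800, .and 17 8, 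
  .and 0 4, .and 0 24, .and 0 14, .and 0 4, .diff 0 21, .row 0 2998, .and 15 10, .and 0 8, .and 0 2, 
  .and 0 21, .and 0 29, .and 0 38, .diff 0 11, .diff 0 36, .row 0 858, .and 7 42, .diff 0 28, .diff 0 40, 
  .diff 0 9, .diff 0 44, .and 0 39, .row 0 696, .and 4 0, .diff 0 48, .row 0 1760, .and 34 0, .and 0 4, 
  .and 0 54, .and 0 51, .diff 0 14, .diff 0 42, .diff 0 32, .diff 0 26, .diff 0 33, .row 0 2510, .and 29 36, 
  .and 0 61, .and 0 49, .and 0 61, .diff 0 17, .diff 0 15, .diff 0 6, .diff 0 27, .diff 0 47, .row 0 2525, 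
  .diff 27 19, .diff 0 31, .diff 0 12, .row 0 2792, .and 23 4, .and 0 62, .diff 0 24, .and 0 79, .and 0 4, 
  .diff 0 39, .row 0 455, .and 74 79, .and 0 51, .and 0 33, .diff 0 44, .diff 0 23, .diff 0 12, .diff 0 36, 
  .diff 0 7, .diff 0 76, .row 0 2361, .and 0 44, .and 0 68, .and 0 80, .diff 0 34, .diff 0 45, .diff 0 26, 
  .and 0 91, .diff 0 37, .diff 0 59, .diff 0 98, .row 0 151, .and 93 81, .and 0 90, .diff 0 34, .and 0 58, 
  .row 0 2078, .and 26 105, .and 0 68, .diff 0 7, .and 0 112, .diff 0 87, .diff 0 21, .diff 0 39, .diff 0 54, 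
  .diff 0 33, .diff 0 66, .row 0 1472, .and 102 78, .and 0 106, .and 0 13, .diff 0 115, .and 0 52, 
  .diff 0 125, .diff 0 50, .row 0 313]

theorem ubok : ub 12 4060 row cert [Nat.sub (Nat.pow 2 4060) 1, Nat.pow 2 0, row 0, Nat.pow 2 1787, row 1787,
    mF, mA] = some 120 := by decide +kernel

theorem card_K1_le : Nat.card K1 ≤ 120 := by
  refine ub_sound (K := 12) (by norm_num) cert _ _ ubok K1 (inf_le_left.trans CZ_le) (fun σ hσ x hx => ?_)
  have f1 : σ b1 = b1 := hσ.2
  have f2 : σ pz = pz := by
    rw [← zp_b1, ← CZ_comm hσ.1, f1]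
  simp only [List.mem_cons, List.not_mem_nil, or_false] at hx
  rcases hx with rfl | rfl | rfl | rfl | rfl | rfl | rfl
  · exact inv_full σ
  · exact Inv.of_fix f1
  · exact Inv.row (CZ_le hσ.1) f1
  · exact Inv.of_fix f2
  · exact Inv.row (CZ_le hσ.1) f2
  · exact inv_mF hσ.1
  · exact inv_mA hσ.1

/-- **the order of the centraliser of `z`, upper bound** -/
theorem card_CZ_le : Nat.card CZ ≤ 245760 := by
  rw [card_eq_orbit_mul CZ b1]
  exact (Nat.mul_le_mul orbit_le card_K1_le).trans (by norm_num)

theorem card_CZ_eq : Nat.card CZ = 245760 := le_antisymm card_CZ_le card_CZ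

/-- **the order of the centraliser of `z`** -/
theorem card_cent_eq : Nat.card (Subgroup.centralizer {S * S} : Subgroup RuOrder.H) = 245760 := by
  rw [← card_CZ_eq]
  exact Nat.card_congr ((Subgroup.centralizer {S * S}).equivMapOfInjective RuOrder.H.subtype
      (Subgroup.subtype_injective _)).toEquiv

/-- the centraliser of `z` has odd index -/
theorem odd : ¬ 2 ∣ (Subgroup.centralizer {S * S} : Subgroup RuOrder.H).index := by
  have h := (Subgroup.centralizer {S * S} : Subgroup RuOrder.H).index_mul_card
  rw [card_cent_eq, card_H] at h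
  have : (Subgroup.centralizer {S * S} : Subgroup RuOrder.H).index = 593775 :=
    Nat.eq_of_mul_eq_mul_right (by norm_num : 0 < 245760) (h.trans (by norm_num))
  rw [this]
  norm_num

end Cfsg.Agent.OddHalf.D9.Ru.XFAU
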