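import Cfsg.Agent.OddHalf.D9.Ru.XDef
import Cfsg.Agent.OddHalf.D9.Ru.XFAU

/-!
# D9, row `2.Ru`: the centraliser of `z = s²` in `X = Ru`, first half

* `odd`: it has odd index;
* `P1_le`, `P1_perf`: `P1` is a perfect subgroup of it;
* `cover`: it is `P1 ∪ h P1`, with `h`, `h z` conjugate to `z` in `X`.
-/

set_option autoImplicit false
set_option maxRecDepth 100000
set_option exponentiation.threshold 5000
set_option Elab.async false

namespace Cfsg.Agent.OddHalf.D9.Ru.XFA

open Cfsg.Agent.Lib Cfsg.Agent.Lib.BitNet Cfsg.Agent.Lib.BitNetSimple Cfsg.Agent.SporadicB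
  Cfsg.Agent.SporadicB.RuData Cfsg.Agent.SporadicB.RuOrder
open Cfsg.Agent.RuD.Letters Cfsg.Agent.RuD.Model Cfsg.Agent.SporRec.TCUpperCert Cfsg.Agent.SporRec.R3.Kernel
open Cfsg.Agent.OddHalf.D9.Ru.XDef Cfsg.Agent.OddHalf.D9.Ru.XFAU

open scoped commutatorElement

/-! ### words -/

/-- the word of `h` -/
def hw : List ℕ := [8, 3, 5, 3, 1, 7, 0, 5, 4, 3, 4, 3, 1, 7]

/-- the macros `s₁, t, d, y, s₁⁻¹, d⁻¹, h` -/
def mac : List (List ℕ) := [[3, 1, 7], [0], [4], [5], [3, 6, 7], [8], hw]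

/-- expansion of a word in the macros -/
def ex : List ℕ → List ℕ
  | [] => []
  | k :: w => mac.getD k [] ++ ex w

/-- the value of a word -/
noncomputable abbrev v (w : List ℕ) : RuOrder.H := wprod ml w

/-- the value of a word in the macros -/
noncomputable abbrev m (w : List ℕ) : RuOrder.H := wprod ml (ex w)

theorem m_nil : m [] = 1 := rfl

theorem m_cons (k : ℕ) (w : List ℕ) : m (k :: w) = m [k] * m w := by
  change wprod ml (mac.getD k [] ++ ex w) = wprod ml (mac.getD k [] ++ []) * wprod ml (ex w)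
  rw [List.append_nil, wprod_append]

theorem m_mem {K : Subgroup RuOrder.H} {w : List ℕ} (h : ∀ k ∈ w, m [k] ∈ K) : m w ∈ K := by
  induction w with
  | nil => exact one_mem _
  | cons k w ih =>
    rw [m_cons]
    exact mul_mem (h k (by simp)) (ih (fun j hj => h j (by simp [hj])))

/-- kernel check of the equality of the values of two words -/
noncomputable def chkEq (p : List ℕ × List ℕ) : Bool :=
  allL (fun b => Nat.beq (evalK p.1 b) (evalK p.2 b)) [0, 29, 580, 577]

theorem eq_of_chk {l : List (List ℕ × List ℕ)} (h : allL chkEq l = true) : ∀ p ∈ l, v p.1 = v p.2 := by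
  intro p hp
  have h1 := (allL_iff _ _).1 ((allL_iff _ _).1 h p hp)
  apply eq_of_base
  intro b hb
  rw [evalK_eq, evalK_eq]
  simp only [List.mem_cons, List.not_mem_nil, or_false] at hb
  rcases hb with rfl | rfl | rfl | rfl
  · exact Nat.eq_of_beq_eq_true (h1 0 (by simp))
  · exact Nat.eq_of_beq_eq_true (h1 29 (by simp))
  · exact Nat.eq_of_beq_eq_true (h1 580 (by simp))
  · exact Nat.eq_of_beq_eq_true (h1 577 (by simp))

/-- conjugating words -/
def g1 : List ℕ := [8, 3, 5, 3, 1, 7, 0, 5, 4, 3, 4, 3, 1, 7, 7, 1, 2, 6, 7, 1, 1, 1, 6, 3, 1, 2, 6, 3, 8, 3, 5, 3,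
  1, 7, 0, 5, 4, 3, 4, 3, 1, 7, 7, 1, 2, 6, 7, 1, 1, 1, 6, 3, 1, 2, 6, 3, 7, 1, 2, 6, 7, 1]
def g2 : List ℕ := [8, 3, 5, 3, 1, 7, 0, 5, 4, 3, 4, 3, 1, 7, 1, 1, 7, 1, 0, 3, 6, 2, 1, 1, 2, 1, 7, 0, 6, 3, 8, 3,
  5, 3, 1, 7, 0, 5, 4, 3, 4, 3, 1, 7, 1, 1, 7, 1, 0, 3, 6, 2, 1, 1, 2, 1, 7, 0, 6, 3, 7, 1, 0, 3, 6, 2]

/-- the commutator of words, with given inverses -/
def cw (a b a' b' : List ℕ) : List ℕ := ex a ++ ex b ++ ex a' ++ ex b'

/-- the equations -/
def eqs : List (List ℕ × List ℕ) := [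
  -- 0: h² = 1
  (hw ++ hw, []),
  -- 1..4: h x h⁻¹
  (hw ++ [3, 1, 7] ++ hw, ex [1, 2, 4, 1, 3, 2, 0, 0, 3]),
  (hw ++ [0] ++ hw, ex [5, 1, 3, 2, 0, 2, 1, 3, 0, 2, 1, 3, 0]),
  (hw ++ [4] ++ hw, ex [4, 2, 1, 0, 2, 3, 4, 1, 3, 0]),
  (hw ++ [5] ++ hw, ex [3, 0, 2, 1, 3, 4, 3, 0, 2, 0, 0]),
  -- 5, 6: conjugation
  (g1 ++ [1, 1], hw ++ g1),
  (g2 ++ [1, 1], hw ++ [1, 1] ++ g2),
  -- 7..9: t, d, y are commutators
  ([0] ++ ex [5] ++ ex [5, 1], ex [5, 1] ++ ex [5]),
  ([4] ++ ex [2] ++ ex [3], ex [3] ++ ex [2]),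
  ([5] ++ ex [5, 1, 5] ++ ex [5, 1, 3, 2], ex [5, 1, 3, 2] ++ ex [5, 1, 5]),
  -- 10, 11: s₁ is a product of two commutators
  ([3, 1, 7] ++ ex [0, 3, 2] ++ ex [0, 3], ex [1, 4, 3, 1, 2, 3, 0, 1, 5, 1] ++ ex [0, 3] ++ ex [0, 3, 2]),
  (ex [1, 4, 3, 1, 2, 3, 0, 1, 5, 1] ++ ex [1, 2] ++ ex [1, 4, 3], ex [1, 4, 3] ++ ex [1, 2])]

theorem chk_eqs : allL chkEq eqs = true := by decide +kernel

theorem E (i : ℕ) (hi : i < 12) : v (eqs.getD i ([], [])).1 = v (eqs.getD i ([], [])).2 := by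
  have hl : i < eqs.length := hi
  rw [List.getD_eq_getElem _ _ hl]
  exact eq_of_chk chk_eqs _ (List.getElem_mem hl)

/-! ### the letters -/

theorem v1 (a : ℕ) : v [a] = lv ml a := by
  change wprod ml [a] = _
  rw [wprod_cons, wprod_nil, mul_one]

theorem v_app (a b : List ℕ) : v (a ++ b) = v a * v b := wprod_append ml a b

theorem vz : v [1, 1] = S * S := by
  change wprod ml [1, 1] = _
  rw [wprod_cons, wprod_cons, wprod_nil, mul_one]
  rfl

theorem m0 : m [0] = S1 := by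
  change wprod ml [3, 1, 7] = _
  rw [wprod_cons, wprod_cons, wprod_cons, wprod_nil, mul_one, ← mul_assoc]
  rfl

theorem m1 : m [1] = T := v1 0
theorem m2 : m [2] = D := v1 4
theorem m3 : m [3] = Y := v1 5
theorem m4 : m [4] = S1⁻¹ := by
  change wprod ml [3, 6, 7] = _
  rw [wprod_cons, wprod_cons, wprod_cons, wprod_nil, mul_one, ← mul_assoc]
  change F * S⁻¹ * F⁻¹ = (F * S * F⁻¹)⁻¹
  group
theorem m5 : m [5] = D⁻¹ := v1 8

/-- the element `h` -/
noncomputable def h : RuOrder.H := v hw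

theorem m6 : m [6] = h := rfl

theorem m_P1 {w : List ℕ} (hw : ∀ k ∈ w, k < 6) : m w ∈ P1 := by
  apply m_mem
  intro k hk
  have := hw k hk
  interval_cases k
  · rw [m0]; exact S1_mem
  · rw [m1]; exact T_mem
  · rw [m2]; exact D_mem
  · rw [m3]; exact Y_mem
  · rw [m4]; exact inv_mem S1_mem
  · rw [m5]; exact inv_mem D_mem

/-! ### `P1 ≤ C(z)` -/

theorem chkC_all : allL chkC [[3, 1, 7], [0], [4], [5], hw] = true := by decide +kernel

theorem cent_of_chkC {w : List ℕ} (h : chkC w = true) : v w ∈ (Subgroup.centralizer {S * S} : Subgroup RuOrder.H) := by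
  obtain ⟨o, g, hg, e⟩ := mem_of_chkC h
  have e2 : perm o = (wprod ml w : RuOrder.H) := perm_cat w
  rw [e2] at e
  have e3 : g = wprod ml w := Subtype.ext e
  rw [e3] at hg
  exact hg

theorem P1_le : P1 ≤ Subgroup.centralizer {S * S} := by
  have h := (allL_iff _ _).1 chkC_all
  rw [P1, Subgroup.closure_le]
  intro x hx
  simp only [Set.mem_insert_iff, Set.mem_singleton_iff] at hx
  rcases hx with rfl | rfl | rfl | rfl
  · rw [← m0]; exact cent_of_chkC (h [3, 1, 7] (by simp))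
  · rw [← m1]; exact cent_of_chkC (h [0] (by simp))
  · rw [← m2]; exact cent_of_chkC (h [4] (by simp))
  · rw [← m3]; exact cent_of_chkC (h [5] (by simp))

theorem h_cent : h ∈ (Subgroup.centralizer {S * S} : Subgroup RuOrder.H) :=
  cent_of_chkC ((allL_iff _ _).1 chkC_all hw (by simp))

/-! ### `P1` is perfect -/

theorem comm_of {G : Type*} [Group G] {x a b : G} (h : x * b * a = a * b) : x = ⁅a, b⁆ := by
  rw [commutatorElement_def, ← h]
  group

theorem P1_perf : ⁅P1, P1⁆ = P1 := by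
  apply le_antisymm
  · rw [Subgroup.commutator_le]
    intro a ha b hb
    exact mul_mem (mul_mem (mul_mem ha hb) (inv_mem ha)) (inv_mem hb)
  · have key : ∀ a b : List ℕ, (∀ k ∈ a, k < 6) → (∀ k ∈ b, k < 6) → ⁅m a, m b⁆ ∈ ⁅P1, P1⁆ :=
      fun a b ha hb => Subgroup.commutator_mem_commutator (m_P1 ha) (m_P1 hb)
    have hT : T = ⁅m [5, 1], m [5]⁆ := by
      have e := E 7 (by norm_num)
      change v ([0] ++ ex [5] ++ ex [5, 1]) = v (ex [5, 1] ++ ex [5]) at e
      rw [v_app, v_app, v_app] at e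
      exact (v1 0).symm.trans (comm_of e)
    have hD : D = ⁅m [3], m [2]⁆ := by
      have e := E 8 (by norm_num)
      change v ([4] ++ ex [2] ++ ex [3]) = v (ex [3] ++ ex [2]) at e
      rw [v_app, v_app, v_app] at e
      exact (v1 4).symm.trans (comm_of e)
    have hY : Y = ⁅m [5, 1, 3, 2], m [5, 1, 5]⁆ := by
      have e := E 9 (by norm_num)
      change v ([5] ++ ex [5, 1, 5] ++ ex [5, 1, 3, 2]) = v (ex [5, 1, 3, 2] ++ ex [5, 1, 5]) at e
      rw [v_app, v_app, v_app] at e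
      exact (v1 5).symm.trans (comm_of e)
    have hX : m [1, 4, 3, 1, 2, 3, 0, 1, 5, 1] = ⁅m [1, 4, 3], m [1, 2]⁆ := by
      have e := E 11 (by norm_num)
      change v (ex [1, 4, 3, 1, 2, 3, 0, 1, 5, 1] ++ ex [1, 2] ++ ex [1, 4, 3]) = v (ex [1, 4, 3] ++ ex [1, 2]) at e
      rw [v_app, v_app, v_app] at e
      exact comm_of e
    have hS : S1 = m [1, 4, 3, 1, 2, 3, 0, 1, 5, 1] * ⁅m [0, 3], m [0, 3, 2]⁆ := by
      have e := E 10 (by norm_num)
      change v ([3, 1, 7] ++ ex [0, 3, 2] ++ ex [0, 3]) =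
        v (ex [1, 4, 3, 1, 2, 3, 0, 1, 5, 1] ++ ex [0, 3] ++ ex [0, 3, 2]) at e
      rw [v_app, v_app, v_app, v_app] at e
      have e0 : v [3, 1, 7] = S1 := m0
      rw [e0] at e
      rw [commutatorElement_def]
      calc S1 = S1 * v (ex [0, 3, 2]) * v (ex [0, 3]) * (v (ex [0, 3]))⁻¹ * (v (ex [0, 3, 2]))⁻¹ := by group
        _ = _ := by rw [e]; group
    have mT : T ∈ ⁅P1, P1⁆ := by
      rw [hT]; exact key _ _ (by simp) (by simp)
    have mD : D ∈ ⁅P1, P1⁆ := by
      rw [hD]; exact key _ _ (by simp) (by simp)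
    have mY : Y ∈ ⁅P1, P1⁆ := by
      rw [hY]; exact key _ _ (by simp) (by simp)
    have mS : S1 ∈ ⁅P1, P1⁆ := by
      rw [hS, hX]
      exact mul_mem (key _ _ (by simp) (by simp)) (key _ _ (by simp) (by simp))
    have e : P1 = Subgroup.closure {S1, T, D, Y} := rfl
    conv_lhs => rw [e]
    rw [Subgroup.closure_le]
    intro x hx
    simp only [Set.mem_insert_iff, Set.mem_singleton_iff] at hx
    rcases hx with rfl | rfl | rfl | rfl
    exacts [mS, mT, mD, mY]

/-! ### `h` -/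

theorem hh : h * h = 1 := by
  have e := E 0 (by norm_num)
  change v (hw ++ hw) = v [] at e
  rw [v_app] at e
  exact e

theorem h_inv : h⁻¹ = h := inv_eq_of_mul_eq_one_left hh

theorem h_nor : ∀ p ∈ P1, h * p * h ∈ P1 := by
  have k1 : ∀ x : List ℕ, v (hw ++ x ++ hw) = h * v x * h := by
    intro x
    rw [v_app, v_app]
    rfl
  intro p hp
  have e : P1 = Subgroup.closure {S1, T, D, Y} := rfl
  rw [e] at hp
  induction hp using Subgroup.closure_induction with
  | mem x hx =>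
    simp only [Set.mem_insert_iff, Set.mem_singleton_iff] at hx
    rcases hx with rfl | rfl | rfl | rfl
    · have e := E 1 (by norm_num)
      change v (hw ++ [3, 1, 7] ++ hw) = m [1, 2, 4, 1, 3, 2, 0, 0, 3] at e
      rw [k1] at e
      rw [← m0]
      change h * v [3, 1, 7] * h ∈ P1
      rw [e]
      exact m_P1 (by simp)
    · have e := E 2 (by norm_num)
      change v (hw ++ [0] ++ hw) = m [5, 1, 3, 2, 0, 2, 1, 3, 0, 2, 1, 3, 0] at e
      rw [k1] at e
      rw [← m1]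
      change h * v [0] * h ∈ P1
      rw [e]
      exact m_P1 (by simp)
    · have e := E 3 (by norm_num)
      change v (hw ++ [4] ++ hw) = m [4, 2, 1, 0, 2, 3, 4, 1, 3, 0] at e
      rw [k1] at e
      rw [← m2]
      change h * v [4] * h ∈ P1
      rw [e]
      exact m_P1 (by simp)
    · have e := E 4 (by norm_num)
      change v (hw ++ [5] ++ hw) = m [3, 0, 2, 1, 3, 4, 3, 0, 2, 0, 0] at e
      rw [k1] at e
      rw [← m3]
      change h * v [5] * h ∈ P1
      rw [e]
      exact m_P1 (by simp)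
  | one =>
    rw [mul_one, hh]
    exact one_mem _
  | mul x y _ _ hx hy =>
    have e : h * (x * y) * h = (h * x * h) * (h * y * h) := by
      calc h * (x * y) * h = h * x * (1 * y * h) := by group
        _ = h * x * (h * h * y * h) := by rw [hh]
        _ = _ := by group
    rw [e]
    exact mul_mem hx hy
  | inv x _ hx =>
    have e : h * x⁻¹ * h = (h * x * h)⁻¹ := by
      rw [mul_inv_rev, mul_inv_rev, h_inv, ← mul_assoc]
    rw [e]
    exact inv_mem hx

theorem conj_h : IsConj (S * S) h := by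
  have e := E 5 (by norm_num)
  change v (g1 ++ [1, 1]) = v (hw ++ g1) at e
  rw [v_app, v_app, vz] at e
  rw [isConj_iff]
  refine ⟨v g1, ?_⟩
  rw [e]
  change h * v g1 * (v g1)⁻¹ = h
  group

theorem conj_hz : IsConj (S * S) (h * (S * S)) := by
  have e := E 6 (by norm_num)
  change v (g2 ++ [1, 1]) = v (hw ++ [1, 1] ++ g2) at e
  rw [v_app, v_app, v_app, vz] at e
  rw [isConj_iff]
  refine ⟨v g2, ?_⟩
  rw [e]
  change h * (S * S) * v g2 * (v g2)⁻¹ = h * (S * S)
  group

/-! ### `P1 ∪ h P1` is the centraliser -/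

/-- the subgroup `P1 ∪ h P1` -/
noncomputable def Q : Subgroup RuOrder.H where
  carrier := {x | x ∈ P1 ∨ h * x ∈ P1}
  one_mem' := Or.inl (one_mem _)
  mul_mem' := by
    rintro a b (ha | ha) (hb | hb)
    · exact Or.inl (mul_mem ha hb)
    · right
      have e : h * (a * b) = (h * a * h) * (h * b) := by
        calc h * (a * b) = h * a * (1 * b) := by group
          _ = h * a * (h * h * b) := by rw [hh]
          _ = _ := by group
      rw [e]
      exact mul_mem (h_nor _ ha) hb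
    · right
      rw [← mul_assoc]
      exact mul_mem ha hb
    · left
      have h1 := h_nor _ ha
      have e : a * b = (h * (h * a) * h) * (h * b) := by
        calc a * b = 1 * a * (1 * b) := by group
          _ = (h * h) * a * (h * h * b) := by rw [hh]
          _ = _ := by group
      rw [e]
      exact mul_mem h1 hb
  inv_mem' := by
    rintro a (ha | ha)
    · exact Or.inl (inv_mem ha)
    · right
      have h1 := inv_mem (h_nor _ ha)
      have e : (h * (h * a) * h)⁻¹ = h * a⁻¹ := by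
        rw [← mul_assoc, hh, one_mul, mul_inv_rev, h_inv]
      rwa [e] at h1

theorem mem_Q {x : RuOrder.H} : x ∈ Q ↔ x ∈ P1 ∨ h * x ∈ P1 := Iff.rfl

theorem P1_le_Q : P1 ≤ Q := fun _ hx => Or.inl hx

theorem h_Q : h ∈ Q := by
  rw [mem_Q]
  right
  rw [hh]
  exact one_mem _

theorem Q_le : Q ≤ Subgroup.centralizer {S * S} := by
  rintro x (hx | hx)
  · exact P1_le hx
  · have h1 := mul_mem h_cent (P1_le hx)
    rwa [← mul_assoc, hh, one_mul] at h1

/-- `Q` as a permutation group -/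
noncomputable def QP : Subgroup (Equiv.Perm (Fin 4060)) := Q.map RuOrder.H.subtype

theorem mem_QP {w : List ℕ} (h : v w ∈ Q) : Mem QP (catNet w) := by
  refine ⟨okNet_cat w, ?_⟩
  rw [perm_cat]
  exact ⟨wprod ml w, h, rfl⟩

theorem m_Q {w : List ℕ} (hw : ∀ k ∈ w, k < 7) : m w ∈ Q := by
  apply m_mem
  intro k hk
  rcases Nat.lt_or_ge k 6 with h1 | h1
  · exact P1_le_Q (m_P1 (by simpa using h1))
  · have : k = 6 := by have := hw k hk; omega
    rw [this, m6]
    exact h_Q

/-- generators -/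
def ge0 : List (List ℕ) := [[3, 1, 7], [0], [4], [5]]
def ge1 : List (List ℕ) := [ex [0, 0, 5, 0, 3], ex [4, 6, 0]]

theorem chk1 : allL (fun w => Nat.beq (evalK w 0) 0) ge1 = true := by decide +kernel
theorem orb0 : Nat.ble 2048 (popc 12 (iterF (ge0.map catNet) 5 (Nat.pow 2 0))) = true := by decide +kernel
theorem orb1 : Nat.ble 120 (popc 12 (iterF (ge1.map catNet) 7 (Nat.pow 2 2))) = true := by decide +kernel

theorem card_QP : 245760 ≤ Nat.card QP := by
  have n0 : ∀ g ∈ ge0.map catNet, Mem QP g := by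
    intro g hg
    obtain ⟨w, hw, rfl⟩ := List.mem_map.1 hg
    apply mem_QP
    simp only [ge0, List.mem_cons, List.not_mem_nil, or_false] at hw
    rcases hw with rfl | rfl | rfl | rfl
    · exact P1_le_Q (m_P1 (w := [0]) (by simp))
    · exact P1_le_Q (m_P1 (w := [1]) (by simp))
    · exact P1_le_Q (m_P1 (w := [2]) (by simp))
    · exact P1_le_Q (m_P1 (w := [3]) (by simp))
  have n1 : ∀ g ∈ ge1.map catNet, Mem (QP ⊓ MulAction.stabilizer (Equiv.Perm (Fin 4060)) b1) g := by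
    intro g hg
    obtain ⟨w, hw, rfl⟩ := List.mem_map.1 hg
    have h := (allL_iff _ _).1 chk1 w hw
    refine mem_inf_stabilizer ?_ ?_
    · apply mem_QP
      simp only [ge1, List.mem_cons, List.not_mem_nil, or_false] at hw
      rcases hw with rfl | rfl
      · exact m_Q (by simp)
      · exact m_Q (by simp)
    · have e := evalK_eq w b1
      rw [← perm_cat, perm_apply] at e
      rw [e]
      exact Nat.eq_of_beq_eq_true h
  have l0 := lower_step' (L := 12) (k := 5) (K := QP) (b := b1) n0 orb0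
  have l1 := lower_step' (L := 12) (k := 7) (b := (⟨2, by norm_num⟩ : Fin 4060)) n1 orb1
  have l2 : 1 ≤ Nat.card ↥(QP ⊓ MulAction.stabilizer (Equiv.Perm (Fin 4060)) b1 ⊓
    MulAction.stabilizer (Equiv.Perm (Fin 4060)) (⟨2, by norm_num⟩ : Fin 4060)) := Nat.card_pos
  have l3 : 120 * 1 ≤ Nat.card ↥(QP ⊓ MulAction.stabilizer (Equiv.Perm (Fin 4060)) b1) :=
    le_trans (Nat.mul_le_mul_left _ l2) l1
  calc 245760 = 2048 * (120 * 1) := by norm_num
    _ ≤ _ := Nat.mul_le_mul_left _ l3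
    _ ≤ _ := l0

theorem finH : Finite RuOrder.H := Nat.finite_of_card_ne_zero (by rw [card_H]; norm_num)

theorem Q_eq : Q = Subgroup.centralizer {S * S} := by
  have := finH
  have e : Nat.card QP = Nat.card Q :=
    Nat.card_congr (Q.equivMapOfInjective RuOrder.H.subtype (Subgroup.subtype_injective _)).toEquiv.symm
  have h1 := card_QP
  rw [e] at h1
  exact Subgroup.eq_of_le_of_card_ge Q_le (by rw [card_cent_eq]; exact h1)

theorem cover : ∃ h ∈ (Subgroup.centralizer {S * S} : Subgroup RuOrder.H), IsConj (S * S) h ∧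
    IsConj (S * S) (h * (S * S)) ∧
    ∀ x ∈ (Subgroup.centralizer {S * S} : Subgroup RuOrder.H), x ∈ P1 ∨ h⁻¹ * x ∈ P1 := by
  refine ⟨h, h_cent, conj_h, conj_hz, ?_⟩
  intro x hx
  rw [← Q_eq, mem_Q] at hx
  rwa [h_inv]

/-- the centraliser of `z` has odd index -/
theorem odd : ¬ 2 ∣ (Subgroup.centralizer {S * S} : Subgroup RuOrder.H).index := XFAU.odd

end Cfsg.Agent.OddHalf.D9.Ru.XFA
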