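import Mathlib

/-!
# D9: the perfect core and labels

`PC H`: the largest perfect subgroup of `H`. A *label* is a property `ℓ` of elements of groups invariant under
isomorphisms; `Lab ℓ P x`: the element `x ∈ P` has the property in the group `P`.
-/

set_option autoImplicit false

namespace Cfsg.Agent.OddHalf.D9.Ru.Label

open Subgroup

universe u

variable {G : Type u} [Group G]

/-- the largest perfect subgroup of `H` -/
def PC (H : Subgroup G) : Subgroup G := sSup {Y : Subgroup G | Y ≤ H ∧ ⁅Y, Y⁆ = Y}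

theorem PC_le (H : Subgroup G) : PC H ≤ H := sSup_le fun _ h => h.1

theorem le_PC {H Y : Subgroup G} (h : Y ≤ H) (hY : ⁅Y, Y⁆ = Y) : Y ≤ PC H := le_sSup ⟨h, hY⟩

theorem PC_perf (H : Subgroup G) : ⁅PC H, PC H⁆ = PC H := by
  apply le_antisymm
  · rw [commutator_le]
    intro a ha b hb
    rw [commutatorElement_def]
    exact (PC H).mul_mem ((PC H).mul_mem ((PC H).mul_mem ha hb) ((PC H).inv_mem ha)) ((PC H).inv_mem hb)
  · apply sSup_le
    rintro Y ⟨hY, hp⟩
    have := le_PC hY hp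
    calc Y = ⁅Y, Y⁆ := hp.symm
      _ ≤ ⁅PC H, PC H⁆ := commutator_mono this this

theorem PC_mono {H J : Subgroup G} (h : H ≤ J) : PC H ≤ PC J :=
  le_PC ((PC_le H).trans h) (PC_perf H)

theorem perf_map' {X Y : Type u} [Group X] [Group Y] {A : Subgroup X} (h : ⁅A, A⁆ = A) (f : X →* Y) :
    ⁅A.map f, A.map f⁆ = A.map f := by
  rw [← Subgroup.map_commutator, h]

/-- the core of a subgroup of `K`, seen in `G` -/
theorem PC_map_subtype {K : Subgroup G} (H : Subgroup K) : (PC H).map K.subtype = PC (H.map K.subtype) := by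
  apply le_antisymm
  · exact le_PC (map_mono (PC_le H)) (perf_map' (PC_perf H) _)
  · have h1 : PC (H.map K.subtype) ≤ K := (PC_le _).trans (map_subtype_le H)
    have h2 : ((PC (H.map K.subtype)).subgroupOf K).map K.subtype = PC (H.map K.subtype) := by
      rw [subgroupOf_map_subtype, inf_eq_left.mpr h1]
    rw [← h2]
    apply map_mono
    apply le_PC
    · intro x hx
      obtain ⟨y, hy, hyx⟩ := PC_le _ hx
      have : y = x := Subtype.ext hyx
      rwa [← this]
    · apply map_injective K.subtype_injective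
      rw [Subgroup.map_commutator, h2, PC_perf]

theorem PC_map_conj (H : Subgroup G) (g : G) :
    (PC H).map (MulAut.conj g).toMonoidHom = PC (H.map (MulAut.conj g).toMonoidHom) := by
  apply le_antisymm
  · exact le_PC (map_mono (PC_le H)) (perf_map' (PC_perf H) _)
  · have h1 : ∀ (A : Subgroup G) (a : G), (A.map (MulAut.conj a).toMonoidHom).map (MulAut.conj a⁻¹).toMonoidHom = A := by
      intro A a
      rw [Subgroup.map_map]
      have : (MulAut.conj a⁻¹).toMonoidHom.comp (MulAut.conj a).toMonoidHom = MonoidHom.id G := by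
        ext x
        show a⁻¹ * (a * x * a⁻¹) * a⁻¹⁻¹ = x
        group
      rw [this, Subgroup.map_id]
    have h2 : (PC (H.map (MulAut.conj g).toMonoidHom)).map (MulAut.conj g⁻¹).toMonoidHom ≤ PC H := by
      have h3 : (PC (H.map (MulAut.conj g).toMonoidHom)).map (MulAut.conj g⁻¹).toMonoidHom ≤
          PC ((H.map (MulAut.conj g).toMonoidHom).map (MulAut.conj g⁻¹).toMonoidHom) :=
        le_PC (map_mono (PC_le _)) (perf_map' (PC_perf _) _)
      rwa [h1] at h3
    have h4 := map_mono (f := (MulAut.conj g).toMonoidHom) h2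
    have h5 := h1 (PC (H.map (MulAut.conj g).toMonoidHom)) g⁻¹
    rw [inv_inv] at h5
    rwa [h5] at h4

/-- a property of elements of groups -/
abbrev Lbl : Type (u + 1) := ∀ (P : Type u) [Group P], P → Prop

/-- invariant under isomorphisms -/
def IsoInv (ℓ : Lbl.{u}) : Prop :=
  ∀ (P Q : Type u) [Group P] [Group Q] (e : P ≃* Q) (x : P), ℓ P x → ℓ Q (e x)

/-- `x` has the label in the group `P` -/
def Lab (ℓ : Lbl.{u}) (P : Subgroup G) (x : G) : Prop := ∃ h : x ∈ P, ℓ ↥P ⟨x, h⟩

variable {ℓ : Lbl.{u}}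

theorem Lab.map (hℓ : IsoInv ℓ) {X : Type u} [Group X] {P : Subgroup G} {x : G} (h : Lab ℓ P x) (f : G →* X)
    (hf : Function.Injective f) : Lab ℓ (P.map f) (f x) := by
  obtain ⟨hx, h⟩ := h
  refine ⟨mem_map_of_mem f hx, ?_⟩
  have := hℓ _ _ (P.equivMapOfInjective f hf) ⟨x, hx⟩ h
  have e : (P.equivMapOfInjective f hf) ⟨x, hx⟩ = ⟨f x, mem_map_of_mem f hx⟩ :=
    Subtype.ext (coe_equivMapOfInjective_apply P f hf ⟨x, hx⟩)
  rwa [e] at this

theorem Lab.of_map (hℓ : IsoInv ℓ) {X : Type u} [Group X] {P : Subgroup G} {x : G} (f : G →* X)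
    (hf : Function.Injective f) (h : Lab ℓ (P.map f) (f x)) : Lab ℓ P x := by
  obtain ⟨hx, h⟩ := h
  have hx' : x ∈ P := by
    obtain ⟨y, hy, hyx⟩ := hx
    rwa [← hf hyx]
  refine ⟨hx', ?_⟩
  have := hℓ _ _ (P.equivMapOfInjective f hf).symm ⟨f x, hx⟩ h
  have e : (P.equivMapOfInjective f hf).symm ⟨f x, hx⟩ = ⟨x, hx'⟩ := by
    rw [MulEquiv.symm_apply_eq]
    exact Subtype.ext (coe_equivMapOfInjective_apply P f hf ⟨x, hx'⟩).symm
  rwa [e] at this

theorem lab_map_iff (hℓ : IsoInv ℓ) {X : Type u} [Group X] {P : Subgroup G} {x : G} (f : G →* X)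
    (hf : Function.Injective f) : Lab ℓ (P.map f) (f x) ↔ Lab ℓ P x :=
  ⟨Lab.of_map hℓ f hf, fun h => h.map hℓ f hf⟩

end Cfsg.Agent.OddHalf.D9.Ru.Label
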