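import Cfsg.Agent.OddHalf.D9.Amb
import Cfsg.Agent.OddHalf.D9.Ru.Kill

/-!
# D9, row `2.Ru`, from the facts on the group `2.Ru`
-/

set_option autoImplicit false

namespace Cfsg.Agent.OddHalf.D9.Ru.Row

open Subgroup Cfsg Cfsg.Agent.OddHalf.Iface Cfsg.Agent.OddHalf.D9.Ru.Label

universe u

/-- the facts on `2.X` needed for the row -/
def Facts (P : (X : Type u) → [Group X] → Prop) : Prop :=
  ∀ (L : Type u) [Group L], Finite L → commutator L = ⊤ → Nat.card ↥(center L) = 2 →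
    P (L ⧸ center L) → ∀ c ∈ center L, c ≠ 1 → ∃ ℓ : Lbl.{u}, IsoInv ℓ ∧ Kill.KFacts ℓ L c

/-- the row of `2.X` from the facts on `2.X` -/
theorem row_of {P : (X : Type u) → [Group X] → Prop} (F : Facts P) : Cut.Row.{u} (fun K _ => Cut.Two P K) := by
  intro G _ C K S hc h
  haveI := C.fin
  haveI := C.simple
  obtain ⟨z, hz, hz1, A⟩ := Amb.exists_amb C S hc h.1
  obtain ⟨ℓ, hℓ, hF⟩ := F ↥K inferInstance (Amb.commutator_eq_top S) h.1 h.2 _ hz hz1
  exact Kill.kill C.na hℓ A hF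

/-- **D9, row `2.Ru`**, from the facts on the group `2.Ru`. -/
theorem row (F : Facts.{u} (fun X _ => Spor.IsoRu X)) : Cut.Row.{u} (fun K _ => Cut.Two (fun X _ => Spor.IsoRu X) K) :=
  row_of F

end Cfsg.Agent.OddHalf.D9.Ru.Row
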