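import Cfsg.Agent.OddHalf.D9.Ru.Base
import Cfsg.Agent.OddHalf.D9.Ru.Row

/-!
# D9, row `2.Ru`: the facts from one lift of an involution

`KS ℓ π c e`: facts on a lift `e` of `S²` (label, core), on the lifts of `T`, and a triple of conjugates of `e` with
product `c`. `KS.kfacts`: these give `Kill.KFacts`; `row_of_ks` the row.
-/

set_option autoImplicit false

namespace Cfsg.Agent.OddHalf.D9.Ru.Asm

open Subgroup Cfsg.Agent.KFacts.MulTwo Cfsg.Agent.KFacts.MulDef Cfsg.Agent.OddHalf.D9.Ru.XLevel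
open Cfsg.Agent.OddHalf.D9.Ru.Label Cfsg.Agent.OddHalf.D9.Ru.Base Cfsg.Agent.SporadicB Cfsg.Agent.RuD.Letters
open Cfsg.Agent.OddHalf.D9.Ru.Kill Cfsg.Agent.OddHalf.D9.M12Glue

universe u

variable {L : Type u} [Group L] {π : L →* RuOrder.H} {c : L}

/-- The facts on a lift `e` of `S²`. -/
structure KS (ℓ : Lbl.{u}) (π : L →* RuOrder.H) (c e : L) : Prop where
  pe : π e = S * S
  mem : c ∈ PCen e
  lab : Lab ℓ (PCen e) e
  labn : ¬ Lab ℓ (PCen e) (e * c)
  labc : ¬ Lab ℓ (PCen e) c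
  tau : ∀ t : L, π t = T → t * t ≠ 1
  tri : ∃ g0 g1 g2 : L, IsConj e g0 ∧ IsConj e g1 ∧ IsConj e g2 ∧ g0 * g1 = g1 * g0 ∧ g0 * g1 * g2 = c

theorem centralizer_conj (g f : L) :
    (centralizer {f}).map (MulAut.conj g).toMonoidHom = centralizer {g * f * g⁻¹} := by
  ext x
  rw [mem_map_equiv, mem_centralizer_singleton_iff, mem_centralizer_singleton_iff]
  have e1 : (MulAut.conj g).symm x = g⁻¹ * x * g := rfl
  rw [e1]
  constructor
  · intro h
    calc x * (g * f * g⁻¹) = g * (g⁻¹ * x * g * f) * g⁻¹ := by group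
      _ = g * (f * (g⁻¹ * x * g)) * g⁻¹ := by rw [h]
      _ = g * f * g⁻¹ * x := by group
  · intro h
    calc g⁻¹ * x * g * f = g⁻¹ * (x * (g * f * g⁻¹)) * g := by group
      _ = g⁻¹ * (g * f * g⁻¹ * x) * g := by rw [h]
      _ = f * (g⁻¹ * x * g) := by group

theorem PCen_conj (g f : L) : (PCen f).map (MulAut.conj g).toMonoidHom = PCen (g * f * g⁻¹) := by
  rw [PCen, PC_map_conj, centralizer_conj]

theorem PCen_mul_c (hd : Dbl π c) (f : L) : PCen (f * c) = PCen f := by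
  have : (centralizer {f * c} : Subgroup L) = centralizer {f} := by
    ext x
    rw [mem_centralizer_singleton_iff, mem_centralizer_singleton_iff]
    constructor
    · intro h
      have h1 : x * f * c = f * x * c := by
        calc x * f * c = x * (f * c) := by group
          _ = f * (c * x) := by rw [h]; group
          _ = f * x * c := by rw [hd.cen x]; group
      exact mul_right_cancel h1
    · intro h
      calc x * (f * c) = x * f * c := by group
        _ = f * (x * c) := by rw [h]; group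
        _ = f * c * x := by rw [← hd.cen x]; group
  rw [PCen, this]

variable {ℓ : Lbl.{u}}

theorem lab_conj (hℓ : IsoInv ℓ) (g f x : L) : Lab ℓ (PCen (g * f * g⁻¹)) (g * x * g⁻¹) ↔ Lab ℓ (PCen f) x := by
  rw [← PCen_conj]
  exact lab_map_iff hℓ (MulAut.conj g).toMonoidHom (MulAut.conj g).injective

namespace KS

variable {e : L} (H : KS ℓ π c e)
include H

/-- an involution of `L` is a conjugate of `e` or of `ec` -/
theorem cases (hd : Dbl π c) {f : L} (hf : InvL c f) : ∃ g, f = g * e * g⁻¹ ∨ f = g * e * g⁻¹ * c := by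
  have h1 : π f * π f = 1 := by rw [← map_mul, hf.1, map_one]
  have h2 : π f ≠ 1 := by
    intro h
    rcases mem_or hd h with h | h
    · exact hf.ne h
    · exact hf.nec h
  rcases isConj_or h1 h2 with h3 | h3
  · obtain ⟨g, hg⟩ := isConj_iff.1 h3
    obtain ⟨g, rfl⟩ := hd.surj g
    refine ⟨g, Cfsg.Agent.KFacts.MulLift.eq_or hd ?_⟩
    rw [map_mul, map_mul, map_inv, H.pe, hg]
  · exfalso
    obtain ⟨g, hg⟩ := isConj_iff.1 h3.symm
    obtain ⟨g, rfl⟩ := hd.surj g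
    apply H.tau (g * f * g⁻¹)
    · rw [map_mul, map_mul, map_inv, hg]
    · calc g * f * g⁻¹ * (g * f * g⁻¹) = g * (f * f) * g⁻¹ := by group
        _ = 1 := by rw [hf.sq]; group

/-- the labels of the conjugates of `e` -/
theorem lab1 (hℓ : IsoInv ℓ) (hd : Dbl π c) (g : L) :
    c ∈ PCen (g * e * g⁻¹) ∧ Lab ℓ (PCen (g * e * g⁻¹)) (g * e * g⁻¹) ∧
      ¬ Lab ℓ (PCen (g * e * g⁻¹)) (g * e * g⁻¹ * c) ∧ ¬ Lab ℓ (PCen (g * e * g⁻¹)) c := by
  have e1 : g * c * g⁻¹ = c := by rw [← hd.cen g, mul_inv_cancel_right]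
  have e2 : g * e * g⁻¹ * c = g * (e * c) * g⁻¹ := by
    calc g * e * g⁻¹ * c = g * e * (g⁻¹ * c) := by group
      _ = g * e * (c * g⁻¹) := by rw [hd.cen]
      _ = g * (e * c) * g⁻¹ := by group
  refine ⟨?_, ?_, ?_, ?_⟩
  · rw [← PCen_conj]
    exact ⟨c, H.mem, e1⟩
  · rw [lab_conj hℓ]
    exact H.lab
  · rw [e2, lab_conj hℓ]
    exact H.labn
  · have := lab_conj hℓ g e c
    rw [e1] at this
    rw [this]
    exact H.labc

theorem lab2 (hℓ : IsoInv ℓ) (hd : Dbl π c) (g : L) :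
    c ∈ PCen (g * e * g⁻¹ * c) ∧ Lab ℓ (PCen (g * e * g⁻¹ * c)) (g * e * g⁻¹ * c * c) ∧
      ¬ Lab ℓ (PCen (g * e * g⁻¹ * c)) (g * e * g⁻¹ * c) ∧ ¬ Lab ℓ (PCen (g * e * g⁻¹ * c)) c := by
  obtain ⟨h1, h2, h3, h4⟩ := H.lab1 hℓ hd g
  rw [PCen_mul_c hd]
  refine ⟨h1, ?_, h3, h4⟩
  rw [mul_assoc _ c c, hd.sq, mul_one]
  exact h2

theorem invL_conj (hd : Dbl π c) {g0 : L} (h0 : IsConj e g0) : InvL c (g0 * c) ∧ Lab ℓ (PCen e) e := by
  obtain ⟨g, rfl⟩ := isConj_iff.1 h0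
  have hee : e * e = 1 := sq_A hd (by rw [H.pe])
  refine ⟨⟨?_, ?_, ?_⟩, H.lab⟩
  · have e1 : g * e * g⁻¹ * c * (g * e * g⁻¹ * c) = g * (e * e) * g⁻¹ * (c * c) := by
      calc g * e * g⁻¹ * c * (g * e * g⁻¹ * c) = g * e * g⁻¹ * (c * (g * e * g⁻¹)) * c := by group
        _ = g * e * g⁻¹ * ((g * e * g⁻¹) * c) * c := by rw [hd.cen (g * e * g⁻¹)]
        _ = g * (e * e) * g⁻¹ * (c * c) := by group
    rw [e1, hee, hd.sq]; group
  · intro h
    have h1 := congrArg π h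
    rw [map_mul, map_mul, map_mul, map_inv, H.pe, Inn.pc hd, map_one, mul_one] at h1
    apply SS_ne
    calc S * S = (π g)⁻¹ * (π g * (S * S) * (π g)⁻¹) * π g := by group
      _ = 1 := by rw [h1]; group
  · intro h
    have h1 := congrArg π h
    rw [map_mul, map_mul, map_mul, map_inv, H.pe, Inn.pc hd, mul_one] at h1
    apply SS_ne
    calc S * S = (π g)⁻¹ * (π g * (S * S) * (π g)⁻¹) * π g := by group
      _ = 1 := by rw [h1]; group

/-- **The facts on `2.Ru`.** -/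
theorem kfacts (hℓ : IsoInv ℓ) (hd : Dbl π c) : KFacts ℓ L c where
  cc := hd.sq
  c1 := hd.ne
  cen := Inn.cenRu hd
  inn := Inn.innRu hd
  mem f hf := by
    obtain ⟨g, rfl | rfl⟩ := H.cases hd hf
    · exact (H.lab1 hℓ hd g).1
    · exact (H.lab2 hℓ hd g).1
  lab_or f hf := by
    obtain ⟨g, rfl | rfl⟩ := H.cases hd hf
    · exact Or.inl (H.lab1 hℓ hd g).2.1
    · exact Or.inr (H.lab2 hℓ hd g).2.1
  lab_not f hf h := by
    obtain ⟨g, rfl | rfl⟩ := H.cases hd hf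
    · exact (H.lab1 hℓ hd g).2.2.1
    · exact absurd h (H.lab2 hℓ hd g).2.2.1
  lab_c f hf := by
    obtain ⟨g, rfl | rfl⟩ := H.cases hd hf
    · exact (H.lab1 hℓ hd g).2.2.2
    · exact (H.lab2 hℓ hd g).2.2.2
  conj f w hf hw h1 h2 := by
    obtain ⟨g, rfl | rfl⟩ := H.cases hd hf
    · exact absurd h1 (H.lab1 hℓ hd g).2.2.1
    · obtain ⟨h, rfl | rfl⟩ := H.cases hd hw
      · exact absurd h2 (H.lab1 hℓ hd h).2.2.1
      · refine ⟨h * g⁻¹, ?_⟩
        calc h * g⁻¹ * (g * e * g⁻¹ * c) * (h * g⁻¹)⁻¹ = h * e * (g⁻¹ * c * g) * h⁻¹ := by group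
          _ = h * e * c * h⁻¹ := by rw [← hd.cen g⁻¹]; group
          _ = h * e * (c * h⁻¹) := by group
          _ = h * e * (h⁻¹ * c) := by rw [hd.cen h⁻¹]
          _ = h * e * h⁻¹ * c := by group
  pf := by
    obtain ⟨g0, g1, g2, h0, h1, h2, hc, h3⟩ := H.tri
    have hinv : ∀ g : L, IsConj e g → g * g = 1 := by
      intro g hg
      apply sq_A hd
      rw [← H.pe]
      exact π.map_isConj hg
    have hlab : ∀ g : L, IsConj e g → Lab ℓ (PCen (g * c)) (g * c * c) := by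
      intro g hg
      obtain ⟨k, rfl⟩ := isConj_iff.1 hg
      exact (H.lab2 hℓ hd k).2.1
    have e2 : g0 * c * (g1 * c) = g2 * c := by
      have h4 : g0 * g1 = c * g2 := by
        have := eq_mul_inv_of_mul_eq h3
        rw [this, inv_eq_of_mul_eq_one_left (hinv g2 h2)]
      calc g0 * c * (g1 * c) = g0 * (c * g1) * c := by group
        _ = g0 * (g1 * c) * c := by rw [hd.cen]
        _ = g0 * g1 * (c * c) := by group
        _ = c * g2 := by rw [hd.sq, mul_one, h4]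
        _ = g2 * c := hd.cen g2
    refine ⟨g0 * c, g1 * c, (H.invL_conj hd h0).1, (H.invL_conj hd h1).1, ?_, ?_, ?_, hlab g0 h0, hlab g1 h1, ?_⟩
    · rw [e2]; exact (H.invL_conj hd h2).1
    · calc g0 * c * (g1 * c) = g0 * (c * g1) * c := by group
        _ = g0 * (g1 * c) * c := by rw [hd.cen]
        _ = g0 * g1 * (c * c) := by group
        _ = g1 * g0 * (c * c) := by rw [hc]
        _ = g1 * (g0 * c) * c := by group
        _ = g1 * (c * g0) * c := by rw [hd.cen]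
        _ = g1 * c * (g0 * c) := by group
    · intro h
      have h4 : g0 = g1 := mul_right_cancel h
      have h5 : g0 * g1 = 1 := by rw [← h4]; exact hinv g0 h0
      rw [h5, one_mul] at h3
      have h6 := (H.invL_conj hd h2).1.ne
      apply h6
      rw [h3, hd.sq]
    · rw [e2]
      exact hlab g2 h2
  sq := sqRu hd

end KS

/-- the row from the facts on the double covers of `RuOrder.H` -/
theorem facts_of_ks (F : ∀ (L : Type u) [Group L] [Finite L] (π : L →* RuOrder.H) (c : L), Dbl π c →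
    ∃ (ℓ : Lbl.{u}) (e : L), IsoInv ℓ ∧ KS ℓ π c e) : Row.Facts.{u} (fun X _ => Spor.IsoRu X) := by
  intro L _ hL hp h2 hR c hc hc1
  obtain ⟨π, hd⟩ := Inn.exists_dbl hp h2 hR hc hc1
  have := hL
  obtain ⟨ℓ, e, hℓ, hK⟩ := F L π c hd
  exact ⟨ℓ, hℓ, hK.kfacts hℓ hd⟩

end Cfsg.Agent.OddHalf.D9.Ru.Asm
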