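import Cfsg.Agent.OddHalf.D9.Ru.XLevel
import Cfsg.Agent.OddHalf.D9.Ru.Inn
import Cfsg.Agent.OddHalf.D9.Ru.Kill
import Cfsg.Agent.OddHalf.D9.KillAny
import Cfsg.Agent.KFacts.MulLift

/-!
# Perfect double covers of the Rudvalis group: squares

For `π : L → RuOrder.H` a perfect double cover with kernel `{1, c}`:

* `sq_A`: the involutions of the class of `S²` lift to involutions;
* `sqRu`: the field `sq` of `Kill.KFacts`: if `v² = c` and `k` centralises the perfect core of the centraliser of `v`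
  then `k² = 1` or `k² = c`.
-/

set_option autoImplicit false
set_option maxRecDepth 100000
set_option exponentiation.threshold 5000

namespace Cfsg.Agent.OddHalf.D9.Ru.Base

open Subgroup Cfsg.Agent.KFacts.MulTwo Cfsg.Agent.KFacts.MulDef Cfsg.Agent.OddHalf.D9.Ru.XLevel
open Cfsg.Agent.OddHalf.D9.Ru.Label
open scoped commutatorElement

section gen

variable {L X : Type*} [Group L] [Group X] {π : L →* X} {c : L}

theorem mem_or (hd : Dbl π c) {x : L} (h : π x = 1) : x = 1 ∨ x = c := (hd.ker x).1 h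

/-- two elements with square `c` and product of square `c` anticommute -/
theorem anti (hd : Dbl π c) {x y : L} (hx : x * x = c) (hy : y * y = c) (hxy : x * y * (x * y) = c) :
    x * y = y * x * c := by
  have hx' : x⁻¹ = x * c := by
    apply inv_eq_of_mul_eq_one_right
    rw [← mul_assoc, hx, hd.sq]
  have hy' : y⁻¹ = y * c := by
    apply inv_eq_of_mul_eq_one_right
    rw [← mul_assoc, hy, hd.sq]
  have h1 : (x * y)⁻¹ = x * y * c := by
    apply inv_eq_of_mul_eq_one_right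
    rw [← mul_assoc, hxy, hd.sq]
  have h2 : (x * y)⁻¹ = y * x := by
    rw [mul_inv_rev, hx', hy']
    calc y * c * (x * c) = y * (c * x) * c := by group
      _ = y * (x * c) * c := by rw [hd.cen x]
      _ = y * x * (c * c) := by group
      _ = y * x := by rw [hd.sq, mul_one]
  calc x * y = x * y * c * c := by rw [mul_assoc, hd.sq, mul_one]
    _ = y * x * c := by rw [← h1, h2]

/-- the lifts of a class containing the seven involutions of an eightgroup are involutions -/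
theorem sq_of_pure (hd : Dbl π c) {z : X} (zz : z * z = 1) {x y w : L} (hx : IsConj z (π x)) (hy : IsConj z (π y))
    (hw : IsConj z (π w)) (hxy : IsConj z (π (x * y))) (hxw : IsConj z (π (x * w))) (hyw : IsConj z (π (y * w)))
    (hxyw : IsConj z (π (x * (y * w)))) {u : L} (hu : IsConj z (π u)) : u * u = 1 := by
  by_contra hne
  have key : ∀ v : L, IsConj z (π v) → v * v = c := by
    intro v hv
    have h1 : π (v * v) = 1 := by
      obtain ⟨g, hg⟩ := isConj_iff.1 hv
      rw [map_mul, ← hg]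
      calc g * z * g⁻¹ * (g * z * g⁻¹) = g * (z * z) * g⁻¹ := by group
        _ = 1 := by rw [zz]; group
    rcases mem_or hd h1 with h | h
    · exact absurd (Cfsg.Agent.KFacts.MulLift.sq_conj' hd (hv.symm.trans hu) h) hne
    · exact h
  have a1 := anti hd (key x hx) (key y hy) (key _ hxy)
  have a2 := anti hd (key x hx) (key w hw) (key _ hxw)
  have a3 := anti hd (key x hx) (key _ hyw) (key _ hxyw)
  apply hd.ne
  have h1 : x * (y * w) = y * w * x := by
    calc x * (y * w) = x * y * w := by group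
      _ = y * x * (c * w) := by rw [a1]; group
      _ = y * x * (w * c) := by rw [hd.cen w]
      _ = y * (x * w) * c := by group
      _ = y * (w * x * c) * c := by rw [a2]
      _ = y * w * x * (c * c) := by group
      _ = y * w * x := by rw [hd.sq, mul_one]
  rw [h1] at a3
  have h2 : y * w * x * 1 = y * w * x * c := by rw [mul_one]; exact a3
  exact (mul_left_cancel h2).symm

end gen

/-! ### 2A -/

open Cfsg.Agent.SporadicB Cfsg.Agent.RuD.Letters Cfsg.Agent.SporRec.TCUpperCert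

/-- the conjugates of `S²` by the powers of `F` -/
def E (k : ℕ) : RuOrder.H := F ^ k * (S * S) * (F ^ k)⁻¹

theorem isConj_E (k : ℕ) : IsConj (S * S) (E k) := isConj_iff.2 ⟨F ^ k, rfl⟩

theorem E_sq (k : ℕ) : E k * E k = 1 := by
  unfold E
  calc F ^ k * (S * S) * (F ^ k)⁻¹ * (F ^ k * (S * S) * (F ^ k)⁻¹) = F ^ k * (S * S * (S * S)) * (F ^ k)⁻¹ := by group
    _ = 1 := by rw [SS_sq]; group

theorem E_inv (k : ℕ) : (E k)⁻¹ = E k := inv_eq_of_mul_eq_one_left (E_sq k)

/-- words for `E k` -/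
def ew (k : ℕ) : List ℕ := List.replicate k 3 ++ [1, 1] ++ List.replicate k 7

theorem wprod_replicate (a k : ℕ) : (wprod ml (List.replicate k a) : RuOrder.H) = lv ml a ^ k := by
  induction k with
  | zero => rw [List.replicate_zero, wprod_nil, pow_zero]
  | succ k ih => rw [List.replicate_succ, wprod_cons, ih, pow_succ']

theorem wprod_ew (k : ℕ) : (wprod ml (ew k) : RuOrder.H) = E k := by
  unfold ew E
  rw [wprod_append, wprod_append, wprod_replicate, wprod_replicate, wSS]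
  change F ^ k * (S * S) * (F⁻¹) ^ k = _
  rw [inv_pow]

theorem chkE : chkRel [ew 0 ++ ew 1 ++ ew 3, ew 0 ++ ew 2 ++ ew 6, ew 1 ++ ew 2 ++ ew 4, ew 0 ++ ew 4 ++ ew 5] = true := by
  decide +kernel

theorem E_mul_of {i j k : ℕ} (h : ew i ++ ew j ++ ew k ∈
    [ew 0 ++ ew 1 ++ ew 3, ew 0 ++ ew 2 ++ ew 6, ew 1 ++ ew 2 ++ ew 4, ew 0 ++ ew 4 ++ ew 5]) : E i * E j = E k := by
  have h1 := rel_of_chk chkE _ h
  rw [wprod_append, wprod_append, wprod_ew, wprod_ew, wprod_ew] at h1
  rw [eq_inv_of_mul_eq_one_left h1, E_inv]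

theorem E01 : E 0 * E 1 = E 3 := E_mul_of (by simp)
theorem E02 : E 0 * E 2 = E 6 := E_mul_of (by simp)
theorem E12 : E 1 * E 2 = E 4 := E_mul_of (by simp)
theorem E04 : E 0 * E 4 = E 5 := E_mul_of (by simp)

variable {L : Type*} [Group L] {π : L →* RuOrder.H} {c : L}

/-- **2A lifts to involutions.** -/
theorem sq_A (hd : Dbl π c) {u : L} (hu : IsConj (S * S) (π u)) : u * u = 1 := by
  obtain ⟨x, hx⟩ := hd.surj (E 0)
  obtain ⟨y, hy⟩ := hd.surj (E 1)
  obtain ⟨w, hw⟩ := hd.surj (E 2)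
  refine sq_of_pure hd SS_sq (x := x) (y := y) (w := w) ?_ ?_ ?_ ?_ ?_ ?_ ?_ hu
  · rw [hx]; exact isConj_E 0
  · rw [hy]; exact isConj_E 1
  · rw [hw]; exact isConj_E 2
  · rw [map_mul, hx, hy, E01]; exact isConj_E 3
  · rw [map_mul, hx, hw, E02]; exact isConj_E 6
  · rw [map_mul, hy, hw, E12]; exact isConj_E 4
  · rw [map_mul, map_mul, hx, hy, hw, E12, E04]; exact isConj_E 5

/-! ### `Sz(8)` -/

/-- the group generated by `S`, `W`, `F` -/
def Y3 : Subgroup RuOrder.H := closure {S, W, F}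

theorem S_mem : S ∈ Y3 := subset_closure (by simp)
theorem W_mem : W ∈ Y3 := subset_closure (by simp)
theorem F_mem : F ∈ Y3 := subset_closure (by simp)

theorem chkY : chkRel [[2, 2], [2, 3, 2, 3], [3, 3, 3, 3, 3, 3, 3], [1, 1, 1, 1], [7, 7, 7, 6, 3, 3, 6, 3, 6],
    [6, 6, 2, 1, 2, 6, 2]] = true := by decide +kernel

theorem wv (w : List ℕ) (h : w ∈ [[2, 2], [2, 3, 2, 3], [3, 3, 3, 3, 3, 3, 3], [1, 1, 1, 1], [7, 7, 7, 6, 3, 3, 6, 3, 6],
    [6, 6, 2, 1, 2, 6, 2]]) : (w.map (lv ml)).prod = (1 : RuOrder.H) := rel_of_chk chkY w h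

theorem relW : W * W = 1 := by
  have := wv [2, 2] (by simp)
  simpa [lv, ml] using this

theorem relWF : W * F * (W * F) = 1 := by
  have := wv [2, 3, 2, 3] (by simp)
  have e : W * (F * (W * F)) = 1 := by simpa [lv, ml] using this
  rw [← e]; group

theorem relF : F ^ 7 = 1 := by
  have := wv [3, 3, 3, 3, 3, 3, 3] (by simp)
  have e : F * (F * (F * (F * (F * (F * F))))) = 1 := by simpa [lv, ml] using this
  rw [← e]
  simp only [pow_succ, pow_zero, one_mul, mul_assoc]

theorem relS : S * (S * (S * S)) = 1 := by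
  have := wv [1, 1, 1, 1] (by simp)
  simpa [lv, ml] using this

theorem relh : F⁻¹ * (F⁻¹ * (F⁻¹ * (S⁻¹ * (F * (F * (S⁻¹ * (F * S⁻¹))))))) = 1 := by
  have := wv [7, 7, 7, 6, 3, 3, 6, 3, 6] (by simp)
  simpa [lv, ml] using this

theorem relws : S⁻¹ * (S⁻¹ * (W * (S * (W * (S⁻¹ * W))))) = 1 := by
  have := wv [6, 6, 2, 1, 2, 6, 2] (by simp)
  simpa [lv, ml] using this

/-- the commutator subgroup is normalised -/
theorem conj_mem_comm {G : Type*} [Group G] {Y : Subgroup G} {x n : G} (hx : x ∈ Y) (hn : n ∈ ⁅Y, Y⁆) :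
    x * n * x⁻¹ ∈ ⁅Y, Y⁆ := by
  have h1 : ⁅x, n⁆ ∈ ⁅Y, Y⁆ := commutator_mem_commutator hx (commutator_le_self Y hn)
  have e : x * n * x⁻¹ = ⁅x, n⁆ * n := by rw [commutatorElement_def]; group
  rw [e]
  exact mul_mem h1 hn

theorem Y3_perfect : ⁅Y3, Y3⁆ = Y3 := by
  apply le_antisymm (commutator_le_self _)
  have hF : F ∈ ⁅Y3, Y3⁆ := by
    have h1 : ⁅W, F⁆ ∈ ⁅Y3, Y3⁆ := commutator_mem_commutator W_mem F_mem
    have hW' : W⁻¹ = W := inv_eq_of_mul_eq_one_left relW
    have e : ⁅W, F⁆ = (F ^ 2)⁻¹ := by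
      rw [commutatorElement_def, hW']
      have h2 : W * F * W = F⁻¹ := by
        rw [eq_inv_iff_mul_eq_one, ← relWF]; group
      rw [h2]; group
    rw [e] at h1
    have h3 : F = ((F ^ 2)⁻¹) ^ 3 := by
      rw [inv_pow, ← pow_mul]
      apply eq_inv_of_mul_eq_one_left
      rw [← pow_succ']
      exact relF
    rw [h3]
    exact pow_mem h1 3
  have hS3 : S * S * S ∈ ⁅Y3, Y3⁆ := by
    have e : S * S * S = (F * F * F)⁻¹ * (S⁻¹ * (F * F) * S⁻¹⁻¹) * ((S⁻¹ * S⁻¹) * F * (S⁻¹ * S⁻¹)⁻¹) := by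
      have h1 : (F * F * F)⁻¹ * (S⁻¹ * (F * F) * S⁻¹⁻¹) * ((S⁻¹ * S⁻¹) * F * (S⁻¹ * S⁻¹)⁻¹) =
          F⁻¹ * (F⁻¹ * (F⁻¹ * (S⁻¹ * (F * (F * (S⁻¹ * (F * S⁻¹))))))) * (S * S * S) := by
        simp only [mul_inv_rev, inv_inv, mul_assoc, inv_mul_cancel_left, mul_inv_cancel_left]
      rw [h1, relh, one_mul]
    rw [e]
    refine mul_mem (mul_mem (inv_mem (mul_mem (mul_mem hF hF) hF)) (conj_mem_comm (inv_mem S_mem) (mul_mem hF hF)))
      (conj_mem_comm (mul_mem (inv_mem S_mem) (inv_mem S_mem)) hF)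
  have hS : S ∈ ⁅Y3, Y3⁆ := by
    have e : S = (S * S * S)⁻¹ := by
      apply eq_inv_of_mul_eq_one_left
      rw [← relS]; group
    rw [e]
    exact inv_mem hS3
  have hW : W ∈ ⁅Y3, Y3⁆ := by
    have hW' : W⁻¹ = W := inv_eq_of_mul_eq_one_left relW
    have h1 : W * S * W⁻¹ ∈ ⁅Y3, Y3⁆ := conj_mem_comm W_mem hS
    have e : W = S * (W * S * W⁻¹)⁻¹ * (S * S) := by
      rw [hW']
      have h2 : S * (W * S * W)⁻¹ * (S * S) * (S⁻¹ * (S⁻¹ * (W * (S * (W * (S⁻¹ * W)))))) = W := by group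
      rw [relws, mul_one] at h2
      exact h2.symm
    rw [e]
    exact mul_mem (mul_mem hS (inv_mem h1)) (mul_mem hS hS)
  unfold Y3 at hF hS hW ⊢
  rw [closure_le]
  rintro x (rfl | rfl | rfl)
  · exact hS
  · exact hW
  · exact hF

/-! ### the field `sq` -/

theorem comm_T : ∀ y ∈ Y3, y * T = T * y := by
  have hT : Cm T := by
    have := (Cm.of_rels rT).1
    rwa [wprod_cons, wprod_nil, mul_one] at this
  intro y hy
  unfold Y3 at hy
  have h1 : closure ({S, W, F} : Set RuOrder.H) ≤ centralizer {T} := by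
    rw [closure_le]
    rintro x (rfl | rfl | rfl)
    · exact mem_centralizer_singleton_iff.2 hT.s.symm
    · exact mem_centralizer_singleton_iff.2 hT.w.symm
    · exact mem_centralizer_singleton_iff.2 hT.f.symm
  exact mem_centralizer_singleton_iff.1 (h1 hy)

/-- the perfect lift of `Sz(8)` centralises the lifts of `T` -/
theorem lift_le (hd : Dbl π c) {v : L} (hv : π v = T) : ⁅Y3.comap π, Y3.comap π⁆ ≤ centralizer {v} := by
  rw [commutator_le]
  have key : ∀ a ∈ Y3.comap π, ∃ r : L, (∀ x, r * x = x * r) ∧ v * a * v⁻¹ = a * r := by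
    intro a ha
    have h1 : π (v * a * v⁻¹) = π a := by
      rw [map_mul, map_mul, map_inv, hv, ← comm_T _ ha, mul_inv_cancel_right]
    rcases Cfsg.Agent.KFacts.MulLift.eq_or hd h1 with h | h
    · exact ⟨1, fun x => by rw [one_mul, mul_one], by rw [h, mul_one]⟩
    · exact ⟨c, hd.cen, h⟩
  intro a ha b hb
  obtain ⟨r, hr, h1⟩ := key a ha
  obtain ⟨s, hs, h2⟩ := key b hb
  rw [mem_centralizer_singleton_iff]
  have h3 : v * ⁅a, b⁆ * v⁻¹ = ⁅a, b⁆ := by
    have e : v * ⁅a, b⁆ * v⁻¹ = ⁅v * a * v⁻¹, v * b * v⁻¹⁆ := by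
      rw [commutatorElement_def, commutatorElement_def]; group
    rw [e, h1, h2, Cfsg.Agent.OddHalf.D9.KillAny.commutator_central hr hs]
  exact (mul_inv_eq_iff_eq_mul.1 h3).symm

theorem ker_central (hd : Dbl π c) (x : L) (h : π x = 1) (y : L) : x * y = y * x := by
  rcases mem_or hd h with rfl | rfl
  · rw [one_mul, mul_one]
  · exact hd.cen y

theorem sq_T (hd : Dbl π c) {v k : L} (hv : π v = T) (hk : ∀ y ∈ PC (centralizer {v}), k * y = y * k) :
    k * k = 1 ∨ k * k = c := by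
  obtain ⟨h1, h2⟩ := Cfsg.Agent.OddHalf.D9.KillAny.lift_perfect (f := π) (ker_central hd) (S := Y3)
    (fun y _ => hd.surj y) Y3_perfect
  have h3 : ⁅Y3.comap π, Y3.comap π⁆ ≤ PC (centralizer {v}) := le_PC (lift_le hd hv) h2
  have h4 : ∀ y ∈ Y3, π k * y = y * π k := by
    intro y hy
    rw [← h1] at hy
    obtain ⟨y, hy, rfl⟩ := hy
    rw [← map_mul, hk y (h3 hy), map_mul]
  have h5 : Cm (π k) := ⟨h4 S S_mem, h4 W W_mem, h4 F F_mem⟩
  apply mem_or hd
  rw [map_mul, h5.sq]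

/-- the field `sq` -/
theorem sqRu (hd : Dbl π c) (v k : L) (hv : v * v = c) (hk : ∀ y ∈ PC (centralizer {v}), k * y = y * k) :
    k * k = 1 ∨ k * k = c := by
  have h1 : π v * π v = 1 := by rw [← map_mul, hv]; exact Inn.pc hd
  have h2 : π v ≠ 1 := by
    intro h
    rcases mem_or hd h with rfl | rfl
    · apply hd.ne; rw [← hv, one_mul]
    · apply hd.ne; rw [← hv, hd.sq]
  rcases isConj_or h1 h2 with h3 | h3
  · exfalso
    apply hd.ne
    rw [← hv, sq_A hd h3]
  · obtain ⟨g, hg⟩ := isConj_iff.1 h3.symm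
    obtain ⟨g, rfl⟩ := hd.surj g
    have h4 : π (g * v * g⁻¹) = T := by rw [map_mul, map_mul, map_inv, hg]
    have h5 := sq_T hd (k := g * k * g⁻¹) h4 (by
      intro y hy
      have h6 : (PC (centralizer {v})).map (MulAut.conj g).toMonoidHom = PC (centralizer {g * v * g⁻¹}) := by
        rw [PC_map_conj]
        congr 1
        ext x
        rw [mem_map_equiv, mem_centralizer_singleton_iff, mem_centralizer_singleton_iff]
        have e1 : (MulAut.conj g).symm x = g⁻¹ * x * g := rfl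
        rw [e1]
        constructor
        · intro h
          calc x * (g * v * g⁻¹) = g * (g⁻¹ * x * g * v) * g⁻¹ := by group
            _ = g * (v * (g⁻¹ * x * g)) * g⁻¹ := by rw [h]
            _ = g * v * g⁻¹ * x := by group
        · intro h
          calc g⁻¹ * x * g * v = g⁻¹ * (x * (g * v * g⁻¹)) * g := by group
            _ = g⁻¹ * (g * v * g⁻¹ * x) * g := by rw [h]
            _ = v * (g⁻¹ * x * g) := by group
      rw [← h6] at hy
      obtain ⟨y, hy, rfl⟩ := hy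
      change g * k * g⁻¹ * (g * y * g⁻¹) = g * y * g⁻¹ * (g * k * g⁻¹)
      calc g * k * g⁻¹ * (g * y * g⁻¹) = g * (k * y) * g⁻¹ := by group
        _ = g * (y * k) * g⁻¹ := by rw [hk y hy]
        _ = g * y * g⁻¹ * (g * k * g⁻¹) := by group)
    have e : k * k = g⁻¹ * (g * k * g⁻¹ * (g * k * g⁻¹)) * g := by group
    rcases h5 with h5 | h5
    · left; rw [e, h5]; group
    · right
      rw [e, h5, mul_assoc, hd.cen g]; group

end Cfsg.Agent.OddHalf.D9.Ru.Base
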