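import Cfsg.Agent.KFacts.MulRu.Main
import Cfsg.Agent.RuD.Model
import Cfsg.Agent.KFacts.MulDef

/-!
# Words in a perfect double cover of the Rudvalis group

* `exists_sz`: `⟨S, W, F, D⟩ = Sz(8) : 3` lifts exactly (the certificates of `KFacts/MulRu`);
* `delta`: `e (f e f⁻¹) = f³ e f⁻³` for `e = s²`;
* `pf`: `g₀ g₁ c = g₂` for three conjugates of `e`.
-/

set_option autoImplicit false
set_option maxRecDepth 100000

namespace Cfsg.Agent.OddHalf.D9.Ru.Words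

open Subgroup Cfsg.Agent.KFacts.MulTwo Cfsg.Agent.KFacts.MulDef Cfsg.Agent.KFacts.MulSpor.Class
open Cfsg.Agent.SporadicRecognition.CosetCert Cfsg.Agent.KFacts.MulRu.Sign Cfsg.Agent.KFacts.MulRu
open Cfsg.Agent.KFacts.MulRu.Near Cfsg.Agent.KFacts.MulRu.Main Cfsg.Agent.RuD.Rels
open Cfsg.Agent.SporRec.TCUpperCert
open scoped commutatorElement

/-- the relations of `Sz(8) : 3` -/
structure SzR {G : Type*} [Group G] (s w f d : G) : Prop where
  s4 : s * s * s * s = 1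
  w2 : w * w = 1
  f7 : f * f * f * f * f * f * f = 1
  wf : w * f * w * f = 1
  ws : s⁻¹ * s⁻¹ * w * s * w * s⁻¹ * w = 1
  h1 : f⁻¹ * f⁻¹ * f⁻¹ * s⁻¹ * f * f * s⁻¹ * f * s⁻¹ = 1
  h2 : f⁻¹ * s⁻¹ * s⁻¹ * f * s⁻¹ * f⁻¹ * s⁻¹ * s⁻¹ * f * s = 1
  h3 : f⁻¹ * s⁻¹ * f * s⁻¹ * s⁻¹ * f⁻¹ * s * f * s⁻¹ * s⁻¹ = 1
  d3 : d * d * d = 1
  ds : d * s * d⁻¹ * s⁻¹ = 1
  dw : d * w * d⁻¹ * w = 1
  df : d⁻¹ * f * d * f⁻¹ * f⁻¹ * f⁻¹ * f⁻¹ = 1

section cert

variable {L : Type*} [Group L] {c s w f d : L}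

/-- the relators `h2`, `h3` are exact -/
theorem exact_sz (hc : ∀ x : L, c * x = x * c) (hcc : c * c = 1) (h1 : c ≠ 1)
    (k1 : s * s * s * s = 1) (k2 : w * w = 1) (k3 : f * f * f * f * f * f * f = 1) (k4 : w * f * w * f = 1)
    (k5 : s⁻¹ * s⁻¹ * w * s * w * s⁻¹ * w = 1)
    (k6 : f⁻¹ * f⁻¹ * f⁻¹ * s⁻¹ * f * f * s⁻¹ * f * s⁻¹ = 1) (k7 : d * d * d = 1) (k8 : d * s * d⁻¹ * s⁻¹ = 1)
    (k9 : d * w * d⁻¹ * w = 1) (k10 : d⁻¹ * f * d * f⁻¹ * f⁻¹ * f⁻¹ * f⁻¹ = 1)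
    (m2 : f⁻¹ * s⁻¹ * s⁻¹ * f * s⁻¹ * f⁻¹ * s⁻¹ * s⁻¹ * f * s = 1 ∨
      f⁻¹ * s⁻¹ * s⁻¹ * f * s⁻¹ * f⁻¹ * s⁻¹ * s⁻¹ * f * s = c)
    (m3 : f⁻¹ * s⁻¹ * f * s⁻¹ * s⁻¹ * f⁻¹ * s * f * s⁻¹ * s⁻¹ = 1 ∨
      f⁻¹ * s⁻¹ * f * s⁻¹ * s⁻¹ * f⁻¹ * s * f * s⁻¹ * s⁻¹ = c) : SzR s w f d := by
  have hf7 := k3
  have e1 := comm4 hc hcc s
  have e2 := comm4' hc hcc k2
  have e3 := comm4 hc hcc f
  have e4 := comm4 hc hcc d
  have fin : ∀ x, x ∈ zpowers f → x = c → False := by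
    rintro x hx rfl
    exact h1 (c_eq_one hcc hf7 hx)
  rcases m2 with m2 | m2 <;> rcases m3 with m3 | m3
  · exact ⟨k1, k2, k3, k4, k5, k6, m2, m3, k7, k8, k9, k10⟩
  · exfalso
    have m3' : f⁻¹ * s⁻¹ * f * s⁻¹ * s⁻¹ * f⁻¹ * s * f * s⁻¹ * s⁻¹ * c = 1 := by rw [m3, hcc]
    refine fin _ (Sz01.mem (zpowers f) (gs c s w f d) ?_ ?_ ?_ [7] (by simp [Sz01Data.targets])) ?_
    · intro x hx
      interval_cases x
      · exact mul_inv_cancel s
      · exact inv_mul_cancel s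
      · exact k2
      · exact mul_inv_cancel f
      · exact inv_mul_cancel f
      · exact mul_inv_cancel d
      · exact inv_mul_cancel d
      · exact hcc
    · simp only [Sz01Data.rels, List.forall_mem_cons, List.not_mem_nil, false_imp_iff, implies_true, and_true, ev,
        List.map_cons, List.map_nil, List.prod_cons, List.prod_nil, mul_one, gs]
      simp only [mul_assoc] at k1 k2 k3 k4 k5 k6 k7 k8 k9 k10 m2 m3' e1 e2 e3 e4 ⊢
      exact ⟨k7, k1, k4, k8, k9, e1, e2, e3, e4, k3, k5, k10, k6, m2, m3'⟩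
    · intro u hu
      simp only [Sz01Data.subw, List.mem_cons, List.not_mem_nil, or_false] at hu
      subst hu
      simp only [ev, List.map_cons, List.map_nil, List.prod_cons, List.prod_nil, mul_one, gs]
      exact mem_zpowers f
    · simp only [ev, List.map_cons, List.map_nil, List.prod_cons, List.prod_nil, mul_one, gs]
  · exfalso
    have m2' : f⁻¹ * s⁻¹ * s⁻¹ * f * s⁻¹ * f⁻¹ * s⁻¹ * s⁻¹ * f * s * c = 1 := by rw [m2, hcc]
    refine fin _ (Sz10.mem (zpowers f) (gs c s w f d) ?_ ?_ ?_ [7] (by simp [Sz10Data.targets])) ?_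
    · intro x hx
      interval_cases x
      · exact mul_inv_cancel s
      · exact inv_mul_cancel s
      · exact k2
      · exact mul_inv_cancel f
      · exact inv_mul_cancel f
      · exact mul_inv_cancel d
      · exact inv_mul_cancel d
      · exact hcc
    · simp only [Sz10Data.rels, List.forall_mem_cons, List.not_mem_nil, false_imp_iff, implies_true, and_true, ev,
        List.map_cons, List.map_nil, List.prod_cons, List.prod_nil, mul_one, gs]
      simp only [mul_assoc] at k1 k2 k3 k4 k5 k6 k7 k8 k9 k10 m2' m3 e1 e2 e3 e4 ⊢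
      exact ⟨k7, k1, k4, k8, k9, e1, e2, e3, e4, k3, k5, k10, k6, m3, m2'⟩
    · intro u hu
      simp only [Sz10Data.subw, List.mem_cons, List.not_mem_nil, or_false] at hu
      subst hu
      simp only [ev, List.map_cons, List.map_nil, List.prod_cons, List.prod_nil, mul_one, gs]
      exact mem_zpowers f
    · simp only [ev, List.map_cons, List.map_nil, List.prod_cons, List.prod_nil, mul_one, gs]
  · exfalso
    have m2' : f⁻¹ * s⁻¹ * s⁻¹ * f * s⁻¹ * f⁻¹ * s⁻¹ * s⁻¹ * f * s * c = 1 := by rw [m2, hcc]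
    have m3' : f⁻¹ * s⁻¹ * f * s⁻¹ * s⁻¹ * f⁻¹ * s * f * s⁻¹ * s⁻¹ * c = 1 := by rw [m3, hcc]
    refine fin _ (Sz11.mem (zpowers f) (gs c s w f d) ?_ ?_ ?_ [7] (by simp [Sz11Data.targets])) ?_
    · intro x hx
      interval_cases x
      · exact mul_inv_cancel s
      · exact inv_mul_cancel s
      · exact k2
      · exact mul_inv_cancel f
      · exact inv_mul_cancel f
      · exact mul_inv_cancel d
      · exact inv_mul_cancel d
      · exact hcc
    · simp only [Sz11Data.rels, List.forall_mem_cons, List.not_mem_nil, false_imp_iff, implies_true, and_true, ev,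
        List.map_cons, List.map_nil, List.prod_cons, List.prod_nil, mul_one, gs]
      simp only [mul_assoc] at k1 k2 k3 k4 k5 k6 k7 k8 k9 k10 m2' m3' e1 e2 e3 e4 ⊢
      exact ⟨k7, k1, k4, k8, k9, e1, e2, e3, e4, k3, k5, k10, k6, m2', m3'⟩
    · intro u hu
      simp only [Sz11Data.subw, List.mem_cons, List.not_mem_nil, or_false] at hu
      subst hu
      simp only [ev, List.map_cons, List.map_nil, List.prod_cons, List.prod_nil, mul_one, gs]
      exact mem_zpowers f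
    · simp only [ev, List.map_cons, List.map_nil, List.prod_cons, List.prod_nil, mul_one, gs]

open Cfsg.Agent.RuD in
theorem index_B (h : SzR s w f d) :
    (zpowers f).relIndex (closure {s, f}) ≤ 64 ∧ (zpowers f).relIndex (closure {s, f}) ≠ 0 := by
  have h0 := h.s4
  have h2 := h.f7
  have h5 := h.h1
  have h6 := h.h2
  have h7 := h.h3
  refine relIndex_le_of_valid [s, s⁻¹, f, f⁻¹] TCB.inv TCB.lab TCB.fxl TCB.rels TCB.valid TCB.tt_ok ?_ ?_ _ ?_ _ ?_
  · intro a ha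
    change a < 4 at ha
    interval_cases a
    · exact mul_inv_cancel s
    · exact inv_mul_cancel s
    · exact mul_inv_cancel f
    · exact inv_mul_cancel f
  · simp only [TCB.rels, List.forall_mem_cons, List.not_mem_nil, false_imp_iff, implies_true, and_true, wprod, lv,
      List.map_cons, List.map_nil, List.prod_cons, List.prod_nil, mul_one, List.getD_cons_zero, List.getD_cons_succ]
    simp only [mul_assoc] at *
    exact ⟨h0, h2, h5, h6, h7⟩
  · intro a ha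
    simp only [TCB.fxl, List.mem_cons, List.not_mem_nil, or_false] at ha
    subst ha
    exact mem_zpowers f
  · intro x hx
    rcases hx with rfl | rfl
    · exact ⟨0, by norm_num, rfl⟩
    · exact ⟨2, by norm_num, rfl⟩

theorem card_sf (h : SzR s w f d) : Nat.card (closure ({s, f} : Set L)) ≤ 448 := by
  have h7 : f ^ 7 = 1 := by
    rw [← h.f7]; simp only [pow_succ, pow_zero, one_mul]
  have hd : orderOf f ∣ 7 := orderOf_dvd_of_pow_eq_one h7
  have l1 : zpowers f ≤ closure {s, f} := by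
    rw [zpowers_le]; exact subset_closure (by simp)
  have e1 := relIndex_mul_relIndex _ _ _ (bot_le : ⊥ ≤ zpowers f) l1
  rw [relIndex_bot_left, relIndex_bot_left, Nat.card_zpowers] at e1
  rw [← e1]
  calc _ ≤ 7 * 64 := Nat.mul_le_mul (Nat.le_of_dvd (by norm_num) hd) (index_B h).1
    _ = 448 := by norm_num

end cert

section cover

universe u

variable {L X : Type u} [Group L] [Finite L] [Group X] {π : L →* X} {c : L} {T S W F D Y : X}

/-- `Sz(8) : 3` lifts exactly -/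
theorem exists_sz (hd : Dbl π c) (hX : RuRelsX T S W F D Y) :
    ∃ s w f d : L, π s = S ∧ π w = W ∧ π f = F ∧ π d = D ∧ SzR s w f d := by
  have hR := hX.toRuRels
  have o7 : Odd 7 := by decide
  have o3 : Odd 3 := by decide
  have hπc : π c = 1 := pi_c hd
  obtain ⟨f, hf, hf7⟩ := odd_lift hd o7 (x := F) (by rw [← hR.f7]; simp only [pow_succ, pow_zero, one_mul])
  obtain ⟨d, hdd, hd3⟩ := odd_lift hd o3 (x := D) (by rw [← hR.d3]; simp only [pow_succ, pow_zero, one_mul])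
  have hd3' : d * d * d = 1 := by rw [← hd3]; simp only [pow_succ, pow_zero, one_mul]
  have hf7' : f * f * f * f * f * f * f = 1 := by rw [← hf7]; simp only [pow_succ, pow_zero, one_mul]
  -- `s`
  obtain ⟨s0, hs0⟩ := hd.surj S
  have hs : ∃ s : L, π s = S ∧ f⁻¹ * f⁻¹ * f⁻¹ * s⁻¹ * f * f * s⁻¹ * f * s⁻¹ = 1 := by
    have e1 : π (f⁻¹ * f⁻¹ * f⁻¹ * s0⁻¹ * f * f * s0⁻¹ * f * s0⁻¹) = 1 := by
      simp only [map_mul, map_inv, hs0, hf]; exact hR.h1
    rcases one_or hd e1 with h | h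
    · exact ⟨s0, hs0, h⟩
    · refine ⟨c * s0, by rw [map_mul, hπc, one_mul, hs0], ?_⟩
      have h2 := ev_sign hd.cen hd.sq (gl 1 s0 1 f 1 1) (gl (sg c false * 1) (sg c true * s0) (sg c false * 1) f 1
        (sg c false * 1)) _ [7, 7, 7, 6, 3, 3, 6, 3, 6] (fun x _ => gl_sign hd 1 s0 1 f 1 1 false true false false x)
      rw [ev_h1, ev_h1, h, sg_true] at h2
      rw [h2]
      exact hd.sq
  obtain ⟨s, hs, h1⟩ := hs
  -- `w`
  obtain ⟨w0, hw0⟩ := hd.surj W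
  have hw : ∃ w : L, π w = W ∧ s⁻¹ * s⁻¹ * w * s * w * s⁻¹ * w = 1 := by
    have e1 : π (s⁻¹ * s⁻¹ * w0 * s * w0 * s⁻¹ * w0) = 1 := by
      simp only [map_mul, map_inv, hs, hw0]; exact hR.ws
    rcases one_or hd e1 with h | h
    · exact ⟨w0, hw0, h⟩
    · refine ⟨c * w0, by rw [map_mul, hπc, one_mul, hw0], ?_⟩
      have h2 := ev_sign hd.cen hd.sq (gl 1 s w0 1 1 1) (gl (sg c false * 1) (sg c false * s) (sg c true * w0) 1 1
        (sg c false * 1)) _ [6, 6, 2, 1, 2, 6, 2] (fun x _ => gl_sign hd 1 s w0 1 1 1 false false true false x)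
      rw [ev_ws, ev_ws, h, sg_true, sg_false, one_mul] at h2
      rw [h2]
      exact hd.sq
  obtain ⟨w, hw, hws⟩ := hw
  have hWi : W⁻¹ = W := inv_eq_of_mul_eq_one_left hR.w2
  have hs4 : s * s * s * s = 1 := by
    have := sq_e hX hd (x := s * s) (by rw [map_mul, hs])
    rw [← this]; group
  have hw2 : w * w = 1 := by
    have e1 : (W * S) * W * (W * S)⁻¹ = S * S := by
      calc (W * S) * W * (W * S)⁻¹ = W * S * W * S⁻¹ * W⁻¹ := by group
        _ = W * S * W * S⁻¹ * W := by rw [hWi]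
        _ = S * S * (S⁻¹ * S⁻¹ * W * S * W * S⁻¹ * W) := by group
        _ = S * S := by rw [hR.ws, mul_one]
    have e2 := sq_conj hd (x := w) (y := s * s) _ (by rw [map_mul, hs, hw]; exact e1) (by rw [hw]; exact hR.w2)
    rw [← e2, ← mul_assoc]
    exact hs4
  have hf7i : (f⁻¹) ^ 7 = 1 := by rw [inv_pow, hf7, inv_one]
  have hwf : w * f * w⁻¹ = f⁻¹ := by
    refine odd_unique hd o7 ?_ (by rw [conj_pow', hf7]; group) hf7i
    rw [map_mul, map_mul, map_inv, map_inv, hw, hf, hWi]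
    exact eq_inv_of_mul_eq_one_left hR.wf
  have hds : s * d = d * s := by
    refine comm_odd hd o3 ?_ hd3
    rw [hs, hdd]
    calc S * D = (D * S * D⁻¹ * S⁻¹)⁻¹ * (D * S) := by group
      _ = D * S := by rw [hR.ds]; group
  have hdw : w * d = d * w := by
    refine comm_odd hd o3 ?_ hd3
    rw [hw, hdd]
    calc W * D = 1 * (W⁻¹ * D) := by rw [hWi, one_mul]
      _ = (D * W * D⁻¹ * W) * (W⁻¹ * D) := by rw [hR.dw]
      _ = D * W := by group
  have hdf : d⁻¹ * f * d = f * f * f * f := by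
    refine odd_unique hd o7 ?_ ?_ ?_
    · simp only [map_mul, map_inv, hdd, hf]
      calc D⁻¹ * F * D = (D⁻¹ * F * D * F⁻¹ * F⁻¹ * F⁻¹ * F⁻¹) * (F * F * F * F) := by group
        _ = F * F * F * F := by rw [hR.df, one_mul]
    · have := conj_pow' d⁻¹ f 7
      rw [inv_inv, hf7] at this
      rw [this]; group
    · have e : f * f * f * f = f ^ 4 := by simp only [pow_succ, pow_zero, one_mul]
      rw [e, ← pow_mul, mul_comm 4 7, pow_mul, hf7, one_pow]
  refine ⟨s, w, f, d, hs, hw, hf, hdd, ?_⟩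
  refine exact_sz hd.cen hd.sq hd.ne hs4 hw2 hf7' ?_ hws h1 hd3' ?_ ?_ ?_ ?_ ?_
  · calc w * f * w * f = (w * f * w⁻¹) * (w * w) * f := by group
      _ = 1 := by rw [hwf, hw2]; group
  · rw [← hds]; group
  · rw [← hdw, mul_inv_cancel_right, hw2]
  · rw [hdf]; group
  · refine one_or hd ?_
    simp only [map_mul, map_inv, hs, hf]
    exact hR.h2
  · refine one_or hd ?_
    simp only [map_mul, map_inv, hs, hf]
    exact hR.h3

/-- the lower bound for `⟨S, F⟩` -/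
theorem card_SF (I : Idx.{u}) (hX : Ltr T S W F D Y) [Finite X] : 448 ≤ Nat.card (closure ({S, F} : Set X)) := by
  have hR := hX.toRuRels
  have hH : HBound.HRels T S W F D Y :=
    { s4 := hR.s4, w2 := hR.w2, f7 := hR.f7, wf := hR.wf, ws := hR.ws, h1 := hR.h1, h2 := hR.h2, h3 := hR.h3,
      t2 := hR.t2, d3 := hR.d3, td := hR.td, ds := hR.ds, dw := hR.dw, df := hR.df, ts := hR.ts, tw := hR.tw,
      tf := hR.tf, y2 := hR.y2, yd := hR.yd, ty := hR.ty, ys := hR.ys, yw := hR.yw }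
  have hL := (HBound.index_L hH).1
  have hI := (HBound.index_H hH).1
  have h3 := (I X T S W F D Y hX.toRuRelsX).1
  rw [hX.gen] at h3
  have l2 : closure {S, F} ≤ closure {S, W, F} := closure_mono (by
    intro x hx; rcases hx with rfl | rfl <;> simp)
  have l3 : closure {S, W, F} ≤ closure ({T, S, W, F, D} : Set X) := closure_mono (by
    intro x hx; rcases hx with rfl | rfl | rfl <;> simp)
  have e2 := relIndex_mul_relIndex _ _ _ (bot_le : ⊥ ≤ closure {S, F}) l2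
  have e3 := relIndex_mul_relIndex _ _ _ (bot_le : ⊥ ≤ closure {S, W, F}) l3
  have e4 := relIndex_mul_relIndex _ _ _ (bot_le : ⊥ ≤ closure ({T, S, W, F, D} : Set X)) le_top
  rw [relIndex_bot_left, relIndex_bot_left] at e2 e3 e4
  have e5 : Nat.card (⊤ : Subgroup X) = 145926144000 := by rw [Subgroup.card_top, hX.card]
  by_contra hcon
  push Not at hcon
  have k1 : Nat.card (closure ({S, F} : Set X)) ≤ 447 := by omega
  have k2 := Nat.mul_le_mul k1 hL
  rw [e2] at k2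
  have k3 := Nat.mul_le_mul k2 hI
  rw [e3] at k3
  have k4 := Nat.mul_le_mul k3 h3
  rw [e4, e5] at k4
  norm_num at k4

theorem delta0 (I : Idx.{u}) (hX : Ltr T S W F D Y) (hd : Dbl π c)
    (hw : (S * S) * (F * (S * S) * F⁻¹) * (F * F * F * (S * S) * F⁻¹ * F⁻¹ * F⁻¹)⁻¹ = 1) {s f : L} (hs : π s = S)
    (hf : π f = F) (hf7 : f ^ 7 = 1) :
    (s * s) * (f * (s * s) * f⁻¹) = f * f * f * (s * s) * f⁻¹ * f⁻¹ * f⁻¹ := by
  have : Finite X := Finite.of_surjective π hd.surj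
  obtain ⟨s', w', f', d', hs', hw', hf', hd', R⟩ := exists_sz hd hX.toRuRelsX
  have hff : f = f' := odd_unique hd (by decide : Odd 7) (hf.trans hf'.symm) hf7 (by
    rw [← R.f7]; simp only [pow_succ, pow_zero, one_mul])
  have hss : s * s = s' * s' := sq_eq_of_pi hd (hs.trans hs'.symm)
  rw [hff, hss]
  set x := (s' * s') * (f' * (s' * s') * f'⁻¹) * (f' * f' * f' * (s' * s') * f'⁻¹ * f'⁻¹ * f'⁻¹)⁻¹ with hx
  have hx1 : π x = 1 := by
    rw [hx]
    simp only [map_mul, map_inv, hs', hf']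
    exact hw
  have hxm : x ∈ closure ({s', f'} : Set L) := by
    have m1 : s' ∈ closure ({s', f'} : Set L) := subset_closure (by simp)
    have m2 : f' ∈ closure ({s', f'} : Set L) := subset_closure (by simp)
    have m3 := mul_mem m1 m1
    have m4 := inv_mem m2
    rw [hx]
    exact mul_mem (mul_mem m3 (mul_mem (mul_mem m2 m3) m4))
      (inv_mem (mul_mem (mul_mem (mul_mem (mul_mem (mul_mem (mul_mem m2 m2) m2) m3) m4) m4) m4))
  have hc : c ∉ closure ({s', f'} : Set L) := by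
    intro hc
    have h1 := card_of_mem hd _ hc
    have h2 : (closure ({s', f'} : Set L)).map π = closure ({S, F} : Set X) := by
      rw [MonoidHom.map_closure]
      congr 1
      rw [Set.image_insert_eq, Set.image_singleton, hs', hf']
    rw [h2] at h1
    have h3 := card_SF I hX
    have h4 := card_sf R
    omega
  rcases one_or hd hx1 with h | h
  · rw [hx] at h
    exact mul_inv_eq_one.1 h
  · exfalso
    rw [h] at hxm
    exact hc hxm

end cover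

/-! ### the three commuting conjugates -/

section pf

variable {L : Type*} [Group L]

/-- if `(x y)³ = k` is central in `⟨x, y⟩`, `k² = 1`, `y² = c` central of order 2, `(x²)² = 1`, then
`g₀ g₁ c = y⁻¹ g₀ y` for `g₀ = x²`, `g₁ = x (y⁻¹ g₀ y) x⁻¹` -/
theorem three {c x y k : L} (hc : ∀ g : L, c * g = g * c) (hcc : c * c = 1) (hy : y * y = c)
    (hk : x * y * (x * y) * (x * y) = k) (hkx : k * x = x * k) (hky : k * y = y * k) (hkk : k * k = 1)
    (hx4 : x * x * (x * x) = 1) : (x * x) * (x * (y⁻¹ * (x * x) * y) * x⁻¹) * c = y⁻¹ * (x * x) * y := by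
  have hyi : y⁻¹ = y * c := by
    apply inv_eq_of_mul_eq_one_right
    rw [← mul_assoc, hy, hcc]
  have hki : k⁻¹ = k := inv_eq_of_mul_eq_one_left hkk
  have hci : c⁻¹ = c := inv_eq_of_mul_eq_one_left hcc
  have hx2i : (x * x)⁻¹ = x * x := inv_eq_of_mul_eq_one_left hx4
  have hkxi : k * x⁻¹ = x⁻¹ * k := by
    rw [eq_inv_mul_iff_mul_eq, ← mul_assoc, ← hkx, mul_inv_cancel_right]
  have hkyi : k * y⁻¹ = y⁻¹ * k := by
    rw [eq_inv_mul_iff_mul_eq, ← mul_assoc, ← hky, mul_inv_cancel_right]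
  -- `y x y = x⁻¹ k y⁻¹ x⁻¹`
  have h1 : y * x * y = x⁻¹ * k * y⁻¹ * x⁻¹ := by
    calc y * x * y = x⁻¹ * (x * y * (x * y) * (x * y)) * (y⁻¹ * x⁻¹) := by group
      _ = _ := by rw [hk]; group
  -- `y x y⁻¹ = y x y c`
  have h2 : y * x * y⁻¹ = x⁻¹ * k * y⁻¹ * x⁻¹ * c := by
    rw [hyi, ← mul_assoc, h1, hyi]
  -- conjugation by `y` and `y⁻¹` agree
  have h3 : y * (x * x) * y⁻¹ = y⁻¹ * (x * x) * y := by
    calc y * (x * x) * y⁻¹ = y⁻¹ * ((y * y) * (x * x)) * y⁻¹ := by group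
      _ = y⁻¹ * ((x * x) * (y * y)) * y⁻¹ := by rw [hy, hc]
      _ = _ := by group
  -- squaring
  have h4 : y * (x * x) * y⁻¹ = x⁻¹ * (y⁻¹ * (x * x) * y) * x⁻¹ * c := by
    calc y * (x * x) * y⁻¹ = (y * x * y⁻¹) * (y * x * y⁻¹) := by group
      _ = (x⁻¹ * k * y⁻¹ * x⁻¹ * c) * (x⁻¹ * k * y⁻¹ * x⁻¹ * c) := by rw [h2]
      _ = x⁻¹ * (k * y⁻¹) * x⁻¹ * (c * (x⁻¹ * k * y⁻¹ * x⁻¹)) * c := by group
      _ = x⁻¹ * (k * y⁻¹) * x⁻¹ * ((x⁻¹ * k * y⁻¹ * x⁻¹) * c) * c := by rw [hc (x⁻¹ * k * y⁻¹ * x⁻¹)]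
      _ = x⁻¹ * (k * y⁻¹) * x⁻¹ * (x⁻¹ * k * y⁻¹ * x⁻¹) * (c * c) := by group
      _ = x⁻¹ * (k * y⁻¹) * (x⁻¹ * x⁻¹) * (k * y⁻¹) * x⁻¹ := by rw [hcc]; group
      _ = x⁻¹ * (y⁻¹ * k) * (x⁻¹ * x⁻¹) * (k * y⁻¹) * x⁻¹ := by rw [hkyi]
      _ = x⁻¹ * y⁻¹ * (k * x⁻¹) * x⁻¹ * k * y⁻¹ * x⁻¹ := by group
      _ = x⁻¹ * y⁻¹ * (x⁻¹ * k) * x⁻¹ * k * y⁻¹ * x⁻¹ := by rw [hkxi]
      _ = x⁻¹ * y⁻¹ * x⁻¹ * (k * x⁻¹) * k * y⁻¹ * x⁻¹ := by group
      _ = x⁻¹ * y⁻¹ * x⁻¹ * (x⁻¹ * k) * k * y⁻¹ * x⁻¹ := by rw [hkxi]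
      _ = x⁻¹ * y⁻¹ * (x * x)⁻¹ * (k * k) * y⁻¹ * x⁻¹ := by group
      _ = x⁻¹ * y⁻¹ * (x * x) * y⁻¹ * x⁻¹ := by rw [hx2i, hkk, mul_one]
      _ = x⁻¹ * y⁻¹ * (x * x) * (y * c) * x⁻¹ := by rw [← hyi]
      _ = x⁻¹ * (y⁻¹ * (x * x) * y) * (c * x⁻¹) := by group
      _ = _ := by rw [hc]; group
  have h5 : x⁻¹ * (y⁻¹ * (x * x) * y) * x⁻¹ * c = y⁻¹ * (x * x) * y := by rw [← h4, h3]
  -- `x⁻¹ g₂ x⁻¹ = x² (x g₂ x⁻¹)` up to squares of `x²`
  calc (x * x) * (x * (y⁻¹ * (x * x) * y) * x⁻¹) * c = (x * x) * (x * x) * (x⁻¹ * (y⁻¹ * (x * x) * y) * x⁻¹ * c) := by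
        group
    _ = _ := by rw [hx4, one_mul, h5]

end pf

end Cfsg.Agent.OddHalf.D9.Ru.Words
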