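import Cfsg.Agent.OddHalf.D9.Ru.XF

/-!
# D9, row `2.Ru`: the label is the generator of `[[O_2(N), O_2(N)], O_2(N)]`
-/

set_option autoImplicit false
set_option linter.dupNamespace false

namespace Cfsg.Agent.OddHalf.D9.Ru.XLab

open Subgroup Cfsg.Agent.KFacts.MulTwo Cfsg.Agent.KFacts.MulDef Cfsg.Agent.OddHalf.D9.M12Glue
  Cfsg.Agent.OddHalf.D9.ExTrick Cfsg.Agent.OddHalf.D9.Ru.Inn Cfsg.Agent.OddHalf.D9.Ru.Label
  Cfsg.Agent.OddHalf.D9.Ru.Kill Cfsg.Agent.OddHalf.D9.Ru.XF Cfsg.Agent.OddHalf.D9.Ru.XF.LC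

open scoped commutatorElement

universe u v

/-- the label: a nontrivial element of `[[Q, Q], Q]` for a normal 2-subgroup `Q` -/
def lab : Lbl.{u} := fun P _ x => x ≠ 1 ∧ ∃ Q : Subgroup P, Q.Normal ∧ IsPGroup 2 Q ∧ x ∈ ⁅⁅Q, Q⁆, Q⁆

theorem isoInv : IsoInv lab.{u} := by
  rintro P P' _ _ e x ⟨hx, Q, hn, hp, hQ⟩
  refine ⟨fun h => hx ((map_eq_one_iff e e.injective).1 h), Q.map e.toMonoidHom, hn.map _ e.surjective, hp.map _, ?_⟩
  rw [← map_commutator, ← map_commutator]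
  exact ⟨x, hQ, rfl⟩

/-- the label in a subgroup -/
theorem lab_iff {G : Type u} [Group G] (N : Subgroup G) (x : G) : Lab lab N x ↔ x ≠ 1 ∧ ∃ Q ≤ N,
    (∀ g ∈ N, ∀ q ∈ Q, g * q * g⁻¹ ∈ Q) ∧ IsPGroup 2 Q ∧ x ∈ ⁅⁅Q, Q⁆, Q⁆ := by
  constructor
  · rintro ⟨hx, h1, Q, hn, hp, hQ⟩
    refine ⟨fun h => h1 (Subtype.ext h), Q.map N.subtype, map_subtype_le Q, ?_, hp.map _, ?_⟩
    · rintro g hg _ ⟨q, hq, rfl⟩
      exact ⟨⟨g, hg⟩ * q * ⟨g, hg⟩⁻¹, hn.conj_mem q hq _, rfl⟩
    · rw [← map_commutator, ← map_commutator]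
      exact ⟨⟨x, hx⟩, hQ, rfl⟩
  · rintro ⟨h1, Q, hle, hn, hp, hQ⟩
    have e : (Q.subgroupOf N).map N.subtype = Q := by rw [subgroupOf_map_subtype, inf_eq_left.mpr hle]
    rw [← e, ← map_commutator, ← map_commutator] at hQ
    obtain ⟨y, hy, hyx⟩ := hQ
    have hy' : (⟨x, hyx ▸ y.2⟩ : N) = y := Subtype.ext hyx.symm
    refine ⟨hyx ▸ y.2, fun h => h1 (congrArg Subtype.val h), Q.subgroupOf N, ⟨?_⟩, ?_, ?_⟩
    · intro q hq g
      exact hn g g.2 q hq
    · exact hp.of_injective (subgroupOfEquivOfLe hle).toMonoidHom (subgroupOfEquivOfLe hle).injective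
    · rw [hy']; exact hy

section

variable {L : Type u} {X : Type v} [Group L] [Group X] {π : L →* X} {c e a' : L} {z a : X} {P1 R E : Subgroup X}

theorem ne_ec (H : LC π c e a' z a P1 R E) : e * c ≠ 1 := by
  intro h
  have := congrArg π h
  rw [map_mul, pc H.hd, mul_one, H.pe, map_one] at this
  exact H.z1 this

/-- the key: `[r, x]` is `1` or `e` -/
theorem key (H : LC π c e a' z a P1 R E) {r x : L} (hr : r ∈ N π z) (hrR : π r ∈ R) (hxE : π x ∈ E) :
    r * x * r⁻¹ * x⁻¹ = 1 ∨ r * x * r⁻¹ * x⁻¹ = e := by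
  have h1 : r * x * r⁻¹ * x⁻¹ = 1 ∨ r * x * r⁻¹ * x⁻¹ = c ∨ r * x * r⁻¹ * x⁻¹ = e ∨ r * x * r⁻¹ * x⁻¹ = c * e := by
    rcases H.F.RE _ hrR _ hxE with h | h
    · rw [← map_inv, ← map_inv, ← map_mul, ← map_mul, ← map_mul, H.hd.ker] at h
      rcases h with h | h
      · exact Or.inl h
      · exact Or.inr (Or.inl h)
    · rw [← map_inv, ← map_inv, ← map_mul, ← map_mul, ← map_mul, ← H.pe] at h
      rcases eq_or H.hd h with h | h
      · exact Or.inr (Or.inr (Or.inl h))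
      · exact Or.inr (Or.inr (Or.inr h))
  have hre := H.N_e hr
  have hxc : ∀ s : L, (∀ y, s * y = y * s) → ∀ x, r * (s * x) * r⁻¹ * (s * x)⁻¹ = r * x * r⁻¹ * x⁻¹ := by
    intro s hs x
    calc r * (s * x) * r⁻¹ * (s * x)⁻¹ = (r * s) * x * r⁻¹ * x⁻¹ * s⁻¹ := by group
      _ = (s * (r * x * r⁻¹ * x⁻¹)) * s⁻¹ := by rw [← hs r]; group
      _ = r * x * r⁻¹ * x⁻¹ := by rw [hs]; group
  rcases H.F.cl _ hxE with h2 | h2 | ⟨g, hg, h2⟩
  · left
    rcases (H.hd.ker x).1 h2 with rfl | rfl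
    · group
    · rw [← H.hd.cen]; group
  · left
    rw [← H.pe] at h2
    rcases eq_or H.hd h2 with rfl | rfl
    · rw [hre]; group
    · rw [hxc c H.hd.cen, hre]; group
  · obtain ⟨k, hk, rfl⟩ := H.exists_N hg
    have h3 : π x = π (k * a' * k⁻¹) := by rw [map_mul, map_mul, map_inv, H.pa, h2]
    have h4 : ∃ y, y = k * a' * k⁻¹ ∧ r * x * r⁻¹ * x⁻¹ = r * y * r⁻¹ * y⁻¹ := by
      rcases eq_or H.hd h3 with h | h
      · exact ⟨_, rfl, by rw [h]⟩
      · exact ⟨_, rfl, by rw [h, hxc c H.hd.cen]⟩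
    obtain ⟨y, hy, hxy⟩ := h4
    rw [hxy] at h1 ⊢
    have ey : IsConj e y := H.ea.trans (isConj_iff.2 ⟨k, hy.symm⟩)
    have eye : IsConj e (y * e) := by
      refine H.eae.trans (isConj_iff.2 ⟨k, ?_⟩)
      rw [hy]
      have hke := H.N_e hk
      calc k * (a' * e) * k⁻¹ = k * a' * (e * k⁻¹) := by group
        _ = k * a' * (k⁻¹ * (k * e) * k⁻¹) := by group
        _ = k * a' * (k⁻¹ * (e * k) * k⁻¹) := by rw [hke]
        _ = _ := by group
    rcases h1 with h | h | h | h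
    · exact Or.inl h
    · exfalso
      have h5 : r * y * r⁻¹ = c * y := mul_inv_eq_iff_eq_mul.1 h
      refine H.not_conj' (x := y) (y := c * y) ey ?_ (isConj_iff.2 ⟨r, h5⟩)
      rw [← mul_assoc, H.cc, one_mul]
      exact ey
    · exact Or.inr h
    · exfalso
      have h5 : r * y * r⁻¹ = c * e * y := mul_inv_eq_iff_eq_mul.1 h
      have hey : e * y = y * e := by
        have := H.N_e hk
        have h6 : a' * e = e * a' := by
          -- both `a'` and `a' e` are involutions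
          have h7 : a' * a' = 1 := by
            obtain ⟨g, hg⟩ := isConj_iff.1 H.ea
            rw [← hg]
            calc g * e * g⁻¹ * (g * e * g⁻¹) = g * (e * e) * g⁻¹ := by group
              _ = 1 := by rw [H.ee]; group
          have h8 : a' * e * (a' * e) = 1 := by
            obtain ⟨g, hg⟩ := isConj_iff.1 H.eae
            rw [← hg]
            calc g * e * g⁻¹ * (g * e * g⁻¹) = g * (e * e) * g⁻¹ := by group
              _ = 1 := by rw [H.ee]; group
          calc a' * e = (a' * e)⁻¹ := (inv_eq_of_mul_eq_one_left h8).symm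
            _ = e⁻¹ * a'⁻¹ := by group
            _ = e * a' := by rw [inv_eq_of_mul_eq_one_left h7, inv_eq_of_mul_eq_one_left H.ee]
        rw [hy]
        calc e * (k * a' * k⁻¹) = (e * k) * a' * k⁻¹ := by group
          _ = (k * e) * a' * k⁻¹ := by rw [this]
          _ = k * (e * a') * k⁻¹ := by group
          _ = k * (a' * e) * k⁻¹ := by rw [h6]
          _ = k * a' * (k⁻¹ * (k * e)) * k⁻¹ := by group
          _ = k * a' * (k⁻¹ * (e * k)) * k⁻¹ := by rw [this]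
          _ = _ := by group
      refine H.not_conj' (x := y) (y := c * e * y) ey ?_ (isConj_iff.2 ⟨r, h5⟩)
      rw [← mul_assoc, ← mul_assoc, H.cc, one_mul, hey]
      exact eye

theorem gam_le (H : LC π c e a' z a P1 R E) {Q : Subgroup L} (hQN : Q ≤ N π z) (hQR : ∀ q ∈ Q, π q ∈ R) :
    ∀ x ∈ ⁅⁅Q, Q⁆, Q⁆, x = 1 ∨ x = e := by
  have h1 : ⁅⁅Q, Q⁆, Q⁆ ≤ zpowers e := by
    rw [commutator_le]
    intro x hx q hq
    have hxE : π x ∈ E := by
      have h2 : ⁅Q, Q⁆ ≤ E.comap π := by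
        rw [commutator_le]
        intro a ha b hb
        show π ⁅a, b⁆ ∈ E
        rw [map_commutatorElement]
        exact H.F.RR (commutator_mem_commutator (hQR a ha) (hQR b hb))
      exact h2 hx
    have h3 := key H (hQN hq) (hQR q hq) hxE
    have h4 : ⁅x, q⁆ = (q * x * q⁻¹ * x⁻¹)⁻¹ := by rw [commutatorElement_def]; group
    rw [h4]
    rcases h3 with h3 | h3
    · rw [h3, inv_one]; exact one_mem _
    · rw [h3]; exact inv_mem (mem_zpowers e)
  intro x hx
  obtain ⟨k, rfl⟩ := mem_zpowers_iff.1 (h1 hx)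
  have h2 : e ^ (2 : ℤ) = 1 := by rw [zpow_ofNat, pow_two, H.ee]
  rcases Int.even_or_odd' k with ⟨j, rfl | rfl⟩
  · left; rw [zpow_mul, h2, one_zpow]
  · right; rw [zpow_add_one, zpow_mul, h2, one_zpow, one_mul]

/-- normal 2-subgroups of `N` are over `R` -/
theorem over_R (H : LC π c e a' z a P1 R E) {Q : Subgroup L} (hQN : Q ≤ N π z)
    (hn : ∀ g ∈ N π z, ∀ q ∈ Q, g * q * g⁻¹ ∈ Q) (hp : IsPGroup 2 Q) : ∀ q ∈ Q, π q ∈ R := by
  have h1 : Q.map π ≤ R := by
    refine H.F.R_max _ ?_ (hp.map π) ?_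
    · rintro _ ⟨q, hq, rfl⟩
      exact H.N_le (hQN hq)
    · rintro g hg _ ⟨q, hq, rfl⟩
      obtain ⟨k, hk, rfl⟩ := H.exists_N hg
      exact ⟨k * q * k⁻¹, hn k hk q hq, by rw [map_mul, map_mul, map_inv]⟩
  exact fun q hq => h1 ⟨q, hq, rfl⟩

theorem lab_e (H : LC π c e a' z a P1 R E) : Lab lab (N π z) e := by
  rw [lab_iff]
  refine ⟨fun h => H.z1 (by rw [← H.pe, h, map_one]), R.comap π ⊓ N π z, inf_le_right, ?_, ?_, ?_⟩
  · intro g hg q hq
    refine mem_inf.2 ⟨?_, (N π z).mul_mem ((N π z).mul_mem hg hq.2) ((N π z).inv_mem hg)⟩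
    show π (g * q * g⁻¹) ∈ R
    rw [map_mul, map_mul, map_inv]
    exact H.F.R_nor _ (H.N_le hg) _ hq.1
  · rintro ⟨x, hx, -⟩
    obtain ⟨k, hk⟩ := H.F.R_two ⟨π x, hx⟩
    refine ⟨k + 1, ?_⟩
    apply Subtype.ext
    show x ^ 2 ^ (k + 1) = 1
    have h1 : π (x ^ 2 ^ k) = 1 := by rw [map_pow]; exact congrArg Subtype.val hk
    rw [pow_succ, pow_mul, pow_two]
    rcases (H.hd.ker _).1 h1 with h2 | h2
    · rw [h2, one_mul]
    · rw [h2, H.cc]
  · obtain ⟨r1, h1, r2, h2, r3, h3, h⟩ := H.F.gam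
    obtain ⟨x1, hx1, rfl⟩ := H.exists_N (H.F.R_le h1)
    obtain ⟨x2, hx2, rfl⟩ := H.exists_N (H.F.R_le h2)
    obtain ⟨x3, hx3, rfl⟩ := H.exists_N (H.F.R_le h3)
    have hm : ⁅⁅x1, x2⁆, x3⁆ ∈ ⁅⁅R.comap π ⊓ N π z, R.comap π ⊓ N π z⁆, R.comap π ⊓ N π z⁆ :=
      commutator_mem_commutator (commutator_mem_commutator ⟨h1, hx1⟩ ⟨h2, hx2⟩) ⟨h3, hx3⟩
    rcases gam_le H inf_le_right (fun q hq => hq.1) _ hm with h4 | h4
    · exfalso
      rw [← map_commutatorElement, ← map_commutatorElement, h4, map_one] at h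
      exact H.z1 h.symm
    · rw [← h4]; exact hm

theorem lab_only (H : LC π c e a' z a P1 R E) {x : L} (h : Lab lab (N π z) x) : x = e := by
  rw [lab_iff] at h
  obtain ⟨hx, Q, hQN, hn, hp, hQ⟩ := h
  exact (gam_le H hQN (over_R H hQN hn hp) x hQ).resolve_left hx

/-- conjugates of `PCen` -/
theorem PCen_conj (f g : L) : PCen (g * f * g⁻¹) = (PCen f).map (MulAut.conj g).toMonoidHom := by
  show PC _ = (PC _).map _
  rw [PC_map_conj]
  congr 1
  ext x
  rw [mem_map_equiv, mem_centralizer_singleton_iff, mem_centralizer_singleton_iff]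
  show _ ↔ g⁻¹ * x * g * f = f * (g⁻¹ * x * g)
  constructor
  · intro h
    calc g⁻¹ * x * g * f = g⁻¹ * (x * (g * f * g⁻¹)) * g := by group
      _ = g⁻¹ * (g * f * g⁻¹ * x) * g := by rw [h]
      _ = _ := by group
  · intro h
    calc x * (g * f * g⁻¹) = g * (g⁻¹ * x * g * f) * g⁻¹ := by group
      _ = g * (f * (g⁻¹ * x * g)) * g⁻¹ := by rw [h]
      _ = _ := by group

theorem Lab_conj (f g x : L) : Lab lab (PCen (g * f * g⁻¹)) (g * x * g⁻¹) ↔ Lab lab (PCen f) x := by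
  rw [PCen_conj]
  exact lab_map_iff isoInv (MulAut.conj g).toMonoidHom (MulAut.conj g).injective

/-- the labels of the conjugates of `e` and of `ec` -/
theorem lab_ce (H : LC π c e a' z a P1 R E) {f : L} (h : IsConj e f) (x : L) : Lab lab (PCen f) x ↔ x = f := by
  obtain ⟨g, rfl⟩ := isConj_iff.1 h
  have h1 : x = g * (g⁻¹ * x * g) * g⁻¹ := by group
  rw [h1, Lab_conj, H.PCen_e]
  constructor
  · intro h2
    rw [lab_only H h2]
  · intro h2
    have h3 : g⁻¹ * x * g = e := by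
      have := mul_right_cancel h2
      exact mul_left_cancel this
    rw [h3]
    exact lab_e H

theorem lab_cec (H : LC π c e a' z a P1 R E) {f : L} (h : IsConj (e * c) f) (x : L) :
    Lab lab (PCen f) x ↔ x = f * c := by
  obtain ⟨g, rfl⟩ := isConj_iff.1 h
  have h1 : x = g * (g⁻¹ * x * g) * g⁻¹ := by group
  have h4 : g * (e * c) * g⁻¹ * c = g * e * g⁻¹ := by
    calc g * (e * c) * g⁻¹ * c = g * e * (c * g⁻¹) * c := by group
      _ = g * e * (g⁻¹ * c) * c := by rw [H.hd.cen]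
      _ = g * e * g⁻¹ * (c * c) := by group
      _ = _ := by rw [H.cc, mul_one]
  rw [h4, h1, Lab_conj, H.PCen_ec]
  constructor
  · intro h2
    rw [lab_only H h2]
  · intro h2
    have h3 : g⁻¹ * x * g = e := by
      have := mul_right_cancel h2
      exact mul_left_cancel this
    rw [h3]
    exact lab_e H

/-- the involutions over the class of `z` -/
theorem cases (H : LC π c e a' z a P1 R E) {f : L} (h : IsConj z (π f)) : IsConj e f ∨ IsConj (e * c) f := by
  obtain ⟨g, hg⟩ := isConj_iff.1 h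
  obtain ⟨k, rfl⟩ := H.hd.surj g
  have h1 : π f = π (k * e * k⁻¹) := by rw [map_mul, map_mul, map_inv, H.pe, hg]
  rcases eq_or H.hd h1 with h2 | h2
  · left; exact isConj_iff.2 ⟨k, h2.symm⟩
  · right
    refine isConj_iff.2 ⟨k, ?_⟩
    rw [h2]
    calc k * (e * c) * k⁻¹ = k * e * (c * k⁻¹) := by group
      _ = k * e * (k⁻¹ * c) := by rw [H.hd.cen]
      _ = k * e * k⁻¹ * c := by group
      _ = _ := (H.hd.cen _).symm

theorem mem_ce [Finite L] (H : LC π c e a' z a P1 R E) {f : L} (h : IsConj z (π f)) : c ∈ PCen f := by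
  have hg : ∀ g : L, g * c * g⁻¹ = c := fun g => by rw [← H.hd.cen, mul_inv_cancel_right]
  rcases cases H h with h | h <;> obtain ⟨g, rfl⟩ := isConj_iff.1 h
  · rw [PCen_conj, H.PCen_e]
    exact ⟨c, H.c_mem, hg g⟩
  · rw [PCen_conj, H.PCen_ec]
    exact ⟨c, H.c_mem, hg g⟩

/-- **all K-facts of `2.Ru`** -/
theorem kfacts [Finite L] (H : LC π c e a' z a P1 R E) (cen : ∀ x : L, (∀ y, x * y = y * x) ↔ x = 1 ∨ x = c)
    (inn : ∀ φ : MulAut L, φ ∈ Inn L) (inv : ∀ f : L, InvL c f → IsConj z (π f))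
    (pf : ∃ g0 g1 : L, IsConj e g0 ∧ IsConj e g1 ∧ IsConj e (g0 * g1 * c) ∧ g0 * g1 = g1 * g0)
    (sq : ∀ v k : L, v * v = c → (∀ y ∈ PCen v, k * y = y * k) → k * k = 1 ∨ k * k = c) : KFacts lab L c := by
  have hc1 := H.hd.ne
  have invc : ∀ {f : L}, IsConj (e * c) f → f * f = 1 ∧ f ≠ 1 ∧ f ≠ c := by
    intro f hf
    obtain ⟨g, rfl⟩ := isConj_iff.1 hf
    refine ⟨?_, ?_, ?_⟩
    · calc g * (e * c) * g⁻¹ * (g * (e * c) * g⁻¹) = g * (e * (c * e) * c) * g⁻¹ := by group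
        _ = g * (e * (e * c) * c) * g⁻¹ := by rw [H.hd.cen]
        _ = g * ((e * e) * (c * c)) * g⁻¹ := by group
        _ = 1 := by rw [H.ee, H.cc]; group
    · intro h
      exact ne_ec H (conj_eq_one_iff.1 h)
    · intro h
      have h2 : g * (e * c) * g⁻¹ = g * c * g⁻¹ := by rw [h, ← H.hd.cen g, mul_inv_cancel_right]
      have h3 := mul_left_cancel (mul_right_cancel h2)
      have h4 := congrArg π (mul_eq_right.1 h3)
      rw [H.pe, map_one] at h4
      exact H.z1 h4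
  have e1 : e ≠ 1 := fun h => H.z1 (by rw [← H.pe, h, map_one])
  refine
    { cc := H.cc
      c1 := hc1
      cen := cen
      inn := inn
      mem := fun f hf => mem_ce H (inv f hf)
      lab_or := ?_
      lab_not := ?_
      lab_c := ?_
      conj := ?_
      pf := ?_
      sq := sq }
  · intro f hf
    rcases cases H (inv f hf) with h | h
    · left; rw [lab_ce H h]
    · right; rw [lab_cec H h]
  · intro f hf h1 h2
    rcases cases H (inv f hf) with h | h
    · rw [lab_ce H h] at h2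
      exact hc1 (mul_eq_left.1 h2)
    · rw [lab_cec H h] at h1
      exact hc1 (mul_eq_left.1 h1.symm)
  · intro f hf h1
    rcases cases H (inv f hf) with h | h
    · rw [lab_ce H h] at h1
      exact hf.nec h1.symm
    · rw [lab_cec H h] at h1
      exact hf.ne (mul_eq_right.1 h1.symm)
  · intro f w hf hw h1 h2
    have key : ∀ f, InvL c f → Lab lab (PCen f) (f * c) → IsConj (e * c) f := by
      intro f hf h1
      rcases cases H (inv f hf) with h | h
      · rw [lab_ce H h] at h1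
        exact absurd (mul_eq_left.1 h1) hc1
      · exact h
    exact isConj_iff.1 ((key f hf h1).symm.trans (key w hw h2))
  · obtain ⟨g0, g1, h0, h1, h01, hcom⟩ := pf
    have cj : ∀ {x : L}, IsConj e x → IsConj (e * c) (x * c) := by
      intro x hx
      obtain ⟨g, rfl⟩ := isConj_iff.1 hx
      refine isConj_iff.2 ⟨g, ?_⟩
      calc g * (e * c) * g⁻¹ = g * e * (c * g⁻¹) := by group
        _ = g * e * (g⁻¹ * c) := by rw [H.hd.cen]
        _ = _ := by group
    have k0 := cj h0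
    have k1 := cj h1
    have k2 := cj h01
    have e2 : g0 * c * (g1 * c) = g0 * g1 := by
      calc g0 * c * (g1 * c) = g0 * (c * g1) * c := by group
        _ = g0 * (g1 * c) * c := by rw [H.hd.cen]
        _ = g0 * g1 * (c * c) := by group
        _ = _ := by rw [H.cc, mul_one]
    have e3 : g0 * g1 * c * c = g0 * g1 := by rw [mul_assoc, H.cc, mul_one]
    have e4 : g1 * c * (g0 * c) = g0 * g1 := by
      calc g1 * c * (g0 * c) = g1 * (c * g0) * c := by group
        _ = g1 * (g0 * c) * c := by rw [H.hd.cen]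
        _ = g1 * g0 * (c * c) := by group
        _ = _ := by rw [H.cc, mul_one, hcom]
    rw [e3] at k2
    refine ⟨g0 * c, g1 * c, ⟨(invc k0).1, (invc k0).2.1, (invc k0).2.2⟩,
      ⟨(invc k1).1, (invc k1).2.1, (invc k1).2.2⟩, ?_, ?_, ?_, ?_, ?_, ?_⟩
    · rw [e2]
      exact ⟨(invc k2).1, (invc k2).2.1, (invc k2).2.2⟩
    · rw [e2, e4]
    · intro h
      have h5 : g0 * g1 = 1 := by
        rw [← e2, ← h]; exact (invc k0).1
      exact (invc k2).2.1 h5
    · rw [lab_cec H k0]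
    · rw [lab_cec H k1]
    · rw [e2, lab_cec H k2]

end

end Cfsg.Agent.OddHalf.D9.Ru.XLab
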