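import Cfsg.Agent.OddHalf.D9.Ru.Asm
import Cfsg.Agent.OddHalf.D9.Ru.XLab
import Cfsg.Agent.OddHalf.D9.Ru.Words

/-!
# D9, row `2.Ru`: the K-side

`ks`: all facts of `Asm.KS` for a perfect double cover of the Rudvalis group, from the facts `XF` on the centraliser
of `S²` in the Rudvalis group, the bounds of `RuD` on the order and on the index.
-/

set_option autoImplicit false

namespace Cfsg.Agent.OddHalf.D9.Ru.KFin

open Subgroup Cfsg.Agent.KFacts.MulTwo Cfsg.Agent.KFacts.MulDef Cfsg.Agent.OddHalf.D9.Ru.XLevel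
open Cfsg.Agent.OddHalf.D9.Ru.Label Cfsg.Agent.OddHalf.D9.Ru.Base Cfsg.Agent.SporadicB Cfsg.Agent.RuD.Letters
open Cfsg.Agent.OddHalf.D9.Ru.Kill Cfsg.Agent.OddHalf.D9.Ru.XF Cfsg.Agent.OddHalf.D9.Ru.XLab
open Cfsg.Agent.OddHalf.D9.Ru.Asm Cfsg.Agent.KFacts.MulRu.Main Cfsg.Agent.KFacts.MulRu.Sign
open Cfsg.Agent.SporRec.TCUpperCert

universe u

theorem ltr : Ltr T S W F D Y where
  toRuRelsX := Cfsg.Agent.RuD.Model.relsX_model
  gen := Cfsg.Agent.RuD.Model.closure_model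
  card := RuOrder.card_H

/-- `e (f e f⁻¹) = f³ e f⁻³` in `Ru` -/
theorem delta_X : (S * S) * (F * (S * S) * F⁻¹) * (F * F * F * (S * S) * F⁻¹ * F⁻¹ * F⁻¹)⁻¹ = 1 := by
  have h := E01
  unfold E at h
  rw [mul_inv_eq_one]
  calc (S * S) * (F * (S * S) * F⁻¹) = F ^ 0 * (S * S) * (F ^ 0)⁻¹ * (F ^ 1 * (S * S) * (F ^ 1)⁻¹) := by group
    _ = F ^ 3 * (S * S) * (F ^ 3)⁻¹ := h
    _ = _ := by
      have e : F ^ 3 = F * F * F := by rw [pow_succ, pow_two]
      rw [e]; group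

section zero

variable {L : Type} [Group L] [Finite L] {π : L →* RuOrder.H} {c : L}

theorem sq_t0 (B : Bound.{0}) (I : Idx.{0}) (hd : Dbl π c) {x : L} (hx : π x = T) : x * x = c := sq_t B I ltr hd hx

theorem delta_L (I : Idx.{0}) (hd : Dbl π c) {s f : L} (hs : π s = S) (hf : π f = F) (hf7 : f ^ 7 = 1) :
    (s * s) * (f * (s * s) * f⁻¹) = f * f * f * (s * s) * f⁻¹ * f⁻¹ * f⁻¹ :=
  Words.delta0 I ltr hd delta_X hs hf hf7

end zero

section any

variable {L : Type u} [Group L] [Finite L] {π : L →* RuOrder.H} {c : L}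

theorem sq_tu (B : Bound.{0}) (I : Idx.{0}) (hd : Dbl π c) {x : L} (hx : π x = T) : x * x = c := by
  have : Small.{0} L := by
    obtain ⟨n, ⟨e⟩⟩ := Finite.exists_equiv_fin L
    exact small_map e
  let e : L ≃* Shrink.{0} L := (Shrink.mulEquiv (α := L)).symm
  have : Finite (Shrink.{0} L) := Finite.of_equiv L e.toEquiv
  have h1 := sq_t0 B I (hd.of_equiv e (MulEquiv.refl RuOrder.H)) (x := e x) (by
    show π (e.symm (e x)) = T
    rw [e.symm_apply_apply, hx])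
  rw [← map_mul] at h1
  exact e.injective h1

theorem delta_u (I : Idx.{0}) (hd : Dbl π c) {s f : L} (hs : π s = S) (hf : π f = F) (hf7 : f ^ 7 = 1) :
    (s * s) * (f * (s * s) * f⁻¹) = f * f * f * (s * s) * f⁻¹ * f⁻¹ * f⁻¹ := by
  have : Small.{0} L := by
    obtain ⟨n, ⟨e⟩⟩ := Finite.exists_equiv_fin L
    exact small_map e
  let e : L ≃* Shrink.{0} L := (Shrink.mulEquiv (α := L)).symm
  have : Finite (Shrink.{0} L) := Finite.of_equiv L e.toEquiv
  have h1 := delta_L I (hd.of_equiv e (MulEquiv.refl RuOrder.H)) (s := e s) (f := e f) (by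
    show π (e.symm (e s)) = S
    rw [e.symm_apply_apply, hs]) (by
    show π (e.symm (e f)) = F
    rw [e.symm_apply_apply, hf]) (by rw [← map_pow, hf7, map_one])
  simp only [← map_mul, ← map_inv] at h1
  exact e.injective h1

/-- the setting -/
theorem lc (I : Idx.{0}) (hd : Dbl π c) {P1 R E : Subgroup RuOrder.H}
    (hF : XF (S * S) (F * (S * S) * F⁻¹) P1 R E) {s f : L} (hs : π s = S) (hf : π f = F) (hf7 : f ^ 7 = 1) :
    LC π c (s * s) (f * (s * s) * f⁻¹) (S * S) (F * (S * S) * F⁻¹) P1 R E := by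
  have pe : π (s * s) = S * S := by rw [map_mul, hs]
  have ee : s * s * (s * s) = 1 := sq_A hd (by rw [pe])
  have hdel := delta_u I hd hs hf hf7
  have hc3 : IsConj (s * s) ((s * s) * (f * (s * s) * f⁻¹)) := by
    rw [hdel]
    exact isConj_iff.2 ⟨f * f * f, by group⟩
  refine ⟨hd, hF, ee, pe, SS_ne, by simp only [map_mul, map_inv, hs, hf], isConj_iff.2 ⟨f, rfl⟩, ?_, fun x hx => sq_A hd hx⟩
  have h1 : (s * s) * (f * (s * s) * f⁻¹) * ((s * s) * (f * (s * s) * f⁻¹)) = 1 := by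
    obtain ⟨g, hg⟩ := isConj_iff.1 hc3
    rw [← hg]
    calc g * (s * s) * g⁻¹ * (g * (s * s) * g⁻¹) = g * (s * s * (s * s)) * g⁻¹ := by group
      _ = 1 := by rw [ee]; group
  have h2 : (f * (s * s) * f⁻¹) * (f * (s * s) * f⁻¹) = 1 := by
    calc f * (s * s) * f⁻¹ * (f * (s * s) * f⁻¹) = f * (s * s * (s * s)) * f⁻¹ := by group
      _ = 1 := by rw [ee]; group
  have h3 : (f * (s * s) * f⁻¹) * (s * s) = (s * s) * (f * (s * s) * f⁻¹) := by
    calc (f * (s * s) * f⁻¹) * (s * s) = (f * (s * s) * f⁻¹)⁻¹ * (s * s)⁻¹ := by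
          rw [inv_eq_of_mul_eq_one_left h2, inv_eq_of_mul_eq_one_left ee]
      _ = ((s * s) * (f * (s * s) * f⁻¹))⁻¹ := by group
      _ = _ := inv_eq_of_mul_eq_one_left h1
  rw [h3]
  exact hc3

/-- the three commuting conjugates of `e` with product `c` -/
theorem tri (B : Bound.{0}) (I : Idx.{0}) (hd : Dbl π c) {s f : L} (hs : π s = S) (hf : π f = F) :
    ∃ g0 g1 g2 : L, IsConj (s * s) g0 ∧ IsConj (s * s) g1 ∧ IsConj (s * s) g2 ∧ g0 * g1 = g1 * g0 ∧
      g0 * g1 * g2 = c := by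
  have hR := ltr.toRuRels
  have hTi : T⁻¹ = T := inv_eq_of_mul_eq_one_left hR.t2
  have hYi : Y⁻¹ = Y := inv_eq_of_mul_eq_one_left hR.y2
  obtain ⟨y, hy⟩ := hd.surj Y
  have pe : π (s * s) = S * S := by rw [map_mul, hs]
  have ee : s * s * (s * s) = 1 := sq_A hd (by rw [pe])
  have hc1 : ∀ g : L, g * c * g⁻¹ = c := fun g => by rw [← hd.cen, mul_inv_cancel_right]
  -- `y² = c`
  have hY : (T * Y) * T * (T * Y)⁻¹ = Y := by
    calc (T * Y) * T * (T * Y)⁻¹ = (T * Y * T * Y * T * Y) * (Y⁻¹ * T⁻¹ * Y⁻¹ * Y⁻¹ * T⁻¹) := by group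
      _ = Y⁻¹ * (T⁻¹ * (Y⁻¹ * Y⁻¹) * T⁻¹) := by rw [hR.ty]; group
      _ = Y * (T * (Y * Y) * T) := by rw [hYi, hTi]
      _ = Y := by rw [hR.y2, mul_one, hR.t2, mul_one]
  have hyy : y * y = c := by
    obtain ⟨k, hk⟩ := hd.surj (T * Y)
    have h1 := sq_tu B I hd (x := k⁻¹ * y * k) (by
      rw [map_mul, map_mul, map_inv, hk, hy]
      calc (T * Y)⁻¹ * Y * (T * Y) = (T * Y)⁻¹ * ((T * Y) * T * (T * Y)⁻¹) * (T * Y) := by rw [hY]
        _ = T := by group)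
    calc y * y = k * (k⁻¹ * y * k * (k⁻¹ * y * k)) * k⁻¹ := by group
      _ = c := by rw [h1, hc1]
  set x := f * s * f⁻¹ with hx
  have hx2 : x * x = f * (s * s) * f⁻¹ := by rw [hx]; group
  have hx4 : x * x * (x * x) = 1 := by
    rw [hx2]
    calc f * (s * s) * f⁻¹ * (f * (s * s) * f⁻¹) = f * (s * s * (s * s)) * f⁻¹ := by group
      _ = 1 := by rw [ee]; group
  -- `k = (x y)³` is `e` or `c e`
  obtain ⟨k, hk⟩ : ∃ k, x * y * (x * y) * (x * y) = k := ⟨_, rfl⟩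
  have hkp : π k = π (s * s) := by
    rw [← hk, hx, pe]
    simp only [map_mul, map_inv, hs, hf, hy]
    have h1 := hR.last
    have h2 : S * S * (S * S) = 1 := by rw [← mul_assoc]; exact hR.s4
    calc F * S * F⁻¹ * Y * (F * S * F⁻¹ * Y) * (F * S * F⁻¹ * Y) =
        (F * S * F⁻¹ * Y * F * S * F⁻¹ * Y * F * S * F⁻¹ * Y * S * S) * (S * S)⁻¹ := by group
      _ = S * S := by rw [h1, one_mul, inv_eq_of_mul_eq_one_left h2]
  have hke : k = s * s ∨ k = c * (s * s) := Inn.eq_or hd hkp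
  have hys : y * (s * s) = s * s * y := by
    have h1 : π (y * s * y⁻¹) = π s := by
      rw [map_mul, map_mul, map_inv, hy, hs]
      calc Y * S * Y⁻¹ = (Y * S * Y * S⁻¹) * S := by rw [hYi]; group
        _ = S := by rw [hR.ys, one_mul]
    have h2 : y * s * y⁻¹ * (y * s * y⁻¹) = s * s := Cfsg.Agent.KFacts.MulSpor.Class.sq_eq_of_pi hd h1
    calc y * (s * s) = (y * s * y⁻¹ * (y * s * y⁻¹)) * y := by group
      _ = _ := by rw [h2]
  have hky : k * y = y * k := by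
    rcases hke with rfl | rfl
    · exact hys.symm
    · calc c * (s * s) * y = c * (y * (s * s)) := by rw [hys]; group
        _ = (c * y) * (s * s) := by group
        _ = _ := by rw [hd.cen]; group
  have hkk : k * k = 1 := by
    rcases hke with rfl | rfl
    · exact ee
    · calc c * (s * s) * (c * (s * s)) = c * (s * s * c) * (s * s) := by group
        _ = c * (c * (s * s)) * (s * s) := by rw [← hd.cen (s * s)]
        _ = (c * c) * (s * s * (s * s)) := by group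
        _ = 1 := by rw [hd.sq, ee, one_mul]
  have hkx : k * x = x * k := by
    have h1 : k * (x * y) = x * y * k := by rw [← hk]; group
    calc k * x = k * (x * y) * y⁻¹ := by group
      _ = x * (y * k) * y⁻¹ := by rw [h1]; group
      _ = x * (k * y) * y⁻¹ := by rw [hky]
      _ = _ := by group
  have h3 := Words.three hd.cen hd.sq hyy hk hkx hky hkk hx4
  have cj0 : IsConj (s * s) (x * x) := by rw [hx2]; exact isConj_iff.2 ⟨f, rfl⟩
  have cj2 : IsConj (s * s) (y⁻¹ * (x * x) * y) := cj0.trans (isConj_iff.2 ⟨y⁻¹, by group⟩)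
  have cj1 : IsConj (s * s) (x * (y⁻¹ * (x * x) * y) * x⁻¹) := cj2.trans (isConj_iff.2 ⟨x, rfl⟩)
  have inv : ∀ g : L, IsConj (s * s) g → g * g = 1 := by
    intro g hg
    obtain ⟨k, rfl⟩ := isConj_iff.1 hg
    calc k * (s * s) * k⁻¹ * (k * (s * s) * k⁻¹) = k * (s * s * (s * s)) * k⁻¹ := by group
      _ = 1 := by rw [ee]; group
  obtain ⟨g0, h0⟩ : ∃ g, g = x * x := ⟨_, rfl⟩
  obtain ⟨g2, h2⟩ : ∃ g, g = y⁻¹ * (x * x) * y := ⟨_, rfl⟩
  obtain ⟨g1, h1⟩ : ∃ g, g = x * (y⁻¹ * (x * x) * y) * x⁻¹ := ⟨_, rfl⟩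
  rw [← h1, ← h0] at h3
  rw [h0, ← h2] at h3
  rw [← h0] at cj0 h3
  rw [← h2] at cj2
  rw [← h1] at cj1
  have i0 := inv _ cj0
  have i1 := inv _ cj1
  have i2 := inv _ cj2
  have h4 : g0 * g1 * (g0 * g1) = 1 := by
    rw [← h3] at i2
    calc g0 * g1 * (g0 * g1) = g0 * g1 * (g0 * g1) * (c * c) := by rw [hd.sq, mul_one]
      _ = g0 * g1 * ((g0 * g1) * c) * c := by group
      _ = g0 * g1 * (c * (g0 * g1)) * c := by rw [hd.cen]
      _ = g0 * g1 * c * (g0 * g1 * c) := by group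
      _ = 1 := i2
  refine ⟨g0, g1, g2, cj0, cj1, cj2, ?_, ?_⟩
  · calc g0 * g1 = (g0 * g1)⁻¹ := (inv_eq_of_mul_eq_one_left h4).symm
      _ = g1⁻¹ * g0⁻¹ := by group
      _ = g1 * g0 := by rw [inv_eq_of_mul_eq_one_left i0, inv_eq_of_mul_eq_one_left i1]
  · rw [← h3]
    calc g0 * g1 * (g0 * g1 * c) = g0 * g1 * (g0 * g1) * c := by group
      _ = c := by rw [h4, one_mul]

/-- **the facts on an arbitrary perfect double cover of the Rudvalis group** -/
theorem ks (B : Bound.{0}) (I : Idx.{0}) (hxf : ∃ P1 R E, XF (S * S) (F * (S * S) * F⁻¹) P1 R E)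
    (hd : Dbl π c) : ∃ (ℓ : Lbl.{u}) (e : L), IsoInv ℓ ∧ KS ℓ π c e := by
  obtain ⟨P1, R, E, hF⟩ := hxf
  obtain ⟨s, hs⟩ := hd.surj S
  obtain ⟨f, hf, hf7⟩ := odd_lift hd (by decide : Odd 7) (x := F) (by
    rw [← ltr.f7]; simp only [pow_succ, pow_zero, one_mul])
  have H := lc I hd hF hs hf hf7
  refine ⟨lab, s * s, isoInv, ?_⟩
  have h1 := H.PCen_e
  refine ⟨H.pe, ?_, ?_, ?_, ?_, ?_, tri B I hd hs hf⟩
  · rw [h1]; exact H.c_mem
  · rw [h1]; exact lab_e H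
  · rw [h1]
    intro h
    exact hd.ne (mul_eq_left.1 (lab_only H h))
  · rw [h1]
    intro h
    have h2 := lab_only H h
    have h3 := H.pe
    rw [← h2, Inn.pc hd] at h3
    exact SS_ne h3.symm
  · intro t ht h
    rw [sq_tu B I hd ht] at h
    exact hd.ne h

end any

/-- **D9, row `2.Ru`** -/
theorem facts (B : Bound.{0}) (I : Idx.{0}) (hxf : ∃ P1 R E, XF (S * S) (F * (S * S) * F⁻¹) P1 R E) :
    Row.Facts.{u} (fun X _ => Spor.IsoRu X) :=
  facts_of_ks fun _ _ _ _ _ hd => ks B I hxf hd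

theorem row (B : Bound.{0}) (I : Idx.{0}) (hxf : ∃ P1 R E, XF (S * S) (F * (S * S) * F⁻¹) P1 R E) :
    Cut.Row.{u} (fun K _ => Cut.Two (fun X _ => Spor.IsoRu X) K) := Row.row (facts B I hxf)

end Cfsg.Agent.OddHalf.D9.Ru.KFin
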