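import Cfsg.Agent.OddHalf.D9.Ru.XData

/-!
# `2.Ru`: the structure of `P1`, kernel checks of the tables
-/

set_option autoImplicit false
set_option maxRecDepth 100000
set_option exponentiation.threshold 5000

namespace Cfsg.Agent.OddHalf.D9.Ru.XChk

open Cfsg.Agent.Lib Cfsg.Agent.Lib.BitNet Cfsg.Agent.SporadicB Cfsg.Agent.SporadicB.RuData
  Cfsg.Agent.SporadicB.RuOrder
open Cfsg.Agent.RuD.Letters Cfsg.Agent.SporRec.TCUpperCert Cfsg.Agent.SporRec.R3.Kernel
open Cfsg.Agent.OddHalf.D9.Ru.XDef Cfsg.Agent.OddHalf.D9.Ru.XData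

/-- comparison of two words at the base points -/
noncomputable def eqv (u v : List ℕ) : Bool :=
  allL (fun b => Nat.beq (evalK u b) (evalK v b)) [0, 29, 580, 577]

theorem eqv_sound {u v : List ℕ} (h : eqv u v = true) : wprod ml u = wprod ml v := by
  have h1 := (allL_iff _ _).1 h
  apply eq_of_base
  intro b hb
  rw [evalK_eq, evalK_eq]
  simp only [List.mem_cons, List.not_mem_nil, or_false] at hb
  rcases hb with rfl | rfl | rfl | rfl
  · exact Nat.eq_of_beq_eq_true (h1 0 (by simp))
  · exact Nat.eq_of_beq_eq_true (h1 29 (by simp))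
  · exact Nat.eq_of_beq_eq_true (h1 580 (by simp))
  · exact Nat.eq_of_beq_eq_true (h1 577 (by simp))

/-- a letter as a word in the letters of `ml` -/
def ex (a : ℕ) : List ℕ := exT.getD a []

/-- the value of a word in the letters `T, s₁, D, Y, s₁⁻¹, D⁻¹` -/
noncomputable def V (w : List ℕ) : RuOrder.H := wprod ml (w.flatMap ex)

theorem wprod_append (u v : List ℕ) : wprod ml (u ++ v) = wprod ml u * wprod ml v := by
  induction u with
  | nil => exact (one_mul _).symm
  | cons a u ih => rw [List.cons_append, wprod_cons, wprod_cons, ih, mul_assoc]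

theorem V_nil : V [] = 1 := rfl

theorem V_append (u v : List ℕ) : V (u ++ v) = V u * V v := by
  rw [V, List.flatMap_append, wprod_append]; rfl

theorem V_cons (a : ℕ) (v : List ℕ) : V (a :: v) = V [a] * V v := V_append [a] v

theorem V0 : V [0] = T := by
  change wprod ml [0] = _
  rw [wprod_cons]; exact mul_one _
theorem V2 : V [2] = D := by
  change wprod ml [4] = _
  rw [wprod_cons]; exact mul_one _
theorem V3 : V [3] = Y := by
  change wprod ml [5] = _
  rw [wprod_cons]; exact mul_one _
theorem V5 : V [5] = D⁻¹ := by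
  change wprod ml [8] = _
  rw [wprod_cons]; exact mul_one _
theorem V1 : V [1] = S1 := by
  change wprod ml [3, 1, 7] = _
  rw [wprod_cons, wprod_cons, wprod_cons]
  change F * (S * (F⁻¹ * 1)) = F * S * F⁻¹
  group
theorem V4 : V [4] = S1⁻¹ := by
  change wprod ml [3, 6, 7] = _
  rw [wprod_cons, wprod_cons, wprod_cons]
  change F * (S⁻¹ * (F⁻¹ * 1)) = (F * S * F⁻¹)⁻¹
  group

/-- comparison of two words in the letters `T, s₁, D, Y, s₁⁻¹, D⁻¹` -/
noncomputable def eqw (u v : List ℕ) : Bool := eqv (u.flatMap ex) (v.flatMap ex)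

theorem eqw_sound {u v : List ℕ} (h : eqw u v = true) : V u = V v := eqv_sound h

theorem V_mem (w : List ℕ) : V w ∈ P1 := by
  induction w with
  | nil => exact one_mem _
  | cons a w ih =>
    rw [V_cons]
    refine mul_mem ?_ ih
    rcases (by omega : a = 0 ∨ a = 1 ∨ a = 2 ∨ a = 3 ∨ a = 4 ∨ a = 5 ∨ 6 ≤ a) with rfl | rfl | rfl | rfl | rfl | rfl | h
    · rw [V0]; exact T_mem
    · rw [V1]; exact S1_mem
    · rw [V2]; exact D_mem
    · rw [V3]; exact Y_mem
    · rw [V4]; exact inv_mem S1_mem
    · rw [V5]; exact inv_mem D_mem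
    · have : V [a] = 1 := by
        change wprod ml (ex a ++ []) = 1
        rw [ex, List.getD_eq_default _ _ (by exact h)]
        rfl
      rw [this]; exact one_mem _

/-- words in the generators of `R` -/
def gg (l : List ℕ) : List ℕ := l.flatMap fun i => gw.getD i []

/-- the product of the generators with the indices in `l` -/
noncomputable def G (l : List ℕ) : RuOrder.H := V (gg l)

theorem G_nil : G [] = 1 := rfl

theorem G_append (u v : List ℕ) : G (u ++ v) = G u * G v := by
  rw [G, gg, List.flatMap_append, V_append]; rfl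

theorem G_cons (a : ℕ) (v : List ℕ) : G (a :: v) = G [a] * G v := G_append [a] v

/-- all entries are in `[a, b)` -/
def inr (a b : ℕ) (l : List ℕ) : Bool := l.all fun i => Nat.ble a i && Nat.blt i b

theorem inr_iff {a b : ℕ} {l : List ℕ} (h : inr a b l = true) : ∀ i ∈ l, a ≤ i ∧ i < b := by
  intro i hi
  have := List.all_eq_true.1 h i hi
  rw [Bool.and_eq_true, Nat.ble_eq, Nat.blt_eq] at this
  exact this

/-! ### the checks -/

/-- entry of the table of conjugates -/
def ctE (g i : ℕ) : List ℕ := (ct.getD g []).getD i []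

theorem chk_ct : ∀ g < 4, ∀ i < 11, eqw (g :: gg [i]) (gg (ctE g i) ++ [g]) = true := by decide +kernel

theorem rng_ct : ∀ g < 4, ∀ i < 11, inr 0 11 (ctE g i) = true := by decide +kernel

theorem rng_ctE : ∀ g < 4, ∀ i < 5, inr 6 11 (ctE g (i + 6)) = true := by decide +kernel

theorem chk_sq : ∀ i < 6, eqw (gg [i, i]) (gg (sq.getD i [])) = true := by decide +kernel

theorem rng_sq : ∀ i < 6, inr 6 11 (sq.getD i []) = true := by decide +kernel

/-- entry of the table of commutators -/
def cmE (i j : ℕ) : List ℕ := (cm.getD i []).getD j []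

theorem chk_cm : ∀ i < 6, ∀ j < 6, eqw (gg [i, j]) (gg (cmE i j ++ [j, i])) = true := by decide +kernel

theorem rng_cm : ∀ i < 6, ∀ j < 6, inr 6 11 (cmE i j) = true := by decide +kernel

theorem chk_ab : ∀ i < 5, ∀ j < 5, eqw (gg [i + 6, j + 6]) (gg [j + 6, i + 6]) = true := by decide +kernel

theorem chk_el : ∀ i < 5, eqw (gg [i + 6, i + 6]) [] = true := by decide +kernel

theorem chk_z : eqv ((gg [7, 9, 10]).flatMap ex) [1, 1] = true := by decide +kernel

theorem chk_a : eqv ((gg [6]).flatMap ex) [3, 1, 1, 7] = true := by decide +kernel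

/-- `z` or nothing -/
def zp (k : ℕ) : List ℕ := Nat.rec [] (fun _ _ => [7, 9, 10]) k

theorem chk_rx : ∀ i < 6, ∀ j < 5,
    eqw (gg [i, j + 6]) (gg (zp ((rx.getD i []).getD j 0) ++ [j + 6, i])) = true := by decide +kernel

theorem chk_zc : ∀ g < 4, eqw (g :: gg [7, 9, 10]) (gg [7, 9, 10] ++ [g]) = true := by decide +kernel

/-- the product of the generators of `E` with the exponents given by the bits of `m` -/
def msk (m : ℕ) : List ℕ :=
  (bif Nat.testBit m 0 then [6] else []) ++ ((bif Nat.testBit m 1 then [7] else []) ++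
    ((bif Nat.testBit m 2 then [8] else []) ++ ((bif Nat.testBit m 3 then [9] else []) ++
      (bif Nat.testBit m 4 then [10] else []))))

theorem chk_cl : ∀ m < 32, m = 0 ∨ m = 26 ∨ eqw (cl.getD m [] ++ gg [6]) (gg (msk m) ++ cl.getD m []) = true := by
  decide +kernel

theorem chk_S : eqv ((gg [0, 1, 3, 6, 9, 10]).flatMap ex) [1] = true := by decide +kernel

theorem chk_s1 : eqw [1] (gg [0] ++ [0]) = true := by decide +kernel

theorem chk_gam : eqw (gg [0, 1]) (gg ([6, 7, 9, 10] ++ [1, 0])) = true := by decide +kernel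

/-! ### the group `⟨T, D, Y⟩` -/

theorem chk_nx0 : ∀ i < 60, eqw (0 :: aw.getD i []) (aw.getD (nx0.getD i 0) []) = true := by decide +kernel
theorem chk_nx2 : ∀ i < 60, eqw (2 :: aw.getD i []) (aw.getD (nx2.getD i 0) []) = true := by decide +kernel
theorem chk_nx3 : ∀ i < 60, eqw (3 :: aw.getD i []) (aw.getD (nx3.getD i 0) []) = true := by decide +kernel

theorem rng_nx : ∀ i < 60, nx0.getD i 0 < 60 ∧ nx2.getD i 0 < 60 ∧ nx3.getD i 0 < 60 := by decide +kernel

theorem chk_kd : ∀ i < 60, eqw (aw.getD i [] ++ (aw.getD i [] ++ aw.getD i [])) [] = true ∨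
    eqw (aw.getD i [] ++ (aw.getD i [] ++ (aw.getD i [] ++ (aw.getD i [] ++ aw.getD i [])))) [] = true ∨
      eqw (cj.getD i [] ++ [0]) (aw.getD i [] ++ cj.getD i []) = true := by decide +kernel

end Cfsg.Agent.OddHalf.D9.Ru.XChk
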