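import Cfsg.Agent.OddHalf.D9.Ru.XDef

/-!
# `2.Ru`: the structure of `P1`, tables

Words are written in the letters `0, ..., 5` = `T, s₁, D, Y, s₁⁻¹, D⁻¹`; `gw i` for `i < 6` generate `R` modulo `E`,
`gw i` for `6 ≤ i < 11` generate `E`.
-/

set_option autoImplicit false
set_option maxRecDepth 100000

namespace Cfsg.Agent.OddHalf.D9.Ru.XData

/-- the letters as words in `t, s, w, f, d, y, s⁻¹, f⁻¹, d⁻¹` -/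
def exT : List (List ℕ) := [[0], [3, 1, 7], [4], [5], [3, 6, 7], [8]]

/-- generators of `R` and of `E` -/
def gw : List (List ℕ) := [[1, 0], [2, 1, 0, 5], [3, 1, 0, 3], [5, 1, 0, 2], [3, 2, 1, 0, 5, 3], [0, 3, 2, 1, 0, 5, 3, 0], [1, 1], [2,
  1, 1, 5], [3, 1, 1, 3], [3, 2, 1, 1, 5, 3], [0, 3, 2, 1, 1, 5, 3, 0]]

/-- the conjugate of the generator `i` under the letter `g` -/
def ct : List (List (List ℕ)) := [[[0], [1], [0, 2, 6, 7, 8, 9, 10], [3], [5], [4], [6], [7], [6, 8], [10], [9]], [[0], [1, 6, 7, 9, 10], [0,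
  2, 6, 7, 8, 9, 10], [3, 6, 9, 10], [5, 6, 10], [4, 6, 9], [6], [7], [6, 8], [7, 9], [7, 10]], [[1], [3], [0,
  1, 2, 3, 4, 6, 8, 9], [0], [2], [1, 2, 3, 4, 5, 6, 7, 8, 10], [7], [6, 7], [8, 9], [8], [6, 8, 9, 10]],
  [[2], [4], [0], [0, 1, 2, 3, 4, 6, 8, 9], [1], [5], [8], [9], [6], [7], [10]]]

/-- squares -/
def sq : List (List ℕ) := [[6], [7], [8], [6, 7], [9], [10]]

/-- commutators -/
def cm : List (List (List ℕ)) := [[[], [6, 7, 9, 10], [], [6, 9, 10], [6, 7, 10], [6, 7, 9]], [[6, 7, 9, 10], [], [8, 9, 10], [9, 10], [6, 7,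
  8, 9, 10], [7, 8, 9, 10]], [[], [8, 9, 10], [], [8, 10], [7, 8, 9, 10], [7, 8, 9]], [[6, 9, 10], [9, 10],
  [8, 10], [], [], []], [[6, 7, 10], [6, 7, 8, 9, 10], [7, 8, 9, 10], [], [], [6, 7, 9, 10]], [[6, 7, 9], [7,
  8, 9, 10], [7, 8, 9], [], [6, 7, 9, 10], []]]

/-- `[r i, x j] = z ^ (rx i j)` -/
def rx : List (List ℕ) := [[0, 0, 0, 1, 1], [0, 0, 1, 1, 1], [0, 1, 0, 0, 1], [0, 0, 1, 0, 0], [1, 1, 0, 0, 1], [1, 1, 1, 1, 0]]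

/-- conjugators from `a` to the elements of `E` -/
def cl : List (List ℕ) := [[], [], [2], [5], [3], [0, 3], [5, 1, 2, 3], [2, 1, 3, 2], [3, 2], [1, 5, 0, 3], [1, 3, 2], [5, 0, 3], [2,
  3], [5, 1, 3, 2], [2, 0, 3], [1, 2, 3], [0, 3, 2], [1, 0, 5, 0, 3], [1, 0, 3, 2], [0, 5, 0, 3], [1, 5, 0, 3,
  2], [0, 2, 3], [1, 0, 2, 3], [5, 0, 3, 2], [3, 1, 0, 3, 2], [3, 1, 0, 2, 3], [], [3, 2, 1, 0, 3, 2], [5, 0,
  2, 3], [2, 0, 3, 2], [2, 1, 0, 3, 2], [0, 2, 1, 0, 3, 2]]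

/-- the elements of `⟨T, D, Y⟩` -/
def aw : List (List ℕ) := [[], [0], [2], [3], [5], [2, 0], [3, 0], [5, 0], [0, 2], [3, 2], [0, 3], [2, 3], [0, 5], [0, 2, 0], [3, 2, 0],
  [0, 3, 0], [2, 3, 0], [0, 5, 0], [3, 0, 2], [5, 0, 2], [0, 3, 2], [2, 0, 3], [5, 0, 3], [0, 2, 3], [2, 0,
  5], [3, 0, 5], [3, 0, 2, 0], [0, 3, 2, 0], [2, 0, 3, 0], [5, 0, 3, 0], [0, 2, 3, 0], [3, 0, 5, 0], [0, 3, 0,
  2], [2, 3, 0, 2], [2, 0, 3, 2], [5, 0, 3, 2], [0, 5, 0, 3], [3, 0, 2, 3], [5, 0, 2, 3], [3, 2, 0, 5], [0, 3,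
  0, 2, 0], [2, 0, 3, 2, 0], [5, 0, 3, 2, 0], [0, 5, 0, 3, 0], [3, 0, 2, 3, 0], [5, 0, 2, 3, 0], [2, 0, 3, 0,
  2], [5, 0, 3, 0, 2], [0, 2, 3, 0, 2], [3, 0, 5, 0, 3], [2, 3, 0, 2, 3], [0, 3, 2, 0, 5], [2, 0, 3, 0, 2, 0],
  [5, 0, 3, 0, 2, 0], [3, 0, 5, 0, 3, 0], [2, 3, 0, 2, 3, 0], [0, 5, 0, 3, 0, 2], [5, 0, 2, 3, 0, 2], [0, 2,
  3, 0, 2, 3], [2, 0, 3, 2, 0, 5]]

/-- left multiplication by `T` -/
def nx0 : List ℕ := [1, 0, 8, 10, 12, 13, 15, 17, 2, 20, 3, 23, 4, 5, 27, 6, 30, 7, 32, 24, 9, 35, 36, 11, 19, 37, 40, 14, 42, 43,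
  16, 44, 18, 48, 38, 21, 22, 25, 34, 51, 26, 45, 28, 29, 31, 41, 54, 56, 33, 52, 58, 39, 49, 59, 46, 57, 47,
  55, 50, 53]

/-- left multiplication by `D` -/
def nx2 : List ℕ := [2, 5, 4, 11, 0, 7, 16, 1, 17, 3, 21, 9, 24, 12, 6, 28, 14, 19, 33, 8, 34, 22, 10, 36, 13, 26, 39, 41, 29, 15,
  43, 18, 46, 31, 35, 20, 38, 50, 23, 25, 52, 42, 27, 45, 55, 30, 47, 32, 56, 37, 49, 59, 53, 40, 44, 54, 57,
  48, 51, 58]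

/-- left multiplication by `Y` -/
def nx3 : List ℕ := [3, 6, 9, 0, 11, 14, 1, 16, 18, 2, 15, 4, 25, 26, 5, 10, 7, 31, 8, 33, 32, 29, 28, 37, 39, 12, 13, 40, 22, 21,
  44, 17, 20, 19, 47, 46, 49, 23, 50, 24, 27, 53, 52, 54, 30, 55, 35, 34, 51, 36, 38, 48, 42, 41, 43, 45, 58,
  59, 56, 57]

/-- the orders -/
def kd : List ℕ := [3, 2, 3, 2, 3, 3, 3, 3, 3, 2, 3, 2, 3, 3, 5, 2, 5, 3, 5, 2, 5, 5, 5, 5, 2, 5, 3, 2, 3, 3, 2, 3, 3, 5, 5, 3,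
  3, 3, 5, 5, 5, 5, 5, 5, 5, 5, 3, 2, 5, 3, 2, 5, 2, 5, 2, 5, 5, 2, 5, 2]

/-- conjugators from `T` to the involutions -/
def cj : List (List ℕ) := [[], [], [], [0, 3], [], [], [], [], [], [2, 0, 3], [], [5, 0, 3], [], [], [], [3], [], [], [], [5], [], [],
  [], [], [2], [], [], [5, 0, 3, 2], [], [], [0, 5, 0, 3], [], [], [], [], [], [], [], [], [], [], [], [], [],
  [], [], [], [3, 2], [], [], [2, 3], [], [5, 0, 2, 3], [], [2, 0, 3, 2], [], [], [0, 2, 3], [], [0, 3, 2]]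

end Cfsg.Agent.OddHalf.D9.Ru.XData
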