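import Cfsg.Agent.OddHalf.D9.Ru.Inn
import Cfsg.Agent.OddHalf.D9.Ru.Kill

/-!
# D9, row `2.Ru`: the label, from facts on the centraliser of a 2-central involution of `Ru`

`XF z a P1 R E`: facts on the centraliser of the involution `z` of `X = Ru`: `P1` is its last derived group (of index
at most 2), `R = O_2(P1)`, `E` is elementary abelian of order 32, `a ∈ E`.

In a perfect double cover `π : L → X` with kernel `{1, c}`, for an involution `e` over `z`: `N` is the largest perfect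
subgroup of the preimage of `C(z)`; it contains `c` (transfer), centralises `e`, and `e` is the generator of
`[[O_2(N), O_2(N)], O_2(N)]`.
-/

set_option autoImplicit false
set_option linter.dupNamespace false

namespace Cfsg.Agent.OddHalf.D9.Ru.XF

open Subgroup Cfsg.Agent.KFacts.MulTwo Cfsg.Agent.KFacts.MulDef Cfsg.Agent.OddHalf.D9.M12Glue
  Cfsg.Agent.OddHalf.D9.ExTrick Cfsg.Agent.OddHalf.D9.Ru.Inn Cfsg.Agent.OddHalf.D9.Ru.Label
  Cfsg.Agent.OddHalf.D9.Ru.Kill

open scoped commutatorElement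

universe u

/-- the facts on the centraliser of `z` in `X` -/
structure XF {X : Type*} [Group X] (z a : X) (P1 R E : Subgroup X) : Prop where
  odd : ¬ 2 ∣ (centralizer {z}).index
  P1_le : P1 ≤ centralizer {z}
  P1_perf : ⁅P1, P1⁆ = P1
  cover : ∃ h ∈ centralizer {z}, IsConj z h ∧ IsConj z (h * z) ∧ ∀ x ∈ centralizer {z}, x ∈ P1 ∨ h⁻¹ * x ∈ P1
  R_le : R ≤ P1
  R_nor : ∀ g ∈ P1, ∀ r ∈ R, g * r * g⁻¹ ∈ R
  R_two : IsPGroup 2 R
  R_max : ∀ Q ≤ P1, IsPGroup 2 Q → (∀ g ∈ P1, ∀ q ∈ Q, g * q * g⁻¹ ∈ Q) → Q ≤ R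
  RR : ⁅R, R⁆ ≤ E
  RE : ∀ r ∈ R, ∀ x ∈ E, r * x * r⁻¹ * x⁻¹ = 1 ∨ r * x * r⁻¹ * x⁻¹ = z
  cl : ∀ x ∈ E, x = 1 ∨ x = z ∨ ∃ g ∈ P1, g * a * g⁻¹ = x
  gam : ∃ r1 ∈ R, ∃ r2 ∈ R, ∃ r3 ∈ R, ⁅⁅r1, r2⁆, r3⁆ = z

/-- commutators of elements `u n`, `v m` with `u v = v u` -/
theorem comm_mem {G : Type*} [Group G] {C N : Subgroup G} (nor : ∀ g ∈ C, ∀ n ∈ N, g * n * g⁻¹ ∈ N) {u v n m : G}
    (hu : u ∈ C) (hv : v ∈ C) (uv : u * v = v * u) (hn : n ∈ N) (hm : m ∈ N) : ⁅u * n, v * m⁆ ∈ N := by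
  have h1 : ⁅u * n, v * m⁆ = (u * n * u⁻¹) * ((u * v) * (m * n⁻¹) * (u * v)⁻¹) * (v * m⁻¹ * v⁻¹) := by
    rw [commutatorElement_def]
    calc u * n * (v * m) * (u * n)⁻¹ * (v * m)⁻¹ = (u * n * u⁻¹) * ((u * v) * (m * n⁻¹) * (u * v)⁻¹) *
          ((u * v) * u⁻¹ * m⁻¹ * v⁻¹) := by group
      _ = _ := by rw [uv]; group
  rw [h1]
  exact mul_mem (mul_mem (nor _ hu _ hn) (nor _ (mul_mem hu hv) _ (mul_mem hm (inv_mem hn))))
    (nor _ hv _ (inv_mem hm))

namespace XF

variable {X : Type*} [Group X] {z a : X} {P1 R E : Subgroup X}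

theorem nor (F : XF z a P1 R E) : ∀ g ∈ centralizer {z}, ∀ p ∈ P1, g * p * g⁻¹ ∈ P1 := by
  obtain ⟨h, hh, -, -, hc⟩ := F.cover
  have key : ∀ p ∈ P1, h * p * h⁻¹ ∈ P1 := by
    intro p hp
    rcases hc _ (mul_mem (mul_mem hh (F.P1_le hp)) (inv_mem hh)) with h1 | h1
    · exact h1
    · have h2 : h⁻¹ ∈ P1 := by
        have := mul_mem (inv_mem hp) h1
        have e : p⁻¹ * (h⁻¹ * (h * p * h⁻¹)) = h⁻¹ := by group
        rwa [e] at this
      exact mul_mem (mul_mem ((inv_mem_iff).1 h2) hp) h2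
  intro g hg p hp
  rcases hc g hg with h1 | h1
  · exact mul_mem (mul_mem h1 hp) (inv_mem h1)
  · have e : g * p * g⁻¹ = h * ((h⁻¹ * g) * p * (h⁻¹ * g)⁻¹) * h⁻¹ := by group
    rw [e]
    exact key _ (mul_mem (mul_mem h1 hp) (inv_mem h1))

theorem comm_le (F : XF z a P1 R E) : ⁅centralizer {z}, centralizer {z}⁆ ≤ P1 := by
  obtain ⟨h, hh, -, -, hc⟩ := F.cover
  have key : ∀ x ∈ centralizer {z}, ∃ u, (u = 1 ∨ u = h) ∧ ∃ n ∈ P1, x = u * n := by
    intro x hx
    rcases hc x hx with h1 | h1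
    · exact ⟨1, Or.inl rfl, x, h1, (one_mul x).symm⟩
    · exact ⟨h, Or.inr rfl, _, h1, by group⟩
  rw [commutator_le]
  intro x hx y hy
  obtain ⟨u, hu, n, hn, rfl⟩ := key x hx
  obtain ⟨v, hv, m, hm, rfl⟩ := key y hy
  have hu' : u ∈ centralizer {z} := by rcases hu with rfl | rfl; exacts [one_mem _, hh]
  have hv' : v ∈ centralizer {z} := by rcases hv with rfl | rfl; exacts [one_mem _, hh]
  refine comm_mem F.nor hu' hv' ?_ hn hm
  rcases hu with rfl | rfl <;> rcases hv with rfl | rfl <;> simp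

end XF

/-! ### the double cover -/

/-- the setting -/
structure LC {L X : Type*} [Group L] [Group X] (π : L →* X) (c e a' : L) (z a : X) (P1 R E : Subgroup X) : Prop where
  hd : Dbl π c
  F : XF z a P1 R E
  ee : e * e = 1
  pe : π e = z
  z1 : z ≠ 1
  pa : π a' = a
  ea : IsConj e a'
  eae : IsConj e (a' * e)
  two : ∀ x, IsConj z (π x) → x * x = 1

namespace LC

variable {L X : Type*} [Group L] [Group X] {π : L →* X} {c e a' : L} {z a : X} {P1 R E : Subgroup X}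

/-- the preimage of `C(z)` -/
abbrev Pt (π : L →* X) (z : X) : Subgroup L := (centralizer {z}).comap π

/-- its largest perfect subgroup -/
abbrev N (π : L →* X) (z : X) : Subgroup L := PC (Pt π z)

theorem cs {L X : Type*} [Group L] [Group X] {π : L →* X} {c : L} (hd : Dbl π c) {s : L} (h : s = 1 ∨ s = c) (x : L) :
    s * x = x * s := by
  rcases h with rfl | rfl
  · rw [one_mul, mul_one]
  · exact hd.cen x

theorem N_nor : ∀ g ∈ Pt π z, ∀ n ∈ N π z, g * n * g⁻¹ ∈ N π z := by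
  intro g hg n hn
  have h1 : (Pt π z).map (MulAut.conj g).toMonoidHom = Pt π z := by
    apply le_antisymm
    · rintro _ ⟨x, hx, rfl⟩
      exact mul_mem (mul_mem hg hx) (inv_mem hg)
    · intro x hx
      refine ⟨g⁻¹ * x * g, mul_mem (mul_mem (inv_mem hg) hx) hg, ?_⟩
      show g * (g⁻¹ * x * g) * g⁻¹ = x
      group
  have h2 := PC_map_conj (Pt π z) g
  rw [h1] at h2
  show g * n * g⁻¹ ∈ PC (Pt π z)
  rw [← h2]
  exact ⟨n, hn, rfl⟩

/-- the perfect lift -/
theorem perf_lift (hd : Dbl π c) {A : Subgroup X} (hA : ⁅A, A⁆ = A) :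
    ⁅⁅A.comap π, A.comap π⁆, ⁅A.comap π, A.comap π⁆⁆ = ⁅A.comap π, A.comap π⁆ ∧
      ∀ a ∈ A, ∃ x ∈ ⁅A.comap π, A.comap π⁆, π x = a := by
  have h1 : ∀ a ∈ A, ∃ x ∈ ⁅A.comap π, A.comap π⁆, π x = a := by
    intro a ha
    have h2 : (⁅A.comap π, A.comap π⁆).map π = A := by
      rw [Subgroup.map_commutator, Subgroup.map_comap_eq_self_of_surjective hd.surj, hA]
    have h3 : a ∈ (⁅A.comap π, A.comap π⁆).map π := by rw [h2]; exact ha
    exact h3
  have hle : ⁅A.comap π, A.comap π⁆ ≤ A.comap π := by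
    rw [commutator_le]
    intro a ha b hb
    rw [commutatorElement_def]
    exact mul_mem (mul_mem (mul_mem ha hb) (inv_mem ha)) (inv_mem hb)
  refine ⟨le_antisymm (commutator_mono hle hle) ?_, h1⟩
  rw [commutator_le]
  intro a ha b hb
  obtain ⟨a', ha', ha''⟩ := h1 _ (Subgroup.mem_comap.mp ha)
  obtain ⟨b', hb', hb''⟩ := h1 _ (Subgroup.mem_comap.mp hb)
  have e1 : ∃ u : L, (u = 1 ∨ u = c) ∧ a = u * a' := by
    rcases eq_or hd ha''.symm with h | h
    · exact ⟨1, Or.inl rfl, by rw [one_mul]; exact h⟩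
    · exact ⟨c, Or.inr rfl, h⟩
  have e2 : ∃ u : L, (u = 1 ∨ u = c) ∧ b = u * b' := by
    rcases eq_or hd hb''.symm with h | h
    · exact ⟨1, Or.inl rfl, by rw [one_mul]; exact h⟩
    · exact ⟨c, Or.inr rfl, h⟩
  obtain ⟨u, hu, rfl⟩ := e1
  obtain ⟨v, hv, rfl⟩ := e2
  have h3 : ⁅u * a', v * b'⁆ = ⁅a', b'⁆ := by
    rw [commutatorElement_def, commutatorElement_def]
    have hu' := cs hd hu
    have hv' := cs hd hv
    calc u * a' * (v * b') * (u * a')⁻¹ * (v * b')⁻¹ = (u * (a' * v * b' * a'⁻¹)) * u⁻¹ * b'⁻¹ * v⁻¹ := by group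
      _ = ((a' * v * b' * a'⁻¹) * u) * u⁻¹ * b'⁻¹ * v⁻¹ := by rw [hu']
      _ = a' * (v * (b' * a'⁻¹ * b'⁻¹)) * v⁻¹ := by group
      _ = a' * ((b' * a'⁻¹ * b'⁻¹) * v) * v⁻¹ := by rw [hv']
      _ = _ := by group
  rw [h3]
  exact commutator_mem_commutator ha' hb'

/-- the elements over `P1` are in `N` or `c N` -/
theorem N_surj (H : LC π c e a' z a P1 R E) {x : L} (hx : π x ∈ P1) : x ∈ N π z ∨ c * x ∈ N π z := by
  obtain ⟨h1, h2⟩ := perf_lift H.hd H.F.P1_perf
  obtain ⟨y, hy, hyx⟩ := h2 _ hx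
  have h3 : ⁅P1.comap π, P1.comap π⁆ ≤ Pt π z := by
    rw [commutator_le]
    intro a ha b hb
    rw [commutatorElement_def]
    have ha' : a ∈ Pt π z := H.F.P1_le ha
    have hb' : b ∈ Pt π z := H.F.P1_le hb
    exact mul_mem (mul_mem (mul_mem ha' hb') (inv_mem ha')) (inv_mem hb')
  have h4 : y ∈ N π z := le_PC h3 h1 hy
  rcases eq_or H.hd hyx with h | h
  · left; rwa [← h]
  · right; rwa [← h]

theorem exists_N (H : LC π c e a' z a P1 R E) {p : X} (hp : p ∈ P1) : ∃ x ∈ N π z, π x = p := by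
  obtain ⟨x, rfl⟩ := H.hd.surj p
  rcases H.N_surj hp with h | h
  · exact ⟨x, h, rfl⟩
  · exact ⟨_, h, by rw [map_mul, pc H.hd, one_mul]⟩

theorem N_le (H : LC π c e a' z a P1 R E) {x : L} (hx : x ∈ N π z) : π x ∈ P1 := by
  have h1 : N π z ≤ P1.comap π := by
    have h2 : ⁅N π z, N π z⁆ = N π z := PC_perf _
    rw [← h2, commutator_le]
    intro a ha b hb
    show π ⁅a, b⁆ ∈ P1
    rw [map_commutatorElement]
    exact H.F.comm_le (commutator_mem_commutator (show π a ∈ centralizer {z} from PC_le (Pt π z) ha)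
      (show π b ∈ centralizer {z} from PC_le (Pt π z) hb))
  exact h1 hx

theorem cc (H : LC π c e a' z a P1 R E) : c * c = 1 := H.hd.sq

/-- (MEM) -/
theorem c_mem [Finite L] (H : LC π c e a' z a P1 R E) : c ∈ N π z := by
  obtain ⟨h, hh, -, -, hc⟩ := H.F.cover
  obtain ⟨h', rfl⟩ := H.hd.surj h
  have hcP : c ∈ Pt π z := by
    show π c ∈ centralizer {z}
    rw [pc H.hd]
    exact one_mem _
  have hodd : ¬ 2 ∣ (Pt π z).index := by
    rw [index_comap_of_surjective _ H.hd.surj]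
    exact H.F.odd
  have h1 := H.hd.toCtr.hom_eq_one hcP hodd (Abelianization.of (G := Pt π z))
  have h2 : (⟨c, hcP⟩ : Pt π z) ∈ commutator (Pt π z) := by
    rw [← Abelianization.ker_of]
    exact h1
  have h3 : c ∈ ⁅Pt π z, Pt π z⁆ := by
    have h4 : ((commutator (Pt π z)).map (Pt π z).subtype) = ⁅Pt π z, Pt π z⁆ := by
      rw [_root_.commutator_def, map_commutator, ← MonoidHom.range_eq_map, range_subtype]
    rw [← h4]
    exact ⟨_, h2, rfl⟩
  have key : ∀ x ∈ Pt π z, ∃ u, (u = 1 ∨ u = c) ∧ ∃ v, (v = 1 ∨ v = h') ∧ ∃ n ∈ N π z, x = u * v * n := by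
    intro x hx
    have h5 : ∀ y, π y ∈ P1 → ∃ u, (u = 1 ∨ u = c) ∧ ∃ n ∈ N π z, y = u * n := by
      intro y hy
      rcases H.N_surj hy with h6 | h6
      · exact ⟨1, Or.inl rfl, y, h6, (one_mul y).symm⟩
      · exact ⟨c, Or.inr rfl, _, h6, by rw [← mul_assoc, H.cc, one_mul]⟩
    rcases hc _ hx with h6 | h6
    · obtain ⟨u, hu, n, hn, rfl⟩ := h5 x h6
      exact ⟨u, hu, 1, Or.inl rfl, n, hn, by rw [mul_one]⟩
    · rw [← map_inv, ← map_mul] at h6
      obtain ⟨u, hu, n, hn, hy⟩ := h5 _ h6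
      refine ⟨u, hu, h', Or.inr rfl, n, hn, ?_⟩
      rw [cs H.hd hu, mul_assoc, ← hy]
      group
  have h7 : ⁅Pt π z, Pt π z⁆ ≤ N π z := by
    rw [commutator_le]
    intro x hx y hy
    obtain ⟨u, hu, v, hv, n, hn, rfl⟩ := key x hx
    obtain ⟨u', hu', v', hv', m, hm, rfl⟩ := key y hy
    have m1 : ∀ u : L, (u = 1 ∨ u = c) → u ∈ Pt π z := by
      rintro _ (rfl | rfl)
      exacts [one_mem _, hcP]
    have m2 : ∀ v : L, (v = 1 ∨ v = h') → v ∈ Pt π z := by
      rintro _ (rfl | rfl)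
      exacts [one_mem _, hh]
    refine comm_mem N_nor (mul_mem (m1 _ hu) (m2 _ hv)) (mul_mem (m1 _ hu') (m2 _ hv')) ?_ hn hm
    have hv2 : v * v' = v' * v := by
      rcases hv with rfl | rfl <;> rcases hv' with rfl | rfl <;> simp
    calc u * v * (u' * v') = u * (v * u') * v' := by group
      _ = u * (u' * v) * v' := by rw [cs H.hd hu']
      _ = (u * u') * (v * v') := by group
      _ = (u' * u) * (v' * v) := by rw [cs H.hd hu, hv2]
      _ = u' * (u * v') * v := by group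
      _ = u' * (v' * u) * v := by rw [cs H.hd hu]
      _ = _ := by group
  exact h7 h3

/-- `N` centralises `e` -/
theorem N_e (H : LC π c e a' z a P1 R E) {n : L} (hn : n ∈ N π z) : n * e = e * n := by
  have h1 : N π z ≤ centralizer {e} := by
    have h2 : ⁅N π z, N π z⁆ = N π z := PC_perf _
    rw [← h2, commutator_le]
    have key : ∀ x ∈ N π z, ∃ s, (s = 1 ∨ s = c) ∧ e * x * e⁻¹ = s * x := by
      intro x hx
      have h3 : π (e * x * e⁻¹) = π x := by
        have h4 : π x * z = z * π x :=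
          mem_centralizer_singleton_iff.1 (show π x ∈ centralizer {z} from PC_le (Pt π z) hx)
        rw [map_mul, map_mul, map_inv, H.pe, ← h4, mul_inv_cancel_right]
      rcases eq_or H.hd h3 with h | h
      · exact ⟨1, Or.inl rfl, by rw [one_mul]; exact h⟩
      · exact ⟨c, Or.inr rfl, h⟩
    intro x hx y hy
    obtain ⟨s, hs, h3⟩ := key x hx
    obtain ⟨t, ht, h4⟩ := key y hy
    rw [mem_centralizer_singleton_iff]
    have hs' := cs H.hd hs
    have ht' := cs H.hd ht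
    have h5 : e * ⁅x, y⁆ * e⁻¹ = ⁅x, y⁆ := by
      have e1 : e * ⁅x, y⁆ * e⁻¹ = ⁅e * x * e⁻¹, e * y * e⁻¹⁆ := by
        rw [commutatorElement_def, commutatorElement_def]; group
      rw [e1, h3, h4, commutatorElement_def, commutatorElement_def]
      calc s * x * (t * y) * (s * x)⁻¹ * (t * y)⁻¹ = (s * (x * t * y * x⁻¹)) * s⁻¹ * y⁻¹ * t⁻¹ := by group
        _ = ((x * t * y * x⁻¹) * s) * s⁻¹ * y⁻¹ * t⁻¹ := by rw [hs']
        _ = x * (t * (y * x⁻¹ * y⁻¹)) * t⁻¹ := by group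
        _ = x * ((y * x⁻¹ * y⁻¹) * t) * t⁻¹ := by rw [ht']
        _ = _ := by group
    exact (mul_inv_eq_iff_eq_mul.1 h5).symm
  exact mem_centralizer_singleton_iff.1 (h1 hn)

theorem cen_le (H : LC π c e a' z a P1 R E) : centralizer {e} ≤ Pt π z := by
  intro x hx
  have h1 := mem_centralizer_singleton_iff.1 hx
  show π x ∈ centralizer {z}
  rw [mem_centralizer_singleton_iff, ← H.pe, ← map_mul, h1, map_mul]

theorem PCen_e (H : LC π c e a' z a P1 R E) : PCen e = N π z :=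
  le_antisymm (PC_mono H.cen_le) (le_PC (fun _ hn => mem_centralizer_singleton_iff.2 (H.N_e hn)) (PC_perf _))

theorem PCen_ec (H : LC π c e a' z a P1 R E) : PCen (e * c) = N π z := by
  rw [← H.PCen_e]
  show PC _ = PC _
  congr 1
  ext x
  rw [mem_centralizer_singleton_iff, mem_centralizer_singleton_iff]
  constructor
  · intro h
    have h1 : x * e * c = e * x * c := by
      calc x * e * c = x * (e * c) := by group
        _ = e * (c * x) := by rw [h]; group
        _ = e * x * c := by rw [H.hd.cen]; group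
    exact mul_right_cancel h1
  · intro h
    calc x * (e * c) = x * e * c := by group
      _ = e * (x * c) := by rw [h]; group
      _ = e * c * x := by rw [← H.hd.cen]; group

/-- (N1) -/
theorem not_conj (H : LC π c e a' z a P1 R E) : ¬ IsConj e (e * c) := by
  intro h0
  obtain ⟨g, hg⟩ := isConj_iff.1 h0
  have hgP : π g ∈ centralizer {z} := by
    rw [mem_centralizer_singleton_iff]
    have := congrArg π hg
    rw [map_mul, map_mul, map_mul, pc H.hd, mul_one, map_inv, H.pe] at this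
    exact mul_inv_eq_iff_eq_mul.1 this
  obtain ⟨h, hh, hz, hhz, hc⟩ := H.F.cover
  obtain ⟨h', rfl⟩ := H.hd.surj h
  have key : ∀ y, π y ∈ P1 → y * e = e * y := by
    intro y hy
    rcases H.N_surj hy with h1 | h1
    · exact H.N_e h1
    · have h2 := H.N_e h1
      have h3 : c * (y * e) = c * (e * y) := by
        calc c * (y * e) = c * y * e := by group
          _ = e * (c * y) := h2
          _ = (e * c) * y := by group
          _ = (c * e) * y := by rw [H.hd.cen]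
          _ = _ := by group
      exact mul_left_cancel h3
  have hcomm : g * e = e * g := by
    rcases hc _ hgP with h1 | h1
    · exact key g h1
    · rw [← map_inv, ← map_mul] at h1
      have h2 := key _ h1
      have h3 : h' * h' = 1 := H.two _ hz
      have h4 : h' * e * (h' * e) = 1 := H.two _ (by rw [map_mul, H.pe]; exact hhz)
      have h5 : h' * e = e * h' := by
        have h6 : h'⁻¹ = h' := inv_eq_of_mul_eq_one_left h3
        have h7 : e⁻¹ = e := inv_eq_of_mul_eq_one_left H.ee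
        calc h' * e = (h' * e)⁻¹ := (inv_eq_of_mul_eq_one_left h4).symm
          _ = e⁻¹ * h'⁻¹ := by group
          _ = e * h' := by rw [h6, h7]
      calc g * e = h' * (h'⁻¹ * g * e) := by group
        _ = h' * (e * (h'⁻¹ * g)) := by rw [h2]
        _ = (h' * e) * (h'⁻¹ * g) := by group
        _ = (e * h') * (h'⁻¹ * g) := by rw [h5]
        _ = _ := by group
  rw [hcomm, mul_inv_cancel_right] at hg
  exact H.hd.ne (mul_eq_left.1 hg.symm)

theorem not_conj' (H : LC π c e a' z a P1 R E) {x y : L} (hx : IsConj e x) (hy : IsConj e (c * y)) :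
    ¬ IsConj x y := by
  intro h
  apply H.not_conj
  -- `e ~ x ~ y` and `c y ~ e`, so `e ~ y ~ c e`
  obtain ⟨g, hg⟩ := isConj_iff.1 (hx.trans h)
  have h1 : IsConj (e * c) (c * y) := by
    rw [isConj_iff]
    refine ⟨g, ?_⟩
    rw [← hg]
    calc g * (e * c) * g⁻¹ = g * e * (c * g⁻¹) := by group
      _ = g * e * (g⁻¹ * c) := by rw [H.hd.cen]
      _ = (g * e * g⁻¹) * c := by group
      _ = _ := (H.hd.cen _).symm
  exact hy.trans h1.symm

end LC

end Cfsg.Agent.OddHalf.D9.Ru.XF
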